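import Groth.Agent.CAlg1.Serre
import Groth.Agent.CAlg5.FlatDescent
import Groth.Prelude.Def_Curv2

/-! Regularity along flat maps and base change at a point. -/
universe u
open CategoryTheory CategoryTheory.Limits AlgebraicGeometry
set_option backward.isDefEq.respectTransparency.types false

namespace Groth.Agent.VarGal

theorem flat_fromSpecStalk {X : Scheme.{u}} (x : X) : Flat (X.fromSpecStalk x) := by
  obtain ⟨_, ⟨U, hU, rfl⟩, hxU, -⟩ := X.isBasis_affineOpens.exists_subset_of_mem_open (Set.mem_univ x) isOpen_univ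
  rw [← hU.fromSpecStalk_eq_fromSpecStalk hxU, IsAffineOpen.fromSpecStalk]
  have : Flat (Spec.map (X.presheaf.germ U x hxU)) := by
    rw [Flat.SpecMap_iff]
    let := TopCat.Presheaf.algebra_section_stalk X.presheaf ⟨x, hxU⟩
    have := hU.isLocalization_stalk ⟨x, hxU⟩
    exact RingHom.flat_algebraMap_iff.mpr (IsLocalization.flat _ (hU.primeIdealOf ⟨x, hxU⟩).asIdeal.primeCompl)
  infer_instance

/-- A flat preimmersion induces isomorphisms of local rings. -/
theorem bijective_stalkMap_of_flat_preimmersion {X Y : Scheme.{u}} (i : X ⟶ Y) [IsPreimmersion i] [Flat i] (x : X) :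
    Function.Bijective (i.stalkMap x).hom := by
  refine ⟨?_, i.stalkMap_surjective x⟩
  algebraize [(i.stalkMap x).hom]
  have : Module.FaithfullyFlat (Y.presheaf.stalk (i x)) (X.presheaf.stalk x) :=
    @Module.FaithfullyFlat.of_flat_of_isLocalHom _ _ _ _ _ _ _ (Flat.stalkMap i x) (i.toLRSHom.prop x)
  exact ‹RingHom.FaithfullyFlat _›.injective

theorem isRegularLocalRing_of_flat {X Y : Scheme.{u}} (h : X ⟶ Y) [Flat h] (x : X)
    [IsRegularLocalRing (X.presheaf.stalk x)] : IsRegularLocalRing (Y.presheaf.stalk (h x)) := by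
  algebraize [(h.stalkMap x).hom]
  have hl : IsLocalHom (algebraMap (Y.presheaf.stalk (h x)) (X.presheaf.stalk x)) := h.toLRSHom.prop x
  have hf : Module.Flat (Y.presheaf.stalk (h x)) (X.presheaf.stalk x) := Flat.stalkMap h x
  have : Module.FaithfullyFlat (Y.presheaf.stalk (h x)) (X.presheaf.stalk x) := .of_flat_of_isLocalHom
  have := Groth.Agent.CAlg5.isNoetherianRing_of_faithfullyFlat (Y.presheaf.stalk (h x)) (X.presheaf.stalk x)
  exact Groth.Agent.CAlg1.regular_of_flat (Y.presheaf.stalk (h x)) (X.presheaf.stalk x)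

theorem exists_base_change_flat_at {X Y S T : Scheme.{u}} (gX : X ⟶ S) (gY : Y ⟶ S) (t : T ⟶ S) (f : X ⟶ Y)
    (hf : f ≫ gY = gX) (x : X) (hflat : (f.stalkMap x).hom.Flat) (y' : ↥(pullback gY t))
    (hy' : pullback.fst gY t y' = f x) :
    ∃ x' : ↥(pullback gX t), pullback.fst gX t x' = x ∧
      (IsRegularLocalRing ((pullback gX t).presheaf.stalk x') → IsRegularLocalRing ((pullback gY t).presheaf.stalk y')) := by
  subst hf
  let Z := Spec (X.presheaf.stalk x)
  let i : Z ⟶ X := X.fromSpecStalk x
  let g : Z ⟶ Y := i ≫ f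
  have hi := flat_fromSpecStalk x
  have : Flat g := by
    have h1 : Flat (Spec.map (f.stalkMap x)) := (Flat.SpecMap_iff).mpr hflat
    have h2 := flat_fromSpecStalk (f x)
    rw [show g = Spec.map (f.stalkMap x) ≫ Y.fromSpecStalk (f x) from (Scheme.SpecMap_stalkMap_fromSpecStalk f).symm]
    infer_instance
  let iT : pullback (g ≫ gY) t ⟶ pullback (f ≫ gY) t :=
    pullback.map _ _ _ _ i (𝟙 _) (𝟙 _) (by simp [g]) (by simp)
  let gT : pullback (g ≫ gY) t ⟶ pullback gY t :=
    pullback.map _ _ _ _ g (𝟙 _) (𝟙 _) (by simp [g]) (by simp)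
  have : Flat iT := MorphismProperty.pullbackMap (P := @Flat) hi (inferInstance : Flat (𝟙 T)) (by simp [g, i]) (by simp)
  have : IsPreimmersion iT := MorphismProperty.pullbackMap (P := @IsPreimmersion) (inferInstance : IsPreimmersion i) (inferInstance : IsPreimmersion (𝟙 T)) (by simp [g]) (by simp)
  have : Flat gT := MorphismProperty.pullbackMap (P := @Flat) ‹Flat g› (inferInstance : Flat (𝟙 T)) (by simp [g]) (by simp)
  let z : Z := IsLocalRing.closedPoint (X.presheaf.stalk x)
  have hiz : i z = x := Scheme.fromSpecStalk_closedPoint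
  obtain ⟨w, hw1, hw2⟩ := Scheme.Pullback.exists_preimage_pullback (f := g) (g := pullback.fst gY t) z y'
    (by rw [hy']; exact congrArg f hiz)
  let z' := (pullbackRightPullbackFstIso gY t g).hom w
  have hgT : gT z' = y' := by
    have : (pullbackRightPullbackFstIso gY t g).hom ≫ gT = pullback.snd g (pullback.fst gY t) := by
      dsimp only [gT, pullback.map]
      apply pullback.hom_ext
      · rw [Category.assoc, pullback.lift_fst, pullbackRightPullbackFstIso_hom_fst_assoc, pullback.condition]
      · rw [Category.assoc, pullback.lift_snd, Category.comp_id, pullbackRightPullbackFstIso_hom_snd]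
    rw [← hw2, ← this, Scheme.Hom.comp_apply]
  refine ⟨iT z', ?_, fun h => ?_⟩
  · rw [← Scheme.Hom.comp_apply]
    have : iT ≫ pullback.fst _ t = pullback.fst _ _ ≫ i := pullback.lift_fst _ _ _
    rw [this, Scheme.Hom.comp_apply]
    have h1 : pullback.fst (g ≫ gY) t z' = z := by
      rw [← hw1, ← Scheme.Hom.comp_apply]
      congr 2
      simp [g]
    rw [h1, hiz]
  · have e : (pullback (f ≫ gY) t).presheaf.stalk (iT z') ≃+* (pullback (g ≫ gY) t).presheaf.stalk z' :=
      RingEquiv.ofBijective _ (bijective_stalkMap_of_flat_preimmersion iT z')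
    have := IsRegularLocalRing.of_ringEquiv e
    rw [← hgT]
    exact isRegularLocalRing_of_flat gT z'

end Groth.Agent.VarGal
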