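import Groth.Agent.Unr55.SmoothStalkCor
import Groth.Agent.AlgGrp79.ProdDense
import Groth.Prelude.Def_Curv2

/-! Smooth schemes over fields have regular local rings. -/
universe u
open CategoryTheory CategoryTheory.Limits AlgebraicGeometry

namespace Groth.Agent.VarGal

theorem isRegularLocalRing_stalk_spec_field (k : Type u) [Field k] (y : ↥(Spec (CommRingCat.of k))) :
    IsRegularLocalRing ((Spec (CommRingCat.of k)).presheaf.stalk y) := by
  let P : Ideal k := (show PrimeSpectrum k from y).asIdeal
  have : IsRegularLocalRing k := inferInstance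
  have hu : P.primeCompl ≤ IsUnit.submonoid k := fun a ha => (isUnit_iff_ne_zero.2 fun h => ha (by rw [h]; exact P.zero_mem))
  exact IsRegularLocalRing.of_ringEquiv ((IsLocalization.atUnits k P.primeCompl (S := Localization.AtPrime P) hu).toRingEquiv.trans
    (Spec.stalkIso (CommRingCat.of k) y).symm.commRingCatIsoToRingEquiv)

theorem isRegularLocalRing_stalk_of_smooth {k : Type u} [Field k] {X : Scheme.{u}}
    (f : X ⟶ Spec (CommRingCat.of k)) [Smooth f] (x : X) : IsRegularLocalRing (X.presheaf.stalk x) := by
  have hx : x ∈ f.smoothLocus := by rw [f.smoothLocus_eq_top]; trivial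
  exact (Unr55.isRegularLocalRing_stalk_iff_of_smooth f x (Scheme.Hom.mem_smoothLocus.1 hx)).2
    (isRegularLocalRing_stalk_spec_field k _)

theorem isGeomRegularAt_of_smooth {k : Type u} [Field k] {X : Scheme.{u}} [X.Over (Spec (CommRingCat.of k))]
    [Smooth (X ↘ (Spec (CommRingCat.of k)))] (x : X) : Curv2.IsGeomRegularAt k X x := by
  intro k' _ _ _ x' _
  exact isRegularLocalRing_stalk_of_smooth (pullback.snd (X ↘ (Spec (CommRingCat.of k))) (Spec.map (CommRingCat.ofHom (algebraMap k k')))) x'

end Groth.Agent.VarGal
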