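import Groth.Agent.VarGal.TensorDim
import Groth.Agent.LC17.SpecDim
import Mathlib.AlgebraicGeometry.AffineSpace

universe u
open TopologicalSpace CategoryTheory AlgebraicGeometry

/-! Intersections of closed sets in affine space. -/

namespace Groth.Agent.VarGal

theorem exists_maximal_of_component {T : Type*} [TopologicalSpace T] [QuasiSober T] [T0Space T]
    {W : Set T} (hW : IsClosed W) (Z : Set ↥W) (hZ : Z ∈ irreducibleComponents ↥W) :
    ∃ η : T, η ∈ W ∧ (∀ ξ ∈ W, ξ ⤳ η → ξ = η) ∧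
      topologicalKrullDim Z = topologicalKrullDim (closure ({η} : Set T)) ∧
      Subtype.val '' Z = closure {η} := by
  have := hW.isClosedEmbedding_subtypeVal.quasiSober
  have hg := hZ.1.isGenericPoint_genericPoint (isClosed_of_mem_irreducibleComponents Z hZ)
  set g := hZ.1.genericPoint
  have himg : Subtype.val '' Z = closure ({g.1} : Set T) := by
    rw [← hg.def, ← hW.isClosedEmbedding_subtypeVal.closure_image_eq, Set.image_singleton]
  refine ⟨g.1, g.2, fun ξ hξ hs => ?_, ?_, himg⟩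
  · have hs' : (⟨ξ, hξ⟩ : ↥W) ⤳ g := (subtype_specializes_iff _ _).2 hs
    have h1 : Z ⊆ closure {(⟨ξ, hξ⟩ : ↥W)} := by
      rw [← hg.def]; exact specializes_iff_closure_subset.1 hs'
    have h2 : closure {(⟨ξ, hξ⟩ : ↥W)} = Z := (hZ.2 isIrreducible_singleton.closure h1).antisymm h1
    exact congrArg Subtype.val (IsGenericPoint.eq (show IsGenericPoint (⟨ξ, hξ⟩ : ↥W) Z from h2) hg)
  · rw [← himg]
    exact (Topology.IsEmbedding.subtypeVal.homeomorphImage Z).isHomeomorph.topologicalKrullDim_eq _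

theorem exists_maximal_above {T : Type*} [TopologicalSpace T] [QuasiSober T] [T0Space T]
    {W : Set T} (hW : IsClosed W) {x : T} (hx : x ∈ W) :
    ∃ η : T, η ∈ W ∧ η ⤳ x ∧ ∃ Z ∈ irreducibleComponents ↥W,
      topologicalKrullDim Z = topologicalKrullDim (closure ({η} : Set T)) := by
  obtain ⟨η, h1, -, h3, h4⟩ := exists_maximal_of_component hW _
    (irreducibleComponent_mem_irreducibleComponents (⟨x, hx⟩ : ↥W))
  refine ⟨η, h1, ?_, _, irreducibleComponent_mem_irreducibleComponents _, h3⟩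
  rw [specializes_iff_mem_closure, ← h4]
  exact ⟨_, mem_irreducibleComponent, rfl⟩

variable {k : Type u} [Field k] {S : Type u} [CommRing S] [Algebra k S] [Algebra.FiniteType k S]

theorem dim_closure_eq_trdegQuot (p : PrimeSpectrum S) :
    topologicalKrullDim (closure ({p} : Set (PrimeSpectrum S))) = (CAlgH2.trdegQuot k p.asIdeal : ℕ) := by
  have h : closure ({p} : Set (PrimeSpectrum S)) = PrimeSpectrum.zeroLocus (p.asIdeal : Set S) :=
    PrimeSpectrum.closure_singleton p
  have : Algebra.FiniteType k (S ⧸ p.asIdeal) :=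
    Algebra.FiniteType.of_surjective (Ideal.Quotient.mkₐ k p.asIdeal) Ideal.Quotient.mk_surjective
  rw [h, LC17.dim_zeroLocus, E4O.ringKrullDim_eq_trdeg k]
  rfl

/-- Components of intersections of equidimensional closed sets in affine `N`-space. -/
theorem dim_component_inter_ge {T : Type u} [TopologicalSpace T] (e : T ≃ₜ PrimeSpectrum S) {N : ℕ}
    (x : Fin N → S) (hx : Algebra.adjoin k (Set.range x) = ⊤) (r s : ℕ)
    (X Y : Set T) (hX : IsClosed X) (hY : IsClosed Y)
    (hXr : ∀ Z ∈ irreducibleComponents X, topologicalKrullDim Z = r)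
    (hYs : ∀ Z ∈ irreducibleComponents Y, topologicalKrullDim Z = s)
    (Z : Set ↥(X ∩ Y)) (hZ : Z ∈ irreducibleComponents ↥(X ∩ Y)) :
    ((r + s : ℕ) : WithBot ℕ∞) ≤ topologicalKrullDim Z + (N : WithBot ℕ∞) := by
  have : QuasiSober T := e.isClosedEmbedding.quasiSober
  have : T0Space T := e.isEmbedding.t0Space
  have hd : ∀ η : T, topologicalKrullDim (closure ({η} : Set T)) = (CAlgH2.trdegQuot k (e η).asIdeal : ℕ) := by
    intro η
    rw [← dim_closure_eq_trdegQuot (k := k) (e η),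
      (e.isEmbedding.homeomorphImage (closure ({η} : Set T))).isHomeomorph.topologicalKrullDim_eq _,
      e.image_closure, Set.image_singleton]
  have hle : ∀ a b : T, (e a).asIdeal ≤ (e b).asIdeal ↔ a ⤳ b := fun a b =>
    (PrimeSpectrum.le_iff_specializes (e a) (e b)).trans e.isInducing.specializes_iff
  obtain ⟨ω, hω, hmax, hdim, -⟩ := exists_maximal_of_component (hX.inter hY) Z hZ
  obtain ⟨a, haX, haω, Za, hZa, hdimA⟩ := exists_maximal_above hX hω.1
  obtain ⟨b, hbY, hbω, Zb, hZb, hdimB⟩ := exists_maximal_above hY hω.2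
  have hmin : (e ω).asIdeal ∈ ((e a).asIdeal ⊔ (e b).asIdeal).minimalPrimes := by
    refine ⟨⟨inferInstance, sup_le ((hle a ω).2 haω) ((hle b ω).2 hbω)⟩, fun w ⟨hwp, hw⟩ hwle => ?_⟩
    obtain ⟨ξ, hξ⟩ := e.surjective ⟨w, hwp⟩
    have hξw : (e ξ).asIdeal = w := congrArg PrimeSpectrum.asIdeal hξ
    have hξω : ξ = ω := hmax ξ
      ⟨((hle a ξ).1 (hξw ▸ le_sup_left.trans hw)).mem_closed hX haX,
        ((hle b ξ).1 (hξw ▸ le_sup_right.trans hw)).mem_closed hY hbY⟩
      ((hle ξ ω).1 (hξw ▸ hwle))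
    rw [← hξw, hξω]
  have key := trdegQuot_add_le_of_minimalPrimes x hx (e a).asIdeal (e b).asIdeal (e ω).asIdeal hmin
  have h1 := hd a
  rw [← hdimA, hXr Za hZa] at h1
  have h2 := hd b
  rw [← hdimB, hYs Zb hZb] at h2
  have e1 : r = CAlgH2.trdegQuot k (e a).asIdeal := by exact_mod_cast h1
  have e2 : s = CAlgH2.trdegQuot k (e b).asIdeal := by exact_mod_cast h2
  rw [hdim, hd ω, e1, e2]
  exact_mod_cast key

end Groth.Agent.VarGal
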