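import Groth.Agent.VarGal.Components
import Groth.Agent.FBase64.GeomIrred
import Mathlib.RingTheory.Polynomial.Nilpotent
import Mathlib.Dynamics.Newton
import Mathlib.LinearAlgebra.Dual.Lemmas
import Mathlib.FieldTheory.Separable

universe u

/-! Residue maps, and separable elements at the generic point. -/

set_option backward.isDefEq.respectTransparency.types false

namespace Groth.Agent.VarGal

open CategoryTheory CategoryTheory.Limits AlgebraicGeometry TensorProduct

section

variable {k : Type u} [Field k] {X : Scheme.{u}} [X.Over (Spec (CommRingCat.of k))]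

theorem SpecMap_resMap (x : X) : Spec.map (CommRingCat.ofHom (Curv2.resMap k X x)) =
    X.fromSpecResidueField x ≫ (X ↘ Spec (CommRingCat.of k)) := by
  have : CommRingCat.ofHom (Curv2.resMap k X x) = (Scheme.ΓSpecIso (CommRingCat.of k)).inv ≫
      (X ↘ Spec (CommRingCat.of k)).appTop ≫ X.presheaf.germ ⊤ x trivial ≫ X.residue x := rfl
  rw [this, Scheme.fromSpecResidueField, Category.assoc]
  simp only [Spec.map_comp, Category.assoc]
  congr 1
  rw [← Scheme.fromSpecStalk_toSpecΓ_assoc, ← Scheme.toSpecΓ_naturality_assoc]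
  congr 1
  rw [← SpecMap_ΓSpecIso_hom, ← Spec.map_comp, Iso.inv_hom_id, Spec.map_id, Category.comp_id]

theorem residueFieldProp_of_resMap (x : X) {P : ∀ (K : Type u) [Field K] [Algebra k K], Prop}
    (h : letI := Curv2.resAlgebra k X x; P (X.residueField x)) :
    FBase.ResidueFieldProp (X ↘ Spec (CommRingCat.of k)) x P :=
  ⟨Curv2.resMap k X x, SpecMap_resMap x, h⟩

end

/-- If `κ ⊗ κ` has irreducible spectrum then separable elements of `κ` lie in the base. -/
theorem mem_range_of_irreducibleSpace_tensor {k κ : Type u} [Field k] [Field κ] [Algebra k κ]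
    [IrreducibleSpace (PrimeSpectrum (κ ⊗[k] κ))] {a : κ} (ha : IsSeparable k a) :
    a ∈ Set.range (algebraMap k κ) := by
  by_contra hne
  have hprime : (nilradical (κ ⊗[k] κ)).IsPrime :=
    PrimeSpectrum.irreducibleSpace_iff_isPrime_nilradical.mp inferInstance
  let u : κ ⊗[k] κ := a ⊗ₜ 1
  let v : κ ⊗[k] κ := 1 ⊗ₜ a
  let P : Polynomial (κ ⊗[k] κ) := (minpoly k a).map (algebraMap k (κ ⊗[k] κ))
  have hu : Polynomial.aeval u (minpoly k a) = 0 := by
    have : u = Algebra.TensorProduct.includeLeft (R := k) (S := k) (B := κ) a := rfl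
    rw [this, Polynomial.aeval_algHom_apply, minpoly.aeval, map_zero]
  have hv : Polynomial.aeval v (minpoly k a) = 0 := by
    have : v = Algebra.TensorProduct.includeRight (R := k) (A := κ) a := rfl
    rw [this, Polynomial.aeval_algHom_apply, minpoly.aeval, map_zero]
  have hnil : IsNilpotent (v - u) := by
    have hroot : P.IsRoot u := by rw [Polynomial.IsRoot, Polynomial.eval_map, ← Polynomial.aeval_def, hu]
    obtain ⟨Q, hQ⟩ := Polynomial.dvd_iff_isRoot.2 hroot
    have h0 : (v - u) * Q.eval v ∈ nilradical (κ ⊗[k] κ) := by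
      have : P.eval v = 0 := by rw [Polynomial.eval_map, ← Polynomial.aeval_def, hv]
      rw [hQ, Polynomial.eval_mul, Polynomial.eval_sub, Polynomial.eval_X, Polynomial.eval_C] at this
      rw [this]; exact Ideal.zero_mem _
    refine mem_nilradical.1 ((hprime.mem_or_mem h0).resolve_right fun hQv => ?_)
    let μ : κ ⊗[k] κ →ₐ[k] κ := Algebra.TensorProduct.lmul' k (S := κ)
    have h1 : μ (Q.eval v) = 0 := ((mem_nilradical.1 hQv).map μ).eq_zero
    have h2 : P.map μ.toRingHom = (minpoly k a).map (algebraMap k κ) := by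
      rw [Polynomial.map_map]; congr 1; exact μ.comp_algebraMap
    have h3 : ((minpoly k a).map (algebraMap k κ)) = (Polynomial.X - Polynomial.C a) * Q.map μ.toRingHom := by
      rw [← h2, hQ, Polynomial.map_mul, Polynomial.map_sub, Polynomial.map_X, Polynomial.map_C]
      congr 3
      simp [μ, u]
    have h4 : (Q.map μ.toRingHom).eval a = 0 := by
      have : a = μ.toRingHom v := by simp [μ, v]
      rw [this, Polynomial.eval_map, Polynomial.eval₂_hom]
      exact h1
    have hsep : ((minpoly k a).map (algebraMap k κ)).Separable := Polynomial.Separable.map ha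
    rw [h3] at hsep
    have hdvd : Polynomial.X - Polynomial.C a ∣ Q.map μ.toRingHom := Polynomial.dvd_iff_isRoot.2 h4
    exact Polynomial.not_isUnit_X_sub_C a (hsep.isCoprime.isUnit_of_dvd' dvd_rfl hdvd)
  have heq : v = u := by
    have hunit : IsUnit (Polynomial.aeval u (Polynomial.derivative (minpoly k a))) := by
      obtain ⟨r, s, hrs⟩ := ha
      have := congrArg (Polynomial.aeval u) hrs
      rw [map_add, map_mul, map_mul, hu, mul_zero, zero_add, map_one] at this
      exact IsUnit.of_mul_eq_one_right _ this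
    obtain ⟨r, -, huniq⟩ := Polynomial.existsUnique_nilpotent_sub_and_aeval_eq_zero
      (P := minpoly k a) (x := u) (by rw [hu]; exact IsNilpotent.zero) hunit
    exact (huniq v ⟨by rw [← neg_sub]; exact hnil.neg, hv⟩).trans
      (huniq u ⟨by rw [sub_self]; exact IsNilpotent.zero, hu⟩).symm
  obtain ⟨ψ, hψa, hψ⟩ := Submodule.exists_dual_map_eq_bot_of_notMem (R := k)
    (p := Submodule.span k {(1 : κ)}) (x := a) (fun h => hne (by
      obtain ⟨c, hc⟩ := Submodule.mem_span_singleton.1 h
      exact ⟨c, by rw [← hc, Algebra.smul_def, mul_one]⟩)) inferInstance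
  have hψ1 : ψ 1 = 0 := by
    have : ψ 1 ∈ (Submodule.span k {(1 : κ)}).map ψ := ⟨1, Submodule.mem_span_singleton_self 1, rfl⟩
    rw [hψ] at this
    simpa using this
  have := congrArg (TensorProduct.lift ((LinearMap.lsmul k κ).comp ψ)) heq
  simp [u, v, hψ1] at this
  exact hψa (by simpa [Algebra.smul_def] using this.symm)

theorem isIrreducible_of_mem_genericPoint {A : Type*} [TopologicalSpace A] {s : Set A} {g : A}
    (hg : IsGenericPoint g Set.univ) (h : g ∈ s) : IsIrreducible s :=
  ⟨⟨g, h⟩, fun _ _ hU hV ⟨a, _, haU⟩ ⟨b, _, hbV⟩ =>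
    ⟨g, h, (hg.specializes (Set.mem_univ a)).mem_open hU haU, (hg.specializes (Set.mem_univ b)).mem_open hV hbV⟩⟩

/-- Spectrum of `κ ⊗ κ` is irreducible if the generic point of `X × X` lies over the point. -/
theorem irreducibleSpace_tensor_of_pullback {k : Type u} [Field k] {X : Scheme.{u}}
    (f : X ⟶ Spec (CommRingCat.of k)) {κ L : Type u} [Field κ] [Algebra k κ] [Field L] [Algebra k L]
    {Y : Scheme.{u}} (g : Y ⟶ Spec (CommRingCat.of k))
    (j : Spec (CommRingCat.of κ) ⟶ X) [IsPreimmersion j]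
    (hj : j ≫ f = Spec.map (CommRingCat.ofHom (algebraMap k κ)))
    (j' : Spec (CommRingCat.of L) ⟶ Y) [IsPreimmersion j']
    (hj' : j' ≫ g = Spec.map (CommRingCat.ofHom (algebraMap k L)))
    [IrreducibleSpace ↥(pullback f g)]
    (h1 : pullback.fst f g (genericPoint ↥(pullback f g)) ∈ Set.range j)
    (h2 : pullback.snd f g (genericPoint ↥(pullback f g)) ∈ Set.range j') :
    IrreducibleSpace (PrimeSpectrum (κ ⊗[k] L)) := by
  let m := FBase64.prodChart f g j j' hj hj'
  have : IsPreimmersion m := by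
    have h3 : IsPreimmersion (pullback.map _ _ f g j j' (𝟙 _) (by simpa using hj.symm) (by simpa using hj'.symm)) :=
      MorphismProperty.pullbackMap (P := @IsPreimmersion) ‹IsPreimmersion j› ‹IsPreimmersion j'› hj.symm hj'.symm
    unfold m FBase64.prodChart; infer_instance
  have hmem : genericPoint ↥(pullback f g) ∈ Set.range m := by
    rw [FBase64.range_prodChart]; exact ⟨h1, h2⟩
  have hirr := isIrreducible_of_mem_genericPoint
    (genericPoint_spec (α := ↥(pullback f g))) hmem
  show IrreducibleSpace ↥(Spec (CommRingCat.of (κ ⊗[k] L)))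
  rw [irreducibleSpace_def]
  obtain ⟨⟨_, ⟨y, rfl⟩⟩, hpre⟩ := hirr
  refine ⟨⟨y, trivial⟩, ?_⟩
  rintro u v hu hv ⟨a, -, ha⟩ ⟨b, -, hb⟩
  obtain ⟨u', hu', rfl⟩ := m.isEmbedding.isInducing.isOpen_iff.1 hu
  obtain ⟨v', hv', rfl⟩ := m.isEmbedding.isInducing.isOpen_iff.1 hv
  obtain ⟨_, ⟨c, rfl⟩, hc⟩ := hpre u' v' hu' hv' ⟨_, ⟨a, rfl⟩, ha⟩ ⟨_, ⟨b, rfl⟩, hb⟩
  exact ⟨c, trivial, hc⟩

end Groth.Agent.VarGal
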