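import Groth.Agent.CAlgH2.LocalDimField
import Groth.Agent.WC97.Dim
import Groth.Agent.VarGal.Generic

/-! Dimension formula at points of schemes locally of finite type over a field. -/
universe u
open CategoryTheory AlgebraicGeometry TopologicalSpace
noncomputable section
set_option backward.isDefEq.respectTransparency.types false

namespace Groth.Agent.VarGal

theorem localDim_isOpenEmbedding {A B : Type*} [TopologicalSpace A] [TopologicalSpace B] {j : A → B}
    (hj : Topology.IsOpenEmbedding j) (a : A) : FlatMor.localDim A a = FlatMor.localDim B (j a) := by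
  refine le_antisymm (le_iInf fun U => ?_) (le_iInf fun V => ?_)
  · refine (TopDim50.localDim_le ⟨j ⁻¹' U.1, U.1.isOpen.preimage hj.continuous⟩ U.2).trans ?_
    exact (Topology.IsEmbedding.isInducing ((hj.isEmbedding.comp Topology.IsEmbedding.subtypeVal).codRestrict U.1 fun z => z.2)).topologicalKrullDim_le
  · refine (TopDim50.localDim_le ⟨j '' V.1, hj.isOpenMap _ V.1.isOpen⟩ ⟨a, V.2, rfl⟩).trans ?_
    exact (hj.isEmbedding.homeomorphImage _).symm.isInducing.topologicalKrullDim_le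

set_option backward.isDefEq.respectTransparency.types true in
theorem height_map_eq_one_of_covBy {S : Type u} [CommRing S] [IsNoetherianRing S] (P Q : PrimeSpectrum S)
    (h : P ⋖ Q) : (Q.asIdeal.map (Ideal.Quotient.mk P.asIdeal)).height = 1 := by
  let φ := Ideal.Quotient.mk P.asIdeal
  have hle : P.asIdeal ≤ Q.asIdeal := h.le
  have hpr : (Q.asIdeal.map φ).IsPrime := Ideal.isPrime_map_quotientMk_of_isPrime hle
  have hcomap : (Q.asIdeal.map φ).comap φ = Q.asIdeal := by
    rw [Ideal.comap_map_quotientMk, sup_eq_right.mpr hle]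
  let q : PrimeSpectrum (S ⧸ P.asIdeal) := ⟨Q.asIdeal.map φ, hpr⟩
  have hbot : ∀ y : PrimeSpectrum (S ⧸ P.asIdeal), y < q → y = ⊥ := by
    intro y hy
    let z : PrimeSpectrum S := ⟨y.asIdeal.comap φ, inferInstance⟩
    have hyz : z.asIdeal.map φ = y.asIdeal := Ideal.map_comap_of_surjective φ Ideal.Quotient.mk_surjective y.asIdeal
    have h1 : P ≤ z := fun a ha =>
      show φ a ∈ y.asIdeal by rw [show φ a = 0 from Ideal.Quotient.eq_zero_iff_mem.2 ha]; exact zero_mem _
    have h2le : z ≤ Q := le_trans (α := Ideal S) (Ideal.comap_mono hy.le) hcomap.le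
    have h2ne : z ≠ Q := fun e => hy.ne (PrimeSpectrum.ext (by rw [← hyz, e]))
    have h3 : z = P := (h.eq_or_eq h1 h2le).resolve_right h2ne
    refine PrimeSpectrum.ext ?_
    rw [← hyz, h3]
    exact Ideal.map_quotient_self _
  have hqe : (Q.asIdeal.map φ).height = Order.height q := PrimeSpectrum.height_eq_orderHeight q
  rw [hqe]
  refine Order.height_eq_coe_iff.2 ⟨?_, Or.inr ⟨⊥, ?_, by simp⟩, fun y hy => ?_⟩
  · rw [← hqe]; exact Ideal.height_lt_top hpr.ne_top
  · refine lt_of_le_of_ne bot_le fun e => h.lt.ne (PrimeSpectrum.ext ?_)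
    rw [← hcomap, ← show (⊥ : Ideal (S ⧸ P.asIdeal)) = Q.asIdeal.map φ from congrArg PrimeSpectrum.asIdeal e,
      ← RingHom.ker_eq_comap_bot, Ideal.mk_ker]
  · simp [hbot y hy]

variable {k : Type u} [Field k] {X : Scheme.{u}} (f : X ⟶ Spec (.of k)) [LocallyOfFiniteType f]

include f in
theorem exists_chart_localDim (x : X) :
    ∃ (S : Type u) (_ : CommRing S) (_ : Algebra k S) (_ : Algebra.FiniteType k S) (p : PrimeSpectrum S),
      FlatMor.localDim X x = ((CAlgH2.dimAt k p.asIdeal : ℕ∞) : WithBot ℕ∞) ∧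
      ringKrullDim (X.presheaf.stalk x) = p.asIdeal.height ∧
      WC97.tdegN f x = CAlgH2.trdegQuot k p.asIdeal ∧ (IsClosed ({x} : Set X) → p.asIdeal.IsMaximal) := by
  obtain ⟨_, ⟨U, hU, rfl⟩, hx, -⟩ := X.isBasis_affineOpens.exists_subset_of_mem_open (Set.mem_univ x) isOpen_univ
  let : Algebra k Γ(X, U) := (WC97.kSec f hU).toAlgebra
  have : Algebra.FiniteType k Γ(X, U) := WC97.kSec_finiteType f hU
  let p : PrimeSpectrum Γ(X, U) := hU.primeIdealOf ⟨x, hx⟩
  have hp : hU.fromSpec p = x := hU.fromSpec_primeIdealOf ⟨x, hx⟩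
  refine ⟨Γ(X, U), inferInstance, inferInstance, inferInstance, p, ?_, ?_, ?_, fun h => ?_⟩
  · rw [← CAlgH2.localDim_eq_dimAt k p.asIdeal]
    conv_lhs => rw [← hp]
    exact (localDim_isOpenEmbedding hU.fromSpec.isOpenEmbedding p).symm
  · let := TopCat.Presheaf.algebra_section_stalk X.presheaf (⟨x, hx⟩ : U)
    have := hU.isLocalization_stalk ⟨x, hx⟩
    exact IsLocalization.AtPrime.ringKrullDim_eq_height p.asIdeal (X.presheaf.stalk x)
  · unfold WC97.tdegN CAlgH2.trdegQuot
    rw [WC97.tdeg_eq_trdeg_quotient f hU hx]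
  · rw [← PrimeSpectrum.isClosed_singleton_iff_isMaximal]
    have : ({p} : Set (PrimeSpectrum Γ(X, U))) = hU.fromSpec ⁻¹' {x} := by
      ext q
      refine ⟨fun hq => by rw [Set.mem_singleton_iff.1 hq]; exact hp, fun hq => ?_⟩
      exact hU.fromSpec.isOpenEmbedding.injective ((Set.mem_singleton_iff.1 hq).trans hp.symm)
    rw [this]
    exact h.preimage hU.fromSpec.continuous

include f in
/-- The dimension formula at a point. -/
theorem localDim_eq_tdegN_add (x : X) :
    FlatMor.localDim X x = (WC97.tdegN f x : WithBot ℕ∞) + ringKrullDim (X.presheaf.stalk x) := by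
  obtain ⟨S, _, _, _, p, h1, h2, h3, -⟩ := exists_chart_localDim f x
  rw [h1, h2, h3, ← CAlgH2.height_add_trdegQuot_eq_dimAt k p.asIdeal, add_comm p.asIdeal.height]
  rfl

include f in
theorem tdegN_eq_zero_of_isClosed {x : X} (hx : IsClosed ({x} : Set X)) : WC97.tdegN f x = 0 := by
  obtain ⟨S, _, _, _, p, -, -, h3, h4⟩ := exists_chart_localDim f x
  have := h4 hx
  rw [h3, CAlgH2.trdegQuot_maximal]

theorem kStr_eq_resMap [X.Over (Spec (CommRingCat.of k))] (x : X) :
    WC97.kStr (X ↘ Spec (CommRingCat.of k)) x = Curv2.resMap k X x := by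
  have : CommRingCat.ofHom (WC97.kStr (X ↘ Spec (CommRingCat.of k)) x) = CommRingCat.ofHom (Curv2.resMap k X x) := by
    apply Spec.map_injective
    rw [SpecMap_resMap, WC97.kStr_spec]
  exact congrArg CommRingCat.Hom.hom this

theorem tdeg_eq_resAlgebra [X.Over (Spec (CommRingCat.of k))] (x : X) :
    WC97.tdeg (X ↘ Spec (CommRingCat.of k)) x =
      @Algebra.trdeg k (X.residueField x) _ _ (Curv2.resAlgebra k X x) := by
  unfold WC97.tdeg
  rw [kStr_eq_resMap]

theorem tdegN_eq_of_trdeg [X.Over (Spec (CommRingCat.of k))] (x : X) (n : ℕ)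
    (hn : @Algebra.trdeg k (X.residueField x) _ _ (Curv2.resAlgebra k X x) = n) :
    WC97.tdegN (X ↘ Spec (CommRingCat.of k)) x = n := by
  rw [WC97.tdegN, tdeg_eq_resAlgebra, hn, Cardinal.toNat_natCast]

include f in
/-- Along an immediate specialisation the transcendence degree drops by one. -/
theorem tdegN_of_immediate {x x' : X} (hne : x ≠ x') (hsp : x ⤳ x')
    (himm : ∀ y : X, x ⤳ y → y ⤳ x' → y = x ∨ y = x') : WC97.tdegN f x = WC97.tdegN f x' + 1 := by
  obtain ⟨_, ⟨U, hU, rfl⟩, hx', -⟩ := X.isBasis_affineOpens.exists_subset_of_mem_open (Set.mem_univ x') isOpen_univ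
  have hx : x ∈ U := hsp.mem_open U.2 hx'
  let : Algebra k Γ(X, U) := (WC97.kSec f hU).toAlgebra
  have : Algebra.FiniteType k Γ(X, U) := WC97.kSec_finiteType f hU
  let P : PrimeSpectrum Γ(X, U) := hU.primeIdealOf ⟨x, hx⟩
  let Q : PrimeSpectrum Γ(X, U) := hU.primeIdealOf ⟨x', hx'⟩
  have hP : hU.fromSpec P = x := hU.fromSpec_primeIdealOf ⟨x, hx⟩
  have hQ : hU.fromSpec Q = x' := hU.fromSpec_primeIdealOf ⟨x', hx'⟩
  have hspec : ∀ a b : PrimeSpectrum Γ(X, U), a ≤ b ↔ hU.fromSpec a ⤳ hU.fromSpec b := fun a b =>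
    (PrimeSpectrum.le_iff_specializes a b).trans hU.fromSpec.isOpenEmbedding.isInducing.specializes_iff.symm
  have hle : P ≤ Q := (hspec P Q).2 (hP.symm ▸ hQ.symm ▸ hsp)
  have hcov : P ⋖ Q := by
    refine ⟨lt_of_le_of_ne hle fun h => hne (hP ▸ hQ ▸ congrArg _ h), fun R hPR hRQ => ?_⟩
    rcases himm (hU.fromSpec R) (hP ▸ (hspec P R).1 hPR.le) (hQ ▸ (hspec R Q).1 hRQ.le) with h | h
    · exact hPR.ne (hU.fromSpec.isOpenEmbedding.injective (h.trans hP.symm)).symm
    · exact hRQ.ne (hU.fromSpec.isOpenEmbedding.injective (h.trans hQ.symm))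
  have h := CAlgH2.height_add_trdegQuot k P.asIdeal Q.asIdeal hle
  have hh : (Q.asIdeal.map (Ideal.Quotient.mk P.asIdeal)).height = 1 := by
    have := Algebra.FiniteType.isNoetherianRing k Γ(X, U)
    exact height_map_eq_one_of_covBy P Q hcov
  rw [hh] at h
  have hx1 : WC97.tdegN f x = CAlgH2.trdegQuot k P.asIdeal := by
    unfold WC97.tdegN CAlgH2.trdegQuot; rw [WC97.tdeg_eq_trdeg_quotient f hU hx]
  have hx2 : WC97.tdegN f x' = CAlgH2.trdegQuot k Q.asIdeal := by
    unfold WC97.tdegN CAlgH2.trdegQuot; rw [WC97.tdeg_eq_trdeg_quotient f hU hx']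
  rw [hx1, hx2]
  have : ((1 + CAlgH2.trdegQuot k Q.asIdeal : ℕ) : ℕ∞) = CAlgH2.trdegQuot k P.asIdeal := by push_cast; exact h
  have := ENat.natCast_inj.mp this
  omega

include f in
theorem topologicalKrullDim_open_eq [IrreducibleSpace X] (U : X.Opens) (hU : (U : Set X).Nonempty) :
    topologicalKrullDim U = topologicalKrullDim X := by
  refine le_antisymm (topologicalKrullDim_subspace_le X (U : Set X)) ?_
  rw [(WC97.dim_eq f).1]
  obtain ⟨S, _, _, _, p, h1, h2, h3, -⟩ := exists_chart_localDim f (genericPoint X)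
  have hle := localDim_eq_tdegN_add f (genericPoint X)
  refine le_trans ?_ ((hle.ge).trans (TopDim50.localDim_le U (((genericPoint_spec X).mem_open_set_iff U.2).2 (by simpa using hU))))
  have h0 : (0 : WithBot ℕ∞) ≤ ringKrullDim (X.presheaf.stalk (genericPoint X)) := ringKrullDim_nonneg_of_nontrivial
  exact le_add_of_nonneg_right h0

end Groth.Agent.VarGal
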