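import Mathlib.Topology.Connected.TotallyDisconnected
import Mathlib.Topology.LocalAtTarget
import Mathlib.Topology.Homeomorph.Lemmas
import Mathlib.Topology.Compactness.Compact
import Mathlib.Order.Zorn

universe u

/-!
Components surject under closed maps with compact fibres on which deck homeomorphisms act
transitively.
-/

namespace Groth.Agent.VarGal

variable {A B : Type*} [TopologicalSpace A] [TopologicalSpace B]

/-- If the base is preconnected, every component surjects. -/
theorem image_connectedComponent_eq_univ {p : A → B} (hc : Continuous p)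
    (hcl : IsClosedMap p) (hs : Function.Surjective p) (hfib : ∀ b, IsCompact (p ⁻¹' {b}))
    (htr : ∀ z z', p z = p z' → ∃ e : A ≃ₜ A, (∀ a, p (e a) = p a) ∧ e z = z')
    [PreconnectedSpace B] (t : A) : p '' connectedComponent t = Set.univ := by
  classical
  let S : Set (Set A) := {F | IsClosed F ∧ t ∈ F ∧ p '' F = Set.univ ∧
    ∀ e : A ≃ₜ A, (∀ a, p (e a) = p a) → ∀ z ∈ F, e z ∈ F → ∀ w, w ∈ F ↔ e w ∈ F}
  have huniv : Set.univ ∈ S :=
    ⟨isClosed_univ, trivial, by rw [Set.image_univ, hs.range_eq], fun _ _ _ _ _ _ => iff_of_true trivial trivial⟩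
  have hchain : ∀ c ⊆ S, IsChain (· ⊆ ·) c → c.Nonempty → ∃ lb ∈ S, ∀ s ∈ c, lb ⊆ s := by
    intro c hcS hchain ⟨s₀, hs₀⟩
    refine ⟨⋂₀ c, ⟨isClosed_sInter fun F hF => (hcS hF).1, fun F hF => (hcS hF).2.1, ?_, ?_⟩,
      fun s hs => Set.sInter_subset_of_mem hs⟩
    · refine Set.eq_univ_of_forall fun b => ?_
      have key : (p ⁻¹' {b} ∩ ⋂ F : c, (F : Set A)).Nonempty := by
        refine (hfib b).inter_iInter_nonempty _ (fun F => (hcS F.2).1) fun u => ?_
        obtain ⟨F₀, hF₀, hle⟩ : ∃ F₀ ∈ c, ∀ F ∈ u, F₀ ⊆ (F : Set A) := by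
          induction u using Finset.induction_on with
          | empty => exact ⟨s₀, hs₀, fun F hF => absurd hF (Finset.notMem_empty F)⟩
          | insert F u _ ih =>
            obtain ⟨F₀, hF₀, hle⟩ := ih
            rcases hchain.total hF₀ F.2 with h | h
            · exact ⟨F₀, hF₀, fun G hG => (Finset.mem_insert.1 hG).elim (fun e => e ▸ h) (hle G)⟩
            · exact ⟨F.1, F.2, fun G hG => (Finset.mem_insert.1 hG).elim (fun e => e ▸ subset_rfl)
                fun hG => h.trans (hle G hG)⟩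
        obtain ⟨a, ha, hab⟩ := (hcS hF₀).2.2.1.ge (Set.mem_univ b)
        exact ⟨a, hab, Set.mem_iInter₂.2 fun F hF => hle F hF ha⟩
      obtain ⟨a, hab, ha⟩ := key
      exact ⟨a, fun F hF => Set.mem_iInter.1 ha ⟨F, hF⟩, hab⟩
    · intro e he z hz hez w
      exact ⟨fun hw F hF => ((hcS hF).2.2.2 e he z (hz F hF) (hez F hF) w).1 (hw F hF),
        fun hw F hF => ((hcS hF).2.2.2 e he z (hz F hF) (hez F hF) w).2 (hw F hF)⟩
  obtain ⟨M, -, hM⟩ := zorn_superset_nonempty S hchain _ huniv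
  obtain ⟨hMc, htM, hMs, hMb⟩ := hM.1
  suffices hpre : IsPreconnected M by
    exact Set.eq_univ_of_univ_subset (hMs.ge.trans (Set.image_mono (hpre.subset_connectedComponent htM)))
  rw [isPreconnected_iff_preconnectedSpace, preconnectedSpace_iff_clopen]
  by_contra hcon
  push Not at hcon
  obtain ⟨V, hV, hV1, hV2⟩ := hcon
  -- a clopen piece of `M` containing `t` but not everything
  obtain ⟨W, hW, htW, hWne⟩ : ∃ W : Set M, IsClopen W ∧ ⟨t, htM⟩ ∈ W ∧ W ≠ Set.univ := by
    by_cases h : (⟨t, htM⟩ : M) ∈ V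
    · exact ⟨V, hV, h, hV2⟩
    · exact ⟨Vᶜ, hV.compl, h, fun e => hV1.ne_empty (Set.compl_univ_iff.1 e)⟩
  let q : M → B := fun z => p z.1
  have hqc : Continuous q := hc.comp continuous_subtype_val
  have hqcl : IsClosedMap q := hcl.comp hMc.isClosedEmbedding_subtypeVal.isClosedMap
  have hqs : Function.Surjective q := fun b => by
    obtain ⟨a, ha, hab⟩ := hMs.ge (Set.mem_univ b); exact ⟨⟨a, ha⟩, hab⟩
  -- nonempty clopen pieces surject
  have hclopen : ∀ V : Set M, IsClopen V → V.Nonempty → q '' V = Set.univ := by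
    intro V hV hne
    let HV : Set M := {z | ∃ e : A ≃ₜ A, (∀ a, p (e a) = p a) ∧ ∃ h : e z.1 ∈ M, ⟨e z.1, h⟩ ∈ V}
    have hopen : IsOpen HV := by
      refine isOpen_iff_forall_mem_open.2 fun z hz => ?_
      obtain ⟨e, he, hzM, hzV⟩ := hz
      have hmem : ∀ w : M, e w.1 ∈ M := fun w => (hMb e he z.1 z.2 hzM w.1).1 w.2
      have hcont : Continuous fun w : M => (⟨e w.1, hmem w⟩ : M) :=
        (e.continuous.comp continuous_subtype_val).subtype_mk _
      exact ⟨_, fun w hw => ⟨e, he, hmem w, hw⟩, hV.2.preimage hcont, hzV⟩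
    have heq : q ⁻¹' (q '' V) = HV := by
      ext z
      constructor
      · rintro ⟨v, hv, hvz⟩
        obtain ⟨e, he, hev⟩ := htr z.1 v.1 hvz.symm
        exact ⟨e, he, hev ▸ v.2, by
          have : (⟨e z.1, hev ▸ v.2⟩ : M) = v := Subtype.ext hev
          rw [this]; exact hv⟩
      · rintro ⟨e, he, h, hz⟩
        exact ⟨_, hz, he z.1⟩
    have hop : IsOpen (q '' V) := by
      rw [← (hqcl.isQuotientMap hqc hqs).isOpen_preimage, heq]
      exact hopen
    exact (IsClopen.eq_univ ⟨hqcl _ hV.1, hop⟩ (hne.image q))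
  -- refine `M` by the translates of `W`
  let good : {e : A ≃ₜ A // (∀ a, p (e a) = p a) ∧ ∀ w, w ∈ M ↔ e w ∈ M} → Set M := fun e =>
    {z | (⟨e.1 z.1, (e.2.2 z.1).1 z.2⟩ : M) ∈ W ↔ (⟨e.1 t, (e.2.2 t).1 htM⟩ : M) ∈ W}
  have hgood : ∀ e, IsClopen (good e) := fun e => by
    have hcont : Continuous fun w : M => (⟨e.1 w.1, (e.2.2 w.1).1 w.2⟩ : M) :=
      (e.1.continuous.comp continuous_subtype_val).subtype_mk _
    by_cases h : (⟨e.1 t, (e.2.2 t).1 htM⟩ : M) ∈ W
    · convert hW.preimage hcont using 1; ext z; simp only [good, Set.mem_ofPred_eq, h, iff_true, Set.mem_preimage]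
    · convert hW.compl.preimage hcont using 1
      ext z; simp only [good, Set.mem_ofPred_eq, h, iff_false, Set.mem_preimage, Set.mem_compl_iff]
  let F' : Set A := Subtype.val '' (⋂ e, good e)
  have hF'c : IsClosed F' :=
    hMc.isClosedEmbedding_subtypeVal.isClosedMap _ (isClosed_iInter fun e => (hgood e).1)
  have hF'S : F' ∈ S := by
    refine ⟨hF'c, ⟨⟨t, htM⟩, Set.mem_iInter.2 fun e => Iff.rfl, rfl⟩, Set.eq_univ_of_forall fun b => ?_, ?_⟩
    · have hfibq : IsCompact (q ⁻¹' {b}) := by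
        rw [Subtype.isCompact_iff]
        have : Subtype.val '' (q ⁻¹' {b}) = p ⁻¹' {b} ∩ M := by
          ext a
          constructor
          · rintro ⟨z, hz, rfl⟩; exact ⟨hz, z.2⟩
          · rintro ⟨ha, haM⟩; exact ⟨⟨a, haM⟩, ha, rfl⟩
        rw [this]; exact (hfib b).inter_right hMc
      obtain ⟨z, hzb, hz⟩ := hfibq.inter_iInter_nonempty good (fun e => (hgood e).1) fun u => by
        have hne : (⋂ e ∈ u, good e).Nonempty := ⟨⟨t, htM⟩, Set.mem_iInter₂.2 fun e _ => Iff.rfl⟩
        obtain ⟨z, hz, hzb⟩ := (hclopen _ (isClopen_biInter_finset fun e _ => hgood e) hne).ge (Set.mem_univ b)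
        exact ⟨z, hzb, hz⟩
      exact ⟨z.1, ⟨z, hz, rfl⟩, hzb⟩
    · rintro e he _ ⟨z, hz, rfl⟩ ⟨z', hz', hz'e⟩
      have heM : ∀ w, w ∈ M ↔ e w ∈ M := hMb e he z.1 z.2 (hz'e ▸ z'.2)
      have step : ∀ w : M, w ∈ ⋂ f, good f ↔ (⟨e w.1, (heM w.1).1 w.2⟩ : M) ∈ ⋂ f, good f := by
        have hz2 : (⟨e z.1, (heM z.1).1 z.2⟩ : M) ∈ ⋂ f, good f := by
          have : z' = ⟨e z.1, (heM z.1).1 z.2⟩ := Subtype.ext hz'e
          exact this ▸ hz'
        intro w
        simp only [Set.mem_iInter] at hz hz2 ⊢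
        constructor
        · intro hw f
          let g : {e : A ≃ₜ A // (∀ a, p (e a) = p a) ∧ ∀ w, w ∈ M ↔ e w ∈ M} :=
            ⟨e.trans f.1, fun a => (f.2.1 _).trans (he a), fun a => (heM a).trans (f.2.2 _)⟩
          exact ((hw g).trans (hz g).symm).trans (hz2 f)
        · intro hw f
          let g : {e : A ≃ₜ A // (∀ a, p (e a) = p a) ∧ ∀ w, w ∈ M ↔ e w ∈ M} :=
            ⟨e.symm.trans f.1, fun a => (f.2.1 _).trans (by
                show p (e.symm a) = p a
                rw [← he (e.symm a), Homeomorph.apply_symm_apply]),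
              fun a => by
                refine Iff.trans ?_ (f.2.2 _)
                show a ∈ M ↔ e.symm a ∈ M
                rw [heM (e.symm a), Homeomorph.apply_symm_apply]⟩
          have hg : ∀ (v : A) (hv : e v ∈ M), g.1 (e v) = f.1 v := fun v _ => by
            show f.1 (e.symm (e v)) = f.1 v
            rw [Homeomorph.symm_apply_apply]
          have h1 := hw g
          have h2 := hz2 g
          have h3 := hz f
          simp only [good, Set.mem_ofPred_eq] at h1 h2 h3 ⊢
          simp only [g, Homeomorph.trans_apply, Homeomorph.symm_apply_apply] at h1 h2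
          exact (h1.trans h2.symm).trans h3
      intro w
      constructor
      · rintro ⟨w', hw', rfl⟩
        exact ⟨_, (step w').1 hw', rfl⟩
      · rintro ⟨w', hw', hw'e⟩
        have hwM : w ∈ M := (heM w).2 (hw'e ▸ w'.2)
        refine ⟨⟨w, hwM⟩, (step ⟨w, hwM⟩).2 ?_, rfl⟩
        have : w' = ⟨e w, (heM w).1 hwM⟩ := Subtype.ext hw'e
        exact this ▸ hw'
  have hsub : F' ⊆ M := by rintro _ ⟨z, -, rfl⟩; exact z.2
  have hMF' : M ⊆ F' := hM.2 hF'S hsub
  refine hWne (Set.eq_univ_of_forall fun z => ?_)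
  obtain ⟨z', hz', hzz⟩ := hMF' z.2
  obtain rfl : z' = z := Subtype.ext hzz
  let one : {e : A ≃ₜ A // (∀ a, p (e a) = p a) ∧ ∀ w, w ∈ M ↔ e w ∈ M} :=
    ⟨Homeomorph.refl A, fun _ => rfl, fun _ => Iff.rfl⟩
  exact (Set.mem_iInter.1 hz' one).2 htW

/-- Every component surjects onto the component below it. -/
theorem image_connectedComponent_eq {p : A → B} (hc : Continuous p)
    (hcl : IsClosedMap p) (hs : Function.Surjective p) (hfib : ∀ b, IsCompact (p ⁻¹' {b}))
    (htr : ∀ z z', p z = p z' → ∃ e : A ≃ₜ A, (∀ a, p (e a) = p a) ∧ e z = z') (t : A) :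
    p '' connectedComponent t = connectedComponent (p t) := by
  refine (hc.image_connectedComponent_subset t).antisymm fun b hb => ?_
  let C := connectedComponent (p t)
  have : PreconnectedSpace C := isPreconnected_iff_preconnectedSpace.1 isPreconnected_connectedComponent
  have h := image_connectedComponent_eq_univ (p := C.restrictPreimage p) hc.restrictPreimage
    (hcl.restrictPreimage C) (Set.restrictPreimage_surjective C hs) (fun b => ?_)
    (fun z z' hzz => ?_) (⟨t, mem_connectedComponent⟩ : p ⁻¹' C)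
  · obtain ⟨a, ha, hab⟩ := h.ge (Set.mem_univ (⟨b, hb⟩ : C))
    exact ⟨a.1, continuous_subtype_val.image_connectedComponent_subset (⟨t, _⟩ : p ⁻¹' C) ⟨a, ha, rfl⟩,
      congrArg Subtype.val hab⟩
  · rw [Subtype.isCompact_iff]
    have : Subtype.val '' (C.restrictPreimage p ⁻¹' {b}) = p ⁻¹' {b.1} := by
      ext a
      constructor
      · rintro ⟨a', ha', rfl⟩; exact congrArg Subtype.val ha'
      · intro ha
        exact ⟨⟨a, by rw [Set.mem_preimage, ha]; exact b.2⟩, Subtype.ext ha, rfl⟩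
    rw [this]; exact hfib _
  · obtain ⟨e, he, hez⟩ := htr z.1 z'.1 (congrArg Subtype.val hzz)
    refine ⟨e.subtype fun a => ?_, fun a => Subtype.ext (he a.1), Subtype.ext hez⟩
    show p a ∈ C ↔ p (e a) ∈ C
    rw [he]

end Groth.Agent.VarGal
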