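import Groth.Agent.VarGal.Action
import Groth.Agent.VarGal.Topo
import Groth.Agent.FBase64.GeomIrred
import Mathlib.AlgebraicGeometry.Fiber
import Mathlib.FieldTheory.IsAlgClosed.AlgebraicClosure

universe u

/-! Connected and irreducible components under an arbitrary extension of the base field. -/

set_option backward.isDefEq.respectTransparency.types false

namespace Groth.Agent.VarGal

open CategoryTheory CategoryTheory.Limits AlgebraicGeometry

variable {k : Type u} [Field k] {X : Scheme.{u}} [X.Over (Spec (CommRingCat.of k))]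

local notation "π[" K "]" => Curv2.bcFst k X K

variable {K : Type u} [Field K] [Algebra k K]

theorem isOpenMap_fst : IsOpenMap (π[K]).base :=
  FBase64.isOpenMap_of_isPullback (pr := π[K]) (IsPullback.of_hasPullback _ _)

theorem surjective_fst : Function.Surjective (π[K]).base :=
  FBase64.surjective_of_isPullback (pr := π[K]) (IsPullback.of_hasPullback _ _)

theorem isClosedMap_fst [Algebra.IsAlgebraic k K] : IsClosedMap (π[K]).base :=
  FBase64.isClosedMap_of_isPullback (pr := π[K]) (IsPullback.of_hasPullback _ _)

theorem isCompact_fst_fibre (x : X) : IsCompact ((π[K]).base ⁻¹' {x}) :=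
  Scheme.Hom.isCompact_preimage_singleton (π[K]) x

theorem closure_genericPoint {A : Type*} [TopologicalSpace A] [QuasiSober A] {Z : Set A}
    (hZ : Z ∈ irreducibleComponents A) : closure {hZ.1.genericPoint} = Z := by
  rw [hZ.1.closure_genericPoint (isClosed_of_mem_irreducibleComponents _ hZ)]

theorem exists_maximal_generization (W : Scheme.{u}) (w : W) :
    ∃ w' : W, w' ⤳ w ∧ ∀ v, v ⤳ w' → v = w' := by
  have hZ := irreducibleComponent_mem_irreducibleComponents w
  exact ⟨hZ.1.genericPoint,
    (hZ.1.isGenericPoint_genericPoint isClosed_irreducibleComponent).specializes mem_irreducibleComponent,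
    FBase64.maximal_genericPoint hZ⟩

/-- Generic points of components go to generic points of components. -/
theorem fst_genericPoint_maximal {T : Set (Curv2.bc k X K)} (hT : T ∈ irreducibleComponents (Curv2.bc k X K)) :
    ∀ w : X, w ⤳ (π[K]).base hT.1.genericPoint → w = (π[K]).base hT.1.genericPoint :=
  FBase64.eq_of_specializes_of_maximal_bc (X ↘ Spec (CommRingCat.of k)) (FBase64.maximal_genericPoint hT)

theorem image_subset_closure {T : Set (Curv2.bc k X K)} (hT : T ∈ irreducibleComponents (Curv2.bc k X K)) :
    (π[K]).base '' T ⊆ closure {(π[K]).base hT.1.genericPoint} := by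
  rintro _ ⟨a, ha, rfl⟩
  exact specializes_iff_mem_closure.1
    ((specializes_iff_mem_closure.2 ((closure_genericPoint hT).symm ▸ ha)).map (π[K]).continuous)

theorem exists_generization_over {x : X} (y : Curv2.bc k X K) (h : x ⤳ (π[K]).base y) :
    ∃ y', y' ⤳ y ∧ (π[K]).base y' = x := by
  have : Flat (π[K]) := FBase64.flat_of_isPullback (pr := π[K]) (IsPullback.of_hasPullback _ _)
  obtain ⟨y', hy', e⟩ := Flat.generalizingMap (π[K]) h
  exact ⟨y', hy', e⟩

/-- Over an irreducible component, every point lies on a component over it. -/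
theorem exists_component_over {Z : Set X} (hZ : Z ∈ irreducibleComponents X) (y : Curv2.bc k X K)
    (hy : (π[K]).base y ∈ Z) :
    ∃ T ∈ irreducibleComponents (Curv2.bc k X K), y ∈ T ∧ (π[K]).base '' T ⊆ Z := by
  have hgen := hZ.1.isGenericPoint_genericPoint (isClosed_of_mem_irreducibleComponents _ hZ)
  obtain ⟨y', hy', he⟩ := exists_generization_over y (hgen.specializes hy)
  obtain ⟨y'', hy'', hmax⟩ := exists_maximal_generization _ y'
  refine ⟨closure {y''}, (FBase64.closure_singleton_mem_irreducibleComponents_iff _).2 hmax,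
    specializes_iff_mem_closure.1 (hy''.trans hy'), ?_⟩
  have hη : (π[K]).base y'' = hZ.1.genericPoint :=
    FBase64.maximal_genericPoint hZ _ (he ▸ hy''.map (π[K]).continuous)
  rintro _ ⟨a, ha, rfl⟩
  rw [← closure_genericPoint hZ, ← hη]
  exact specializes_iff_mem_closure.1 ((specializes_iff_mem_closure.2 ha).map (π[K]).continuous)

section Map

variable {E : Type u} [Field E] [Algebra k E] (φ : E →ₐ[k] K)

variable (X) in
/-- The map of base changes along a homomorphism of extensions. -/
noncomputable def bcMap : Curv2.bc k X K ⟶ Curv2.bc k X E :=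
  pullback.map _ _ _ _ (𝟙 X) (Spec.map (CommRingCat.ofHom φ.toRingHom)) (𝟙 _) (by simp) (by
    rw [Category.comp_id, ← Spec.map_comp, ← CommRingCat.ofHom_comp]
    exact congrArg _ (congrArg _ φ.comp_algebraMap.symm))

theorem bcMap_fst : bcMap X φ ≫ π[E] = π[K] :=
  (pullback.lift_fst _ _ _).trans (Category.comp_id _)

theorem fst_bcMap (w : Curv2.bc k X K) : (π[E]).base ((bcMap X φ).base w) = (π[K]).base w :=
  congrArg (fun m : Curv2.bc k X K ⟶ X => m.base w) (bcMap_fst φ)

theorem isPullback_bcMap : IsPullback (bcMap X φ) (Curv2.bcSnd k X K) (Curv2.bcSnd k X E)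
    (Spec.map (CommRingCat.ofHom φ.toRingHom)) := by
  refine IsPullback.of_right (h₁₂ := π[E]) (v₁₃ := X ↘ Spec (CommRingCat.of k))
    (h₂₂ := Spec.map (CommRingCat.ofHom (algebraMap k E))) ?_ (pullback.lift_snd _ _ _)
    (IsPullback.of_hasPullback _ _)
  rw [bcMap_fst, ← Spec.map_comp, ← CommRingCat.ofHom_comp,
    show φ.toRingHom.comp (algebraMap k E) = algebraMap k K from φ.comp_algebraMap]
  exact IsPullback.of_hasPullback _ _

theorem surjective_bcMap : Function.Surjective (bcMap X φ).base :=
  (MorphismProperty.of_isPullback (isPullback_bcMap φ).flip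
    (inferInstance : Surjective (Spec.map (CommRingCat.ofHom φ.toRingHom))) : Surjective (bcMap X φ)).surj

theorem bcMap_preimage_eq (s : Set (Curv2.bc k X E)) :
    (bcMap X φ).base ⁻¹' s = (isPullback_bcMap φ).isoPullback.inv.base ''
      ((pullback.fst (Curv2.bcSnd k X E) (Spec.map (CommRingCat.ofHom φ.toRingHom))).base ⁻¹' s) := by
  have h := (isPullback_bcMap (X := X) φ).isoPullback_hom_fst
  have h' := (isPullback_bcMap (X := X) φ).isoPullback_inv_fst
  ext w
  constructor
  · intro hw
    refine ⟨(isPullback_bcMap φ).isoPullback.hom.base w, ?_, ?_⟩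
    · rw [Set.mem_preimage, ← Scheme.Hom.comp_apply, h]; exact hw
    · rw [← Scheme.Hom.comp_apply, Iso.hom_inv_id]; rfl
  · rintro ⟨v, hv, rfl⟩
    rw [Set.mem_preimage, ← Scheme.Hom.comp_apply, h']; exact hv

theorem isConnected_bcMap_preimage [IsSepClosed E] {s : Set (Curv2.bc k X E)} (hs : _root_.IsConnected s) :
    _root_.IsConnected ((bcMap X φ).base ⁻¹' s) := by
  rw [bcMap_preimage_eq]
  exact (FBase64.isConnected_preimage_fst _ φ.toRingHom hs).image _ (Scheme.Hom.continuous _).continuousOn

theorem isIrreducible_bcMap_preimage [IsSepClosed E] {s : Set (Curv2.bc k X E)} (hs : IsIrreducible s) :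
    IsIrreducible ((bcMap X φ).base ⁻¹' s) := by
  rw [bcMap_preimage_eq]
  exact (FBase64.isIrreducible_preimage_fst _ φ.toRingHom hs).image _ (Scheme.Hom.continuous _).continuousOn

end Map

/-- Components surject for normal algebraic extensions. -/
theorem image_connectedComponent_of_normal [Normal k K] (t : Curv2.bc k X K) :
    (π[K]).base '' connectedComponent t = connectedComponent ((π[K]).base t) := by
  refine image_connectedComponent_eq (π[K]).continuous isClosedMap_fst surjective_fst isCompact_fst_fibre
    (fun z z' h => ?_) t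
  obtain ⟨σ, hσ⟩ := exists_galAct_apply_eq h
  exact ⟨(Curv2.galAct k X K σ).homeomorph, fun a => fst_galAct σ a, hσ⟩

theorem image_irreducibleComponent_of_algebraic [Algebra.IsAlgebraic k K] {T : Set (Curv2.bc k X K)}
    (hT : T ∈ irreducibleComponents (Curv2.bc k X K)) :
    (π[K]).base '' T = closure {(π[K]).base hT.1.genericPoint} :=
  (image_subset_closure hT).antisymm (closure_minimal
    (Set.singleton_subset_iff.2 ⟨_, (closure_genericPoint hT).le (subset_closure rfl), rfl⟩)
    (isClosedMap_fst _ (isClosed_of_mem_irreducibleComponents _ hT)))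

/-- The image of a connected component of `X_K` is a connected component of `X`. -/
theorem image_connectedComponent (t : Curv2.bc k X K) :
    (π[K]).base '' connectedComponent t = connectedComponent ((π[K]).base t) := by
  refine ((π[K]).continuous.image_connectedComponent_subset t).antisymm ?_
  let Ω := AlgebraicClosure K
  let r := bcMap X (IsScalarTower.toAlgHom k K Ω)
  let φ : AlgebraicClosure k →ₐ[k] Ω := IsAlgClosed.lift
  let q := bcMap X φ
  obtain ⟨w, hw⟩ := surjective_bcMap (X := X) (IsScalarTower.toAlgHom k K Ω) t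
  have h1 : r.base '' connectedComponent w ⊆ connectedComponent t :=
    hw ▸ r.continuous.image_connectedComponent_subset w
  have h2 : connectedComponent (q.base w) ⊆ q.base '' connectedComponent w := fun c hc => by
    obtain ⟨v, rfl⟩ := surjective_bcMap (X := X) φ c
    exact ⟨v, (isConnected_bcMap_preimage φ isConnected_connectedComponent).isPreconnected.subset_connectedComponent
      mem_connectedComponent hc, rfl⟩
  intro x hx
  rw [← hw, show (π[K]).base (r.base w) = (π[AlgebraicClosure k]).base (q.base w) from
    (fst_bcMap _ w).trans (fst_bcMap φ w).symm, ← image_connectedComponent_of_normal] at hx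
  obtain ⟨c, hc, rfl⟩ := hx
  obtain ⟨v, hv, rfl⟩ := h2 hc
  exact ⟨r.base v, h1 ⟨v, hv, rfl⟩, (fst_bcMap _ v).trans (fst_bcMap φ v).symm⟩

/-- The image of an irreducible component of `X_K` is an irreducible component of `X`. -/
theorem image_irreducibleComponent {T : Set (Curv2.bc k X K)}
    (hT : T ∈ irreducibleComponents (Curv2.bc k X K)) :
    (π[K]).base '' T = closure {(π[K]).base hT.1.genericPoint} ∧
      (π[K]).base '' T ∈ irreducibleComponents X := by
  have hmem : closure {(π[K]).base hT.1.genericPoint} ∈ irreducibleComponents X :=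
    (FBase64.closure_singleton_mem_irreducibleComponents_iff _).2 (fst_genericPoint_maximal hT)
  suffices h : closure {(π[K]).base hT.1.genericPoint} ⊆ (π[K]).base '' T by
    have := (image_subset_closure hT).antisymm h
    exact ⟨this, this ▸ hmem⟩
  let Ω := AlgebraicClosure K
  let r := bcMap X (IsScalarTower.toAlgHom k K Ω)
  let φ : AlgebraicClosure k →ₐ[k] Ω := IsAlgClosed.lift
  let q := bcMap X φ
  obtain ⟨w, hw⟩ := surjective_bcMap (X := X) (IsScalarTower.toAlgHom k K Ω) hT.1.genericPoint
  obtain ⟨w', hw', hmax⟩ := exists_maximal_generization _ w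
  have hr : r.base w' = hT.1.genericPoint :=
    FBase64.maximal_genericPoint hT _ (hw ▸ hw'.map r.continuous)
  have hT' : closure {w'} ∈ irreducibleComponents (Curv2.bc k X Ω) :=
    (FBase64.closure_singleton_mem_irreducibleComponents_iff _).2 hmax
  have hsub : r.base '' closure {w'} ⊆ T := by
    rintro _ ⟨a, ha, rfl⟩
    rw [← closure_genericPoint hT, ← hr]
    exact specializes_iff_mem_closure.1 ((specializes_iff_mem_closure.2 ha).map r.continuous)
  obtain ⟨-, hC⟩ := FBase64.component_eq_preimage_image q.continuous (surjective_bcMap φ)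
    (fun s hs => isIrreducible_bcMap_preimage φ hs) hT'
  have hclosed : IsClosed ((π[AlgebraicClosure k]).base '' (q.base '' closure {w'})) :=
    isClosedMap_fst _ (isClosed_of_mem_irreducibleComponents _ hC)
  have hmemC : (π[K]).base hT.1.genericPoint ∈ (π[AlgebraicClosure k]).base '' (q.base '' closure {w'}) :=
    ⟨q.base w', ⟨w', subset_closure rfl, rfl⟩, by rw [← hr]; exact (fst_bcMap φ w').trans (fst_bcMap _ w').symm⟩
  refine (closure_minimal (Set.singleton_subset_iff.2 hmemC) hclosed).trans ?_
  · rintro _ ⟨_, ⟨v, hv, rfl⟩, rfl⟩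
    exact ⟨r.base v, hsub ⟨v, hv, rfl⟩, (fst_bcMap _ v).trans (fst_bcMap φ v).symm⟩

/-- For normal `K`, invariant subsets are preimages. -/
theorem preimage_image_of_invariant [Normal k K] {T : Set (Curv2.bc k X K)}
    (h : ∀ σ : K ≃ₐ[k] K, (Curv2.galAct k X K σ).base '' T = T) :
    (π[K]).base ⁻¹' ((π[K]).base '' T) = T := by
  refine Set.Subset.antisymm ?_ (Set.subset_preimage_image _ _)
  rintro z ⟨t, ht, htz⟩
  obtain ⟨σ, rfl⟩ := exists_galAct_apply_eq htz
  exact (h σ).le ⟨t, ht, rfl⟩

theorem galAct_image_preimage (σ : K ≃ₐ[k] K) (T : Set X) :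
    (Curv2.galAct k X K σ).base '' ((π[K]).base ⁻¹' T) = (π[K]).base ⁻¹' T := by
  ext z
  constructor
  · rintro ⟨w, hw, rfl⟩
    show (π[K]).base _ ∈ T
    rw [fst_galAct]; exact hw
  · intro hz
    obtain ⟨w, rfl⟩ := (Curv2.galAct k X K σ).surjective z
    exact ⟨w, by show (π[K]).base w ∈ T; rw [← fst_galAct σ w]; exact hz, rfl⟩

theorem galAct_image_connectedComponent (σ : K ≃ₐ[k] K) (t : Curv2.bc k X K) :
    (Curv2.galAct k X K σ).base '' connectedComponent t = connectedComponent ((Curv2.galAct k X K σ).base t) := by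
  let e := (Curv2.galAct k X K σ).homeomorph
  show e '' connectedComponent t = connectedComponent (e t)
  refine (e.continuous.image_connectedComponent_subset t).antisymm fun z hz => ?_
  exact ⟨e.symm z, by simpa using e.symm.continuous.image_connectedComponent_subset (e t) ⟨z, hz, rfl⟩,
    e.apply_symm_apply z⟩

theorem galAct_image_closure (σ : K ≃ₐ[k] K) (t : Curv2.bc k X K) :
    (Curv2.galAct k X K σ).base '' closure {t} = closure {(Curv2.galAct k X K σ).base t} := by
  let e := (Curv2.galAct k X K σ).homeomorph
  show e '' closure {t} = closure {e t}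
  rw [e.image_closure, Set.image_singleton]

theorem galAct_genericPoint_eq (σ : K ≃ₐ[k] K) {T : Set (Curv2.bc k X K)}
    (hT : T ∈ irreducibleComponents (Curv2.bc k X K)) :
    (Curv2.galAct k X K σ).base '' T = closure {(Curv2.galAct k X K σ).base hT.1.genericPoint} := by
  conv_lhs => rw [← closure_genericPoint hT]
  exact galAct_image_closure σ _

end Groth.Agent.VarGal
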