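import Groth.Prelude.Def_CohB1
import Groth.Agent.CAlgH2.LocalDimField
import Groth.Agent.VarGal.AffineInter
import Mathlib.RingTheory.GradedAlgebra.Radical

/-! Dimension theory of closed subsets of projective space over a field. -/

universe u
set_option linter.style.haveILetI false

open TopologicalSpace

namespace Groth.Agent.VarGal

section Height

variable {T : Type*} [TopologicalSpace T]

theorem topologicalKrullDim_le_of_forall [QuasiSober T] (h : T → ℕ)
    (hlt : ∀ a b, a ⤳ b → ¬ b ⤳ a → h b < h a) {W : Set T} (hW : IsClosed W) {n : ℕ}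
    (hn : ∀ η ∈ W, h η ≤ n) : topologicalKrullDim ↥W ≤ n := by
  let g : IrreducibleCloseds ↥W → T := fun Z =>
    (Z.isIrreducible.image _ continuous_subtype_val.continuousOn).genericPoint
  have hg : ∀ Z : IrreducibleCloseds ↥W, closure {g Z} = Subtype.val '' (Z : Set ↥W) := fun Z =>
    IsIrreducible.closure_genericPoint _ (hW.isClosedMap_subtype_val _ Z.isClosed)
  have hmem : ∀ Z : IrreducibleCloseds ↥W, g Z ∈ W := fun Z => by
    obtain ⟨x, -, hx⟩ := (hg Z).le (subset_closure rfl); exact hx ▸ x.2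
  have hmono : StrictMono (h ∘ g) := fun Z Z' hZ => by
    refine hlt _ _ (specializes_iff_closure_subset.2 ?_) fun hs => hZ.not_ge ?_
    · rw [hg, hg]; exact Set.image_mono hZ.le
    · have := specializes_iff_closure_subset.1 hs
      rw [hg, hg] at this
      exact (Set.image_subset_image_iff Subtype.val_injective).1 this
  refine iSup_le fun l => ?_
  have h1 := LTSeries.head_add_length_le_nat (l.map _ hmono)
  have h2 : h (g l.last) ≤ n := hn _ (hmem _)
  simp only [LTSeries.map_length, LTSeries.last_map, Function.comp_apply] at h1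
  exact_mod_cast (show l.length ≤ n by omega)

theorem natCast_le_topologicalKrullDim [T0Space T] (h : T → ℕ)
    (hstep : ∀ a m, h a = m + 1 → ∃ b, a ⤳ b ∧ h b = m) {W : Set T} (hW : IsClosed W) {η : T} (hη : η ∈ W) :
    (h η : WithBot ℕ∞) ≤ topologicalKrullDim ↥W := by
  suffices ∀ m, ∀ x : ↥W, h x.1 = m → ∃ c : LTSeries (IrreducibleCloseds ↥W),
      c.length = m ∧ c.last = ⟨closure {x}, isIrreducible_singleton.closure, isClosed_closure⟩ by
    obtain ⟨c, hc, -⟩ := this _ ⟨η, hη⟩ rfl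
    exact Order.le_krullDim_iff.2 ⟨c, hc⟩
  intro m
  induction m with
  | zero => exact fun x _ => ⟨RelSeries.singleton _ _, rfl, rfl⟩
  | succ m ih =>
    intro x hx
    obtain ⟨b, hb, hbm⟩ := hstep _ _ hx
    have hbW : b ∈ W := hb.mem_closed hW x.2
    obtain ⟨c, hc, hl⟩ := ih ⟨b, hbW⟩ hbm
    have hsp : x ⤳ ⟨b, hbW⟩ := subtype_specializes_iff _ _ |>.2 hb
    suffices hrel : c.last < ⟨closure {x}, isIrreducible_singleton.closure, isClosed_closure⟩ from
      ⟨c.snoc _ hrel, by simp [hc], RelSeries.last_snoc _ _ _⟩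
    rw [hl]
    refine lt_of_le_not_ge hsp.closure_subset fun hge => ?_
    have h' : (⟨b, hbW⟩ : ↥W) ⤳ x := specializes_iff_mem_closure.2 (hge (subset_closure rfl))
    have h'' : (⟨b, hbW⟩ : ↥W) = x := (h'.antisymm hsp).eq
    rw [← h''] at hx
    simp only at hx
    omega

end Height

section Proj

open CAlgH2

variable {k : Type u} [Field k] {n : ℕ}

local notation "S" => MvPolynomial (Fin (n + 1)) k
local notation "𝒜" => CohB1.polyGrading n k

instance : QuasiSober (ProjectiveSpectrum 𝒜) :=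
  inferInstanceAs (QuasiSober (AlgebraicGeometry.Proj 𝒜))

instance : T0Space (ProjectiveSpectrum 𝒜) :=
  inferInstanceAs (T0Space (AlgebraicGeometry.Proj 𝒜))

/-- `trdeg` of the homogeneous coordinate ring of the closure of a point, i.e. dimension plus one. -/
noncomputable def coneDim (p : ProjectiveSpectrum 𝒜) : ℕ := trdegQuot k p.asHomogeneousIdeal.toIdeal

theorem trdegQuot_bot : trdegQuot k (⊥ : Ideal S) = n + 1 := by
  rw [trdegQuot, (AlgEquiv.quotientBot k S).trdeg_eq, MvPolynomial.trdeg_of_isDomain]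
  simp

theorem trdegQuot_lt {p q : Ideal S} [p.IsPrime] [q.IsPrime] (h : p < q) : trdegQuot k q < trdegQuot k p := by
  have h1 := height_add_trdegQuot k p q h.le
  haveI := Ideal.isPrime_map_quotientMk_of_isPrime h.le
  have h2 : (1 : ℕ∞) ≤ (q.map (Ideal.Quotient.mk p)).height := by
    refine Order.one_le_iff_pos.2 (pos_iff_ne_zero.2 fun h0 => h.ne' ?_)
    rw [Ideal.height_eq_zero_iff_eq_bot] at h0
    rw [← sup_eq_right.2 h.le, ← Ideal.comap_map_quotientMk, h0]
    exact Ideal.mk_ker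
  have h3 : ((1 + trdegQuot k q : ℕ) : ℕ∞) ≤ (trdegQuot k p : ℕ∞) := by
    rw [← h1, Nat.cast_add, Nat.cast_one]; exact add_le_add h2 le_rfl
  have : 1 + trdegQuot k q ≤ trdegQuot k p := by exact_mod_cast h3
  omega

/-- Krull's principal ideal theorem in terms of transcendence degrees. -/
theorem trdegQuot_le_add_of_minimalPrimes {p q : Ideal S} [p.IsPrime] {F : Set S} (hF : F.Finite)
    (hq : q ∈ (p ⊔ Ideal.span F).minimalPrimes) : trdegQuot k p ≤ trdegQuot k q + F.ncard := by
  haveI : q.IsPrime := hq.1.1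
  have hle : p ≤ q := le_sup_left.trans hq.1.2
  haveI := Ideal.isPrime_map_quotientMk_of_isPrime hle
  have hmin : q.map (Ideal.Quotient.mk p) ∈ (Ideal.span (Ideal.Quotient.mk p '' F)).minimalPrimes := by
    rw [← Ideal.map_span]
    refine ⟨⟨inferInstance, Ideal.map_mono (le_sup_right.trans hq.1.2)⟩, fun w ⟨hwp, hw⟩ hwle => ?_⟩
    have h1 : w.comap (Ideal.Quotient.mk p) ≤ q := (Ideal.comap_mono hwle).trans
      (by rw [Ideal.comap_map_quotientMk, sup_eq_right.2 hle])
    have h2 := hq.2 ⟨Ideal.IsPrime.comap _, sup_le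
      (Ideal.mk_ker.ge.trans (Ideal.comap_mono bot_le)) (Ideal.map_le_iff_le_comap.1 hw)⟩ h1
    exact Ideal.map_le_iff_le_comap.2 h2
  have h3 := (Ideal.height_le_card_of_mem_minimalPrimes_span (hF.image _) hmin).trans
    (Nat.cast_le.2 (Set.ncard_image_le hF))
  have h4 : (trdegQuot k p : ℕ∞) ≤ ((trdegQuot k q + F.ncard : ℕ) : ℕ∞) := by
    rw [← height_add_trdegQuot k p q hle, Nat.cast_add, add_comm]
    exact add_le_add le_rfl h3
  exact_mod_cast h4

theorem trdegQuot_add_one_eq {p q : Ideal S} [p.IsPrime] {f : S} (hf : f ∉ p)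
    (hq : q ∈ (p ⊔ Ideal.span {f}).minimalPrimes) : trdegQuot k q + 1 = trdegQuot k p := by
  haveI : q.IsPrime := hq.1.1
  have h1 := trdegQuot_le_add_of_minimalPrimes (Set.finite_singleton f) hq
  have h2 : trdegQuot k q < trdegQuot k p := trdegQuot_lt (lt_of_le_not_ge (le_sup_left.trans hq.1.2)
    fun hge => hf (hge (hq.1.2 (Ideal.mem_sup_right (Ideal.mem_span_singleton_self f)))))
  rw [Set.ncard_singleton] at h1
  omega

/-- The irrelevant maximal ideal. -/
noncomputable def vertexIdeal (k : Type u) [Field k] (n : ℕ) : Ideal (MvPolynomial (Fin (n + 1)) k) :=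
  RingHom.ker (MvPolynomial.constantCoeff (σ := Fin (n + 1)) (R := k))

instance : (vertexIdeal k n).IsMaximal :=
  RingHom.ker_isMaximal_of_surjective _ fun c => ⟨MvPolynomial.C c, MvPolynomial.constantCoeff_C _ c⟩

theorem mem_vertexIdeal_of_isHomogeneous {f : S} {d : ℕ} (hf : f.IsHomogeneous d) (hd : 0 < d) :
    f ∈ vertexIdeal k n := by
  refine RingHom.mem_ker.2 ?_
  rw [MvPolynomial.constantCoeff_eq]
  exact hf.coeff_eq_zero (by simpa using hd.ne)

theorem X_mem_vertexIdeal (i : Fin (n + 1)) : MvPolynomial.X i ∈ vertexIdeal k n :=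
  MvPolynomial.constantCoeff_X (R := k) i

theorem le_vertexIdeal {I : Ideal S} (hI : I.IsHomogeneous 𝒜) (hne : I ≠ ⊤) : I ≤ vertexIdeal k n := by
  intro f hf
  by_contra hc
  have h0 := hI 0 hf
  rw [show (DirectSum.decompose 𝒜 f 0 : S) = MvPolynomial.homogeneousComponent 0 f from
    MvPolynomial.decomposition.decompose'_apply f 0, MvPolynomial.homogeneousComponent_zero] at h0
  exact hne (Ideal.eq_top_of_isUnit_mem _ h0 ((isUnit_iff_ne_zero.2 (fun h => hc h)).map MvPolynomial.C))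

theorem vertexIdeal_le {I : Ideal S} (h : ∀ i, MvPolynomial.X i ∈ I) : vertexIdeal k n ≤ I := by
  intro f hf
  have h1 : f ∈ Ideal.span (MvPolynomial.X '' (Set.univ : Set (Fin (n + 1)))) := by
    rw [MvPolynomial.mem_ideal_span_X_image]
    intro m hm
    by_contra hc
    simp only [Set.mem_univ, true_and, not_exists, not_not] at hc
    have : m = 0 := Finsupp.ext fun i => hc i
    rw [this, MvPolynomial.mem_support_iff, ← MvPolynomial.constantCoeff_eq] at hm
    exact hm (RingHom.mem_ker.1 hf)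
  exact Ideal.span_le.2 (by rintro _ ⟨i, -, rfl⟩; exact h i) h1

theorem exists_X_notMem {p : Ideal S} [p.IsPrime] (h : 1 ≤ trdegQuot k p) :
    ∃ i, MvPolynomial.X i ∉ p := by
  by_contra hc
  push Not at hc
  have : p = vertexIdeal k n :=
    (Ideal.IsMaximal.eq_of_le inferInstance (Ideal.IsPrime.ne_top inferInstance) (vertexIdeal_le hc)).symm
  rw [this, trdegQuot_maximal] at h
  omega

/-- A homogeneous prime whose cone is positive dimensional is a point of `Proj`. -/
def mkPoint (q : Ideal S) [hq : q.IsPrime] (hh : q.IsHomogeneous 𝒜) (h : 1 ≤ trdegQuot k q) :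
    ProjectiveSpectrum 𝒜 :=
  ⟨⟨q, hh⟩, hq, fun hle => by
    obtain ⟨i, hi⟩ := exists_X_notMem h
    exact hi (hle (HomogeneousIdeal.mem_irrelevant_of_mem 𝒜 zero_lt_one (MvPolynomial.isHomogeneous_X k i)))⟩

theorem one_le_coneDim (p : ProjectiveSpectrum 𝒜) : 1 ≤ coneDim p := by
  have hnle : ¬ ∀ i, MvPolynomial.X i ∈ p.asHomogeneousIdeal.toIdeal := fun h =>
    p.not_irrelevant_le fun f hf => vertexIdeal_le h (by
      have h0 := (HomogeneousIdeal.mem_irrelevant_iff 𝒜 f).1 hf
      rw [GradedRing.proj_apply, show (DirectSum.decompose 𝒜 f 0 : S) = MvPolynomial.homogeneousComponent 0 f from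
        MvPolynomial.decomposition.decompose'_apply f 0, MvPolynomial.homogeneousComponent_zero, MvPolynomial.C_eq_zero] at h0
      exact h0)
  push Not at hnle
  obtain ⟨i, hi⟩ := hnle
  obtain ⟨q, hq⟩ := Ideal.nonempty_minimalPrimes (I := p.asHomogeneousIdeal.toIdeal ⊔ Ideal.span {MvPolynomial.X i})
    (ne_top_of_le_ne_top (Ideal.IsMaximal.ne_top (I := vertexIdeal k n) inferInstance)
      (sup_le (le_vertexIdeal p.asHomogeneousIdeal.isHomogeneous p.isPrime.ne_top)
        ((Ideal.span_singleton_le_iff_mem _).2 (X_mem_vertexIdeal i))))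
  exact le_of_le_of_eq (Nat.le_add_left 1 _) (trdegQuot_add_one_eq hi hq)

theorem isHomogeneous_of_mem_minimalPrimes {I q : Ideal S} (hI : I.IsHomogeneous 𝒜)
    (hq : q ∈ I.minimalPrimes) : q.IsHomogeneous 𝒜 := by
  have h1 : (q.homogeneousCore 𝒜).toIdeal.IsPrime := Ideal.IsPrime.homogeneousCore hq.1.1
  have h2 : I ≤ (q.homogeneousCore 𝒜).toIdeal := by
    conv_lhs => rw [← hI.toIdeal_homogeneousCore_eq_self]
    exact fun x hx => Ideal.homogeneousCore_mono 𝒜 hq.1.2 hx
  rw [Ideal.IsHomogeneous.iff_eq]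
  exact le_antisymm (Ideal.toIdeal_homogeneousCore_le 𝒜 q) (hq.2 ⟨h1, h2⟩ (Ideal.toIdeal_homogeneousCore_le 𝒜 q))

theorem le_iff_specializes (p q : ProjectiveSpectrum 𝒜) :
    p.asHomogeneousIdeal.toIdeal ≤ q.asHomogeneousIdeal.toIdeal ↔ p ⤳ q :=
  (ProjectiveSpectrum.le_iff_mem_closure 𝒜 p q).trans specializes_iff_mem_closure.symm

theorem isHomogeneous_span {F : Set S} (hF : ∀ f ∈ F, ∃ d, f.IsHomogeneous d) :
    (Ideal.span F).IsHomogeneous 𝒜 :=
  Ideal.homogeneous_span _ _ fun f hf => let ⟨d, h⟩ := hF f hf; ⟨d, h⟩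

/-- Positive dimensional closed subsets meet hypersurfaces. -/
theorem exists_point_of_add_le (p : ProjectiveSpectrum 𝒜) {F : Set S} (hF : F.Finite)
    (hhom : ∀ f ∈ F, ∃ d, f.IsHomogeneous d) (hFv : F ⊆ (vertexIdeal k n : Set S)) (hr : F.ncard < coneDim p) :
    ∃ q : ProjectiveSpectrum 𝒜,
      q.asHomogeneousIdeal.toIdeal ∈ (p.asHomogeneousIdeal.toIdeal ⊔ Ideal.span F).minimalPrimes := by
  have hsum : (p.asHomogeneousIdeal.toIdeal ⊔ Ideal.span F).IsHomogeneous 𝒜 :=
    p.asHomogeneousIdeal.isHomogeneous.sup (isHomogeneous_span hhom)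
  obtain ⟨q, hq⟩ := Ideal.nonempty_minimalPrimes (I := p.asHomogeneousIdeal.toIdeal ⊔ Ideal.span F)
    (ne_top_of_le_ne_top (Ideal.IsMaximal.ne_top (I := vertexIdeal k n) inferInstance)
      (sup_le (le_vertexIdeal p.asHomogeneousIdeal.isHomogeneous p.isPrime.ne_top) (Ideal.span_le.2 hFv)))
  haveI := hq.1.1
  have h := trdegQuot_le_add_of_minimalPrimes hF hq
  exact ⟨mkPoint q (isHomogeneous_of_mem_minimalPrimes hsum hq) (by unfold coneDim at hr; omega), hq⟩

theorem coneDim_lt {p q : ProjectiveSpectrum 𝒜} (h : p ⤳ q) (h' : ¬ q ⤳ p) : coneDim q < coneDim p :=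
  trdegQuot_lt (lt_of_le_not_ge ((le_iff_specializes p q).2 h) fun hh => h' ((le_iff_specializes q p).1 hh))

theorem sub_one_lt {p q : ProjectiveSpectrum 𝒜} (h : p ⤳ q) (h' : ¬ q ⤳ p) : coneDim q - 1 < coneDim p - 1 := by
  have := coneDim_lt h h'
  have := one_le_coneDim q
  omega

theorem exists_specializes_of_eq_succ (p : ProjectiveSpectrum 𝒜) (m : ℕ) (h : coneDim p - 1 = m + 1) :
    ∃ q, p ⤳ q ∧ coneDim q - 1 = m := by
  obtain ⟨i, hi⟩ := exists_X_notMem (one_le_coneDim p)
  obtain ⟨q, hq⟩ := exists_point_of_add_le p (Set.finite_singleton (MvPolynomial.X i))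
    (by rintro _ rfl; exact ⟨1, MvPolynomial.isHomogeneous_X k i⟩)
    (by simpa using X_mem_vertexIdeal i) (by rw [Set.ncard_singleton]; omega)
  refine ⟨q, (le_iff_specializes p q).1 (le_sup_left.trans hq.1.2), ?_⟩
  have : coneDim q + 1 = coneDim p := trdegQuot_add_one_eq hi hq
  omega

theorem projDim_le {W : Set (ProjectiveSpectrum 𝒜)} (hW : IsClosed W) {m : ℕ}
    (h : ∀ η ∈ W, coneDim η ≤ m + 1) : topologicalKrullDim ↥W ≤ m :=
  topologicalKrullDim_le_of_forall (fun p => coneDim p - 1) (fun _ _ => sub_one_lt) hW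
    fun η hη => by have := h η hη; omega

theorem le_projDim {W : Set (ProjectiveSpectrum 𝒜)} (hW : IsClosed W) {η : ProjectiveSpectrum 𝒜} (hη : η ∈ W) :
    ((coneDim η - 1 : ℕ) : WithBot ℕ∞) ≤ topologicalKrullDim ↥W :=
  natCast_le_topologicalKrullDim (fun p => coneDim p - 1) exists_specializes_of_eq_succ hW hη

theorem projDim_closure (p : ProjectiveSpectrum 𝒜) :
    topologicalKrullDim ↥(closure ({p} : Set (ProjectiveSpectrum 𝒜))) = ((coneDim p - 1 : ℕ) : WithBot ℕ∞) := by
  refine le_antisymm (projDim_le isClosed_closure fun η hη => ?_) (le_projDim isClosed_closure (subset_closure rfl))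
  have h1 : p ⤳ η := specializes_iff_mem_closure.2 hη
  have := one_le_coneDim p
  by_cases h2 : η ⤳ p
  · rw [(h1.antisymm h2).eq]; omega
  · have := coneDim_lt h1 h2; omega

theorem exists_of_le_projDim {W : Set (ProjectiveSpectrum 𝒜)} (hW : IsClosed W) (hne : W.Nonempty) {m : ℕ}
    (h : (m : WithBot ℕ∞) ≤ topologicalKrullDim ↥W) : ∃ η ∈ W, m + 1 ≤ coneDim η := by
  by_contra hc
  push Not at hc
  obtain ⟨x, hx⟩ := hne
  have := one_le_coneDim x
  have := hc x hx
  have h2 : topologicalKrullDim ↥W ≤ ((m - 1 : ℕ) : WithBot ℕ∞) :=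
    projDim_le hW fun η hη => by have := hc η hη; omega
  have : m ≤ m - 1 := by exact_mod_cast h.trans h2
  omega

theorem closure_singleton_eq_zeroLocus (p : ProjectiveSpectrum 𝒜) :
    closure ({p} : Set (ProjectiveSpectrum 𝒜)) = ProjectiveSpectrum.zeroLocus 𝒜 (p.asHomogeneousIdeal.toIdeal : Set S) :=
  Set.ext fun q => (ProjectiveSpectrum.le_iff_mem_closure 𝒜 p q).symm

theorem mem_zeroLocus_iff_span_le (F : Set S) (q : ProjectiveSpectrum 𝒜) :
    q ∈ ProjectiveSpectrum.zeroLocus 𝒜 F ↔ Ideal.span F ≤ q.asHomogeneousIdeal.toIdeal :=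
  Iff.symm Ideal.span_le

/-- Components of the intersection of an irreducible closed set with a zero locus. -/
theorem exists_point_of_component (p : ProjectiveSpectrum 𝒜) {F : Set S} (hhom : ∀ f ∈ F, ∃ d, f.IsHomogeneous d)
    (C : Set ↥(closure ({p} : Set (ProjectiveSpectrum 𝒜)) ∩ ProjectiveSpectrum.zeroLocus 𝒜 F))
    (hC : C ∈ irreducibleComponents _) :
    ∃ q : ProjectiveSpectrum 𝒜,
      q.asHomogeneousIdeal.toIdeal ∈ (p.asHomogeneousIdeal.toIdeal ⊔ Ideal.span F).minimalPrimes ∧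
      topologicalKrullDim ↥C = ((coneDim q - 1 : ℕ) : WithBot ℕ∞) := by
  obtain ⟨η, hη, hmax, hdim, -⟩ :=
    exists_maximal_of_component (isClosed_closure.inter (ProjectiveSpectrum.isClosed_zeroLocus _ _)) C hC
  refine ⟨η, ?_, hdim.trans (projDim_closure η)⟩
  have hle : p.asHomogeneousIdeal.toIdeal ⊔ Ideal.span F ≤ η.asHomogeneousIdeal.toIdeal :=
    sup_le ((ProjectiveSpectrum.le_iff_mem_closure 𝒜 p η).2 hη.1) ((mem_zeroLocus_iff_span_le F η).1 hη.2)
  obtain ⟨q, hq, hqle⟩ := Ideal.exists_minimalPrimes_le hle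
  haveI := hq.1.1
  let ξ : ProjectiveSpectrum 𝒜 := ⟨⟨q, isHomogeneous_of_mem_minimalPrimes
    (p.asHomogeneousIdeal.isHomogeneous.sup (isHomogeneous_span hhom)) hq⟩, hq.1.1,
    fun h => η.not_irrelevant_le (fun f hf => hqle (h hf))⟩
  have : ξ = η := hmax ξ ⟨(ProjectiveSpectrum.le_iff_mem_closure 𝒜 p ξ).1 (le_sup_left.trans hq.1.2),
    (mem_zeroLocus_iff_span_le F ξ).2 (le_sup_right.trans hq.1.2)⟩ ((le_iff_specializes ξ η).1 hqle)
  rw [← this]
  exact hq

theorem exists_genPoint : ∃ p : ProjectiveSpectrum 𝒜, p.asHomogeneousIdeal.toIdeal = ⊥ ∧ closure {p} = Set.univ ∧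
    coneDim p = n + 1 := by
  let p : ProjectiveSpectrum 𝒜 := mkPoint (⊥ : Ideal S) (hq := Ideal.isPrime_bot) (Ideal.IsHomogeneous.bot 𝒜)
    (by rw [trdegQuot_bot]; omega)
  refine ⟨p, rfl, Set.eq_univ_of_forall fun q => ?_, trdegQuot_bot⟩
  exact (ProjectiveSpectrum.le_iff_mem_closure 𝒜 p q).1 fun x hx => by
    rw [(Submodule.mem_bot S).1 hx]; exact zero_mem _

theorem exists_homogeneous_ne_zero {p : Ideal S} (hp : p.IsHomogeneous 𝒜) (hne : p ≠ ⊥) :
    ∃ d, ∃ f : S, f ∈ p ∧ f.IsHomogeneous d ∧ f ≠ 0 := by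
  classical
  obtain ⟨f, hf, hf0⟩ := Submodule.exists_mem_ne_zero_of_ne_bot hne
  by_contra hc
  push Not at hc
  refine hf0 ?_
  rw [← DirectSum.sum_support_decompose 𝒜 f]
  exact Finset.sum_eq_zero fun i _ => hc i _ (hp i hf) (DirectSum.decompose 𝒜 f i).2

section Factor

/-- Substitute `X i ↦ T * X i`. -/
noncomputable def scaleHom (k : Type u) [Field k] (n : ℕ) :
    MvPolynomial (Fin (n + 1)) k →ₐ[k] Polynomial (MvPolynomial (Fin (n + 1)) k) :=
  MvPolynomial.aeval fun i => Polynomial.C (MvPolynomial.X i) * Polynomial.X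

theorem scaleHom_of_isHomogeneous {f : S} {d : ℕ} (hf : f.IsHomogeneous d) :
    scaleHom k n f = Polynomial.monomial d f := by
  rw [← MvPolynomial.mem_homogeneousSubmodule, MvPolynomial.homogeneousSubmodule_eq_finsupp_supported] at hf
  rw [f.as_sum, map_sum, map_sum]
  refine Finset.sum_congr rfl fun m hm => ?_
  have hd : m.degree = d := hf hm
  rw [scaleHom, MvPolynomial.aeval_monomial, MvPolynomial.monomial_eq, ← Polynomial.C_mul_X_pow_eq_monomial,
    map_mul, Finsupp.prod, Finset.prod_congr rfl (fun i _ => mul_pow _ _ _), Finset.prod_mul_distrib,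
    Finset.prod_pow_eq_pow_sum, Finsupp.prod, map_prod, ← hd, Finsupp.degree_apply]
  simp [mul_assoc, Polynomial.C_pow]

theorem coeff_scaleHom (f : S) (j : ℕ) : (scaleHom k n f).coeff j = MvPolynomial.homogeneousComponent j f := by
  conv_lhs => rw [← MvPolynomial.sum_homogeneousComponent f, map_sum, Polynomial.finsetSum_coeff,
    Finset.sum_congr rfl (fun i _ => by rw [scaleHom_of_isHomogeneous (MvPolynomial.homogeneousComponent_isHomogeneous i f),
      Polynomial.coeff_monomial]), Finset.sum_ite_eq']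
  split_ifs with h
  · rfl
  · exact (MvPolynomial.homogeneousComponent_eq_zero j f (by simp only [Finset.mem_range] at h; omega)).symm

/-- Factors of homogeneous polynomials are homogeneous. -/
theorem exists_isHomogeneous_of_dvd {f g : S} {d : ℕ} (hf : f.IsHomogeneous d) (hf0 : f ≠ 0) (h : g ∣ f) :
    ∃ e, g.IsHomogeneous e := by
  obtain ⟨c, rfl⟩ := h
  have hinj : ∀ x : S, scaleHom k n x = 0 → x = 0 := fun x hx => by
    rw [← MvPolynomial.sum_homogeneousComponent x]
    exact Finset.sum_eq_zero fun j _ => by rw [← coeff_scaleHom, hx, Polynomial.coeff_zero]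
  obtain ⟨hg, hc⟩ := mul_ne_zero_iff.1 hf0
  have hg' : scaleHom k n g ≠ 0 := fun e => hg (hinj g e)
  have hc' : scaleHom k n c ≠ 0 := fun e => hc (hinj c e)
  have h1 := scaleHom_of_isHomogeneous hf
  rw [map_mul] at h1
  have h2 := Polynomial.natDegree_mul hg' hc'
  have h3 := Polynomial.natTrailingDegree_mul hg' hc'
  rw [h1, Polynomial.natDegree_monomial_eq d hf0] at h2
  rw [h1, Polynomial.natTrailingDegree_monomial hf0] at h3
  have h4 := Polynomial.natTrailingDegree_le_natDegree (scaleHom k n g)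
  have h5 := Polynomial.natTrailingDegree_le_natDegree (scaleHom k n c)
  suffices H : (∑ i ∈ Finset.range (g.totalDegree + 1), MvPolynomial.homogeneousComponent i g).IsHomogeneous
      (scaleHom k n g).natDegree from ⟨_, by rwa [MvPolynomial.sum_homogeneousComponent] at H⟩
  refine MvPolynomial.IsHomogeneous.sum _ _ _ fun j _ => ?_
  rcases eq_or_ne j (scaleHom k n g).natDegree with rfl | hj
  · exact MvPolynomial.homogeneousComponent_isHomogeneous _ g
  · rw [← coeff_scaleHom]
    rcases lt_or_gt_of_ne hj with hj | hj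
    · rw [Polynomial.coeff_eq_zero_of_lt_natTrailingDegree (by omega)]; exact MvPolynomial.isHomogeneous_zero _ _ _
    · rw [Polynomial.coeff_eq_zero_of_natDegree_lt hj]; exact MvPolynomial.isHomogeneous_zero _ _ _

end Factor

theorem trdegQuot_span_prime {f : S} (hf : Prime f) : trdegQuot k (Ideal.span {f}) = n := by
  have : (Ideal.span {f}).IsPrime := (Ideal.span_singleton_prime hf.ne_zero).2 hf
  have := trdegQuot_add_one_eq (p := (⊥ : Ideal S)) (q := Ideal.span {f}) (f := f)
    (fun h => hf.ne_zero ((Submodule.mem_bot S).1 h)) (by rw [bot_sup_eq, Ideal.minimalPrimes_eq_subsingleton_self]; rfl)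
  rw [trdegQuot_bot] at this
  omega

end Proj

end Groth.Agent.VarGal
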