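import Groth.Agent.FBase64.Splitting
import Groth.Prelude.Def_Curv2
import Mathlib.AlgebraicGeometry.Morphisms.Integral
import Mathlib.AlgebraicGeometry.Morphisms.Affine
import Mathlib.FieldTheory.Normal.Basic
import Mathlib.FieldTheory.SeparableClosure

universe u

/-! The action of `Aut(K/k)` on a base change `X_K`. -/

set_option backward.isDefEq.respectTransparency.types false

namespace Groth.Agent.VarGal

open CategoryTheory CategoryTheory.Limits AlgebraicGeometry TensorProduct

variable {k : Type u} [Field k] {X : Scheme.{u}} [X.Over (Spec (CommRingCat.of k))]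
  {K : Type u} [Field K] [Algebra k K]

theorem galAct_fst (σ : K ≃ₐ[k] K) : Curv2.galAct k X K σ ≫ Curv2.bcFst k X K = Curv2.bcFst k X K :=
  (pullback.lift_fst _ _ _).trans (Category.comp_id _)

theorem galAct_snd (σ : K ≃ₐ[k] K) : Curv2.galAct k X K σ ≫ Curv2.bcSnd k X K =
    Curv2.bcSnd k X K ≫ Spec.map (CommRingCat.ofHom (σ : K →ₐ[k] K).toRingHom) :=
  pullback.lift_snd _ _ _

theorem galAct_trans (σ τ : K ≃ₐ[k] K) :
    Curv2.galAct k X K σ ≫ Curv2.galAct k X K τ = Curv2.galAct k X K (τ.trans σ) := by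
  apply pullback.hom_ext
  · rw [Category.assoc, galAct_fst, galAct_fst, galAct_fst]
  · rw [Category.assoc, galAct_snd, galAct_snd, ← Category.assoc, galAct_snd, Category.assoc, ← Spec.map_comp]
    rfl

theorem galAct_refl : Curv2.galAct k X K AlgEquiv.refl = 𝟙 _ := by
  apply pullback.hom_ext
  · rw [galAct_fst, Category.id_comp]
  · rw [galAct_snd, Category.id_comp]
    show _ ≫ Spec.map (CommRingCat.ofHom (RingHom.id K)) = _
    rw [CommRingCat.ofHom_id, Spec.map_id, Category.comp_id]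

instance isIso_galAct (σ : K ≃ₐ[k] K) : IsIso (Curv2.galAct k X K σ) :=
  ⟨Curv2.galAct k X K σ.symm,
    by rw [galAct_trans, AlgEquiv.symm_trans_self, galAct_refl],
    by rw [galAct_trans, AlgEquiv.self_trans_symm, galAct_refl]⟩

theorem fst_galAct (σ : K ≃ₐ[k] K) (z : Curv2.bc k X K) :
    (Curv2.bcFst k X K).base ((Curv2.galAct k X K σ).base z) = (Curv2.bcFst k X K).base z :=
  congrArg (fun m : Curv2.bc k X K ⟶ X => m.base z) (galAct_fst σ)

/-- Two field valued points over the same point of `X` differ by an automorphism, which fixes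
whatever their second projections agree on. -/
theorem exists_galAct_of_common [Normal k K] {Ω : Type u} [Field Ω]
    (p p' : Spec (CommRingCat.of Ω) ⟶ Curv2.bc k X K)
    (h : p ≫ Curv2.bcFst k X K = p' ≫ Curv2.bcFst k X K) (pt : Spec (CommRingCat.of Ω)) :
    ∃ σ : K ≃ₐ[k] K, (Curv2.galAct k X K σ).base (p.base pt) = p'.base pt ∧
      ∀ a : K, (Spec.preimage (p ≫ Curv2.bcSnd k X K)).hom a = (Spec.preimage (p' ≫ Curv2.bcSnd k X K)).hom a →
        σ a = a := by
  obtain ⟨b, hb⟩ : ∃ b, Spec.map b = p ≫ Curv2.bcSnd k X K := ⟨_, Spec.map_preimage _⟩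
  obtain ⟨b', hb'⟩ : ∃ b, Spec.map b = p' ≫ Curv2.bcSnd k X K := ⟨_, Spec.map_preimage _⟩
  rw [← hb, ← hb', Spec.preimage_map, Spec.preimage_map]
  let := (b.hom.comp (algebraMap k K)).toAlgebra
  have hcomp : b.hom.comp (algebraMap k K) = b'.hom.comp (algebraMap k K) := by
    have h0 : Spec.map b ≫ Spec.map (CommRingCat.ofHom (algebraMap k K)) =
        Spec.map b' ≫ Spec.map (CommRingCat.ofHom (algebraMap k K)) := by
      rw [hb, hb']
      simp only [Category.assoc, ← pullback.condition]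
      rw [reassoc_of% h]
    simp only [← Spec.map_comp] at h0
    exact congrArg CommRingCat.Hom.hom (Spec.map_injective h0)
  let β : K →ₐ[k] Ω := { toRingHom := b.hom, commutes' := fun _ => rfl }
  let β' : K →ₐ[k] Ω := { toRingHom := b'.hom, commutes' := fun r => (RingHom.congr_fun hcomp r).symm }
  have hmem : ∀ c, β' c ∈ β.fieldRange := by
    intro c
    have hint : IsIntegral k c := Algebra.IsIntegral.isIntegral c
    have h0 : Polynomial.aeval (β' c) (minpoly k c) = 0 := by
      rw [Polynomial.aeval_algHom_apply, minpoly.aeval, map_zero]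
    rw [Polynomial.aeval_def, ← β.comp_algebraMap, ← Polynomial.eval₂_map] at h0
    exact (Normal.splits (F := k) (K := K) inferInstance c).mem_range_of_isRoot
      ((Polynomial.monic_map_iff).mpr (minpoly.monic hint) |>.ne_zero)
      (by rw [Polynomial.IsRoot, Polynomial.eval_map]; exact h0)
  let σ₀ : K →ₐ[k] K :=
    (AlgEquiv.ofInjectiveField β).symm.toAlgHom.comp (β'.codRestrict β.fieldRange.toSubalgebra hmem)
  let σ : K ≃ₐ[k] K := AlgEquiv.ofBijective σ₀ (Algebra.IsAlgebraic.algHom_bijective σ₀)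
  have hσ : ∀ c, b.hom (σ c) = b'.hom c := fun c =>
    congrArg Subtype.val ((AlgEquiv.ofInjectiveField β).apply_symm_apply
      (β'.codRestrict β.fieldRange.toSubalgebra hmem c))
  have hpσ : p ≫ Curv2.galAct k X K σ = p' := by
    apply pullback.hom_ext
    · rw [Category.assoc, galAct_fst, h]
    · rw [Category.assoc, galAct_snd, ← Category.assoc, ← hb, ← hb', ← Spec.map_comp]
      exact congrArg _ (CommRingCat.hom_ext (RingHom.ext hσ))
  refine ⟨σ, ?_, fun a ha => b.hom.injective ((hσ a).trans ha.symm)⟩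
  rw [← hpσ]; rfl

/-- Points of `X_K` as field valued points with common image. -/
theorem exists_common_points {W V : Scheme.{u}} (q : W ⟶ V) {z z' : W} (h : q.base z = q.base z') :
    ∃ (Ω : Type u) (_ : Field Ω) (p p' : Spec (CommRingCat.of Ω) ⟶ W) (pt : Spec (CommRingCat.of Ω)),
      p.base pt = z ∧ p'.base pt = z' ∧ p ≫ q = p' ≫ q := by
  have hF : ∀ z : W, ∃ (F : Type u) (_ : Field F) (r : Spec (CommRingCat.of F) ⟶ W), ∀ pt, r pt = z :=
    fun z => ⟨↥(W.residueField z), inferInstance, W.fromSpecResidueField z,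
      fun pt => Scheme.fromSpecResidueField_apply z pt⟩
  obtain ⟨F, _, r, hr⟩ := hF z
  obtain ⟨F', _, r', hr'⟩ := hF z'
  obtain ⟨Ω, _, _, i, i', hii⟩ := FBase64.exists_common_field (r ≫ q) (r' ≫ q)
    ⟨Classical.arbitrary _, Classical.arbitrary _, by
      rw [Scheme.Hom.comp_apply, Scheme.Hom.comp_apply, hr, hr']; exact h⟩
  refine ⟨Ω, inferInstance, Spec.map (CommRingCat.ofHom i) ≫ r, Spec.map (CommRingCat.ofHom i') ≫ r',
    Classical.arbitrary _, ?_, ?_, by simpa only [Category.assoc] using hii⟩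
  · rw [Scheme.Hom.comp_apply]; exact hr _
  · rw [Scheme.Hom.comp_apply]; exact hr' _

/-- Automorphisms act transitively on the fibres of `X_K → X` for normal `K`. -/
theorem exists_galAct_apply_eq [Normal k K] {z z' : Curv2.bc k X K}
    (h : (Curv2.bcFst k X K).base z = (Curv2.bcFst k X K).base z') :
    ∃ σ : K ≃ₐ[k] K, (Curv2.galAct k X K σ).base z = z' := by
  obtain ⟨Ω, _, p, p', pt, rfl, rfl, hpp⟩ := exists_common_points (Curv2.bcFst k X K) h
  exact ⟨_, (exists_galAct_of_common p p' hpp pt).choose_spec.1⟩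

section Inter

variable (X) (E : IntermediateField k K)

/-- The projection to the base change to an intermediate field. -/
noncomputable def toInter : Curv2.bc k X K ⟶ Curv2.bc k X E :=
  pullback.map _ _ _ _ (𝟙 X) (Spec.map (CommRingCat.ofHom (algebraMap E K))) (𝟙 _) (by simp) (by
    rw [Category.comp_id, ← Spec.map_comp, ← CommRingCat.ofHom_comp, ← IsScalarTower.algebraMap_eq])

theorem toInter_fst : toInter X E ≫ Curv2.bcFst k X E = Curv2.bcFst k X K :=
  (pullback.lift_fst _ _ _).trans (Category.comp_id _)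

theorem toInter_snd : toInter X E ≫ Curv2.bcSnd k X E =
    Curv2.bcSnd k X K ≫ Spec.map (CommRingCat.ofHom (algebraMap E K)) :=
  pullback.lift_snd _ _ _

theorem galAct_toInter {σ : K ≃ₐ[k] K} (hσ : ∀ a ∈ E, σ a = a) :
    Curv2.galAct k X K σ ≫ toInter X E = toInter X E := by
  apply pullback.hom_ext
  · rw [Category.assoc, toInter_fst, galAct_fst]
  · rw [Category.assoc, toInter_snd, ← Category.assoc, galAct_snd, Category.assoc, ← Spec.map_comp]
    congr 2
    exact CommRingCat.hom_ext (RingHom.ext fun a => hσ a.1 a.2)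

instance surjective_toInter : Surjective (toInter X E) := by
  obtain ⟨h, hs, h1, h2⟩ := FBase64.exists_surjective_pullback (X ↘ Spec (CommRingCat.of k))
    (Spec.map (CommRingCat.ofHom (algebraMap k E))) (Spec.map (CommRingCat.ofHom (algebraMap E K)))
    (Spec.map (CommRingCat.ofHom (algebraMap k K)))
    (by rw [← Spec.map_comp, ← CommRingCat.ofHom_comp, ← IsScalarTower.algebraMap_eq])
  have : toInter X E = h := by
    apply pullback.hom_ext
    · exact (toInter_fst X E).trans h1.symm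
    · exact (toInter_snd X E).trans h2.symm
  rw [this]; exact hs

theorem exists_galAct_apply_eq_fixing [Normal k K] {z z' : Curv2.bc k X K}
    (h : (toInter X E).base z = (toInter X E).base z') :
    ∃ σ : K ≃ₐ[k] K, (∀ a ∈ E, σ a = a) ∧ (Curv2.galAct k X K σ).base z = z' := by
  obtain ⟨Ω, _, p, p', pt, rfl, rfl, hpp⟩ := exists_common_points (toInter X E) h
  obtain ⟨σ, hσ, hfix⟩ := exists_galAct_of_common p p'
    (by simp only [← toInter_fst X E, ← Category.assoc, hpp]) pt
  refine ⟨σ, fun a ha => hfix a ?_, hσ⟩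
  have h2 := congrArg (· ≫ Curv2.bcSnd k X E) hpp
  simp only [Category.assoc, toInter_snd] at h2
  have h3 := congrArg (fun m : Spec (CommRingCat.of Ω) ⟶ Spec (CommRingCat.of E) => (Spec.preimage m).hom ⟨a, ha⟩) h2
  simp only [← Category.assoc, Spec.preimage_comp, Spec.preimage_map] at h3
  exact h3

end Inter

/-- The preimage of a compact open is stabilised by the automorphisms fixing a finite subextension. -/
theorem exists_finite_stab_chart {A : Type u} [CommRing A] [Algebra k A]
    (j : Spec (CommRingCat.of A) ⟶ X) [IsOpenImmersion j]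
    (hj : j ≫ (X ↘ Spec (CommRingCat.of k)) = Spec.map (CommRingCat.ofHom (algebraMap k A))) (t : A ⊗[k] K) :
    ∃ S : Finset K, ∀ σ : K ≃ₐ[k] K, (∀ a ∈ S, σ a = a) →
      (Curv2.galAct k X K σ).base ''
          ((FBase64.prodChart (X ↘ Spec (CommRingCat.of k)) (Spec.map (CommRingCat.ofHom (algebraMap k K)))
            j (𝟙 _) hj (Category.id_comp _)).base '' {P | t ∉ (show PrimeSpectrum (A ⊗[k] K) from P).asIdeal}) =
        (FBase64.prodChart (X ↘ Spec (CommRingCat.of k)) (Spec.map (CommRingCat.ofHom (algebraMap k K)))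
            j (𝟙 _) hj (Category.id_comp _)).base '' {P | t ∉ (show PrimeSpectrum (A ⊗[k] K) from P).asIdeal} := by
  classical
  obtain ⟨s, rfl⟩ := TensorProduct.exists_finset (R := k) t
  refine ⟨s.image Prod.snd, fun σ hσ => ?_⟩
  set c := FBase64.prodChart (X ↘ Spec (CommRingCat.of k)) (Spec.map (CommRingCat.ofHom (algebraMap k K)))
    j (𝟙 _) hj (Category.id_comp _)
  let φ : A ⊗[k] K →ₐ[k] A ⊗[k] K := Algebra.TensorProduct.map (AlgHom.id k A) (σ : K →ₐ[k] K)
  let m : Spec (CommRingCat.of (A ⊗[k] K)) ⟶ Spec (CommRingCat.of (A ⊗[k] K)) :=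
    Spec.map (CommRingCat.ofHom φ.toRingHom)
  have hm : c ≫ Curv2.galAct k X K σ = m ≫ c := by
    apply pullback.hom_ext
    · rw [Category.assoc, galAct_fst, Category.assoc, FBase64.prodChart_fst, ← Category.assoc,
        ← Spec.map_comp, ← CommRingCat.ofHom_comp]
      congr 3
      exact RingHom.ext fun a => by simp [φ]
    · rw [Category.assoc, galAct_snd]
      simp only [c, m, FBase64.prodChart, Category.assoc, pullback.lift_snd, Category.comp_id,
        pullback.lift_snd_assoc]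
      rw [pullbackSpecIso_inv_snd, ← Category.assoc, pullbackSpecIso_inv_snd, ← Spec.map_comp, ← Spec.map_comp,
        ← CommRingCat.ofHom_comp, ← CommRingCat.ofHom_comp]
      congr 2
  have hfix : φ (∑ i ∈ s, i.1 ⊗ₜ[k] i.2) = ∑ i ∈ s, i.1 ⊗ₜ[k] i.2 := by
    rw [map_sum]
    exact Finset.sum_congr rfl fun i hi => by
      simp only [φ, Algebra.TensorProduct.map_tmul, AlgHom.id_apply]
      exact congrArg _ (hσ _ (Finset.mem_image_of_mem _ hi))
  have hmpre : ∀ P : Spec (CommRingCat.of (A ⊗[k] K)),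
      (∑ i ∈ s, i.1 ⊗ₜ[k] i.2) ∈ (show PrimeSpectrum (A ⊗[k] K) from m.base P).asIdeal ↔
        (∑ i ∈ s, i.1 ⊗ₜ[k] i.2) ∈ (show PrimeSpectrum (A ⊗[k] K) from P).asIdeal := fun P =>
    iff_of_eq (congrArg (· ∈ (show PrimeSpectrum (A ⊗[k] K) from P).asIdeal) hfix)
  have hcomm : ∀ P, (Curv2.galAct k X K σ).base (c.base P) = c.base (m.base P) := fun P =>
    congrArg (fun n : Spec (CommRingCat.of (A ⊗[k] K)) ⟶ Curv2.bc k X K => n.base P) hm
  have : IsIso m := by
    have : Function.Bijective φ := (Algebra.TensorProduct.congr AlgEquiv.refl σ).bijective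
    have : IsIso (CommRingCat.ofHom φ.toRingHom) := by
      rw [ConcreteCategory.isIso_iff_bijective]; exact this
    exact inferInstanceAs (IsIso (Spec.map _))
  ext z
  constructor
  · rintro ⟨_, ⟨P, hP, rfl⟩, rfl⟩
    exact ⟨m.base P, fun h => hP ((hmpre P).1 h), (hcomm P).symm⟩
  · rintro ⟨P, hP, rfl⟩
    obtain ⟨Q, rfl⟩ := m.surjective P
    exact ⟨c.base Q, ⟨Q, fun h => hP ((hmpre Q).2 h), rfl⟩, hcomm Q⟩

theorem exists_stab_nhd {V : Set (Curv2.bc k X K)} (hV : IsOpen V) {z : Curv2.bc k X K} (hz : z ∈ V) :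
    ∃ O : Set (Curv2.bc k X K), IsOpen O ∧ z ∈ O ∧ O ⊆ V ∧ ∃ S : Finset K,
      ∀ σ : K ≃ₐ[k] K, (∀ a ∈ S, σ a = a) → (Curv2.galAct k X K σ).base '' O = O := by
  obtain ⟨A, _, _, j, _, hx, hj⟩ := FBase64.exists_chart (X ↘ Spec (CommRingCat.of k)) ((Curv2.bcFst k X K).base z)
  let c := FBase64.prodChart (X ↘ Spec (CommRingCat.of k)) (Spec.map (CommRingCat.ofHom (algebraMap k K)))
    j (𝟙 _) hj (Category.id_comp _)
  obtain ⟨P, rfl⟩ : z ∈ Set.range c := by
    rw [FBase64.range_prodChart]; exact ⟨hx, ⟨_, rfl⟩⟩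
  obtain ⟨_, ⟨t, rfl⟩, ht, htV⟩ := PrimeSpectrum.isTopologicalBasis_basic_opens.exists_subset_of_mem_open
    (show (show PrimeSpectrum (A ⊗[k] K) from P) ∈ c.base ⁻¹' V from hz) (hV.preimage c.continuous)
  obtain ⟨S, hS⟩ := exists_finite_stab_chart j hj t
  exact ⟨_, c.isOpenEmbedding.isOpenMap _ (PrimeSpectrum.basicOpen t).2, ⟨P, ht, rfl⟩,
    Set.image_subset_iff.2 htV, S, hS⟩

theorem exists_stab_of_isCompact {V : Set (Curv2.bc k X K)} (hV : IsOpen V) (hVc : IsCompact V) :
    ∃ S : Finset K, ∀ σ : K ≃ₐ[k] K, (∀ a ∈ S, σ a = a) → (Curv2.galAct k X K σ).base '' V = V := by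
  classical
  choose! O hO hzO hOV S hS using fun z (hz : z ∈ V) => exists_stab_nhd hV hz
  obtain ⟨u, hu, hcov⟩ := hVc.elim_nhds_subcover O fun z hz => (hO z hz).mem_nhds (hzO z hz)
  refine ⟨u.biUnion S, fun σ hσ => ?_⟩
  have h1 : V = ⋃ z ∈ u, O z := hcov.antisymm (Set.iUnion₂_subset fun z hz => hOV z (hu z hz))
  rw [h1, Set.image_iUnion₂]
  exact Set.iUnion₂_congr fun z hz => hS z (hu z hz) σ fun a ha => hσ a (Finset.mem_biUnion.2 ⟨z, hz, ha⟩)

end Groth.Agent.VarGal
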