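import Groth.Agent.VarGal.FibreIneq
import Mathlib.AlgebraicGeometry.Morphisms.QuasiFinite

/-! Quasi-finiteness at a point in terms of `fdeg`. -/

universe u
open CategoryTheory AlgebraicGeometry Topology
set_option backward.isDefEq.respectTransparency.types false

namespace Groth.Agent.VarGal

theorem isOpen_singleton_of_closed_maximal {F : Scheme.{u}} [IsLocallyNoetherian F] {w : F}
    (h1 : ∀ v : F, v ⤳ w → v = w) (h2 : ∀ v : F, w ⤳ v → v = w) : IsOpen ({w} : Set F) := by
  obtain ⟨V, hV, hwV, -⟩ := exists_isAffineOpen_mem_and_subset (x := w) (U := ⊤) trivial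
  have : IsAffine V.toScheme := hV
  have : IsNoetherian V.toScheme := ⟨⟩
  have hfin := TopologicalSpace.NoetherianSpace.finite_irreducibleComponents (α := V.toScheme)
  let K : Set V.toScheme := ⋃ Z ∈ {Z ∈ irreducibleComponents V.toScheme | (⟨w, hwV⟩ : V.toScheme) ∉ Z}, Z
  have hK : IsClosed K := (hfin.subset fun Z hZ => hZ.1).isClosed_biUnion fun Z hZ =>
    isClosed_of_mem_irreducibleComponents _ hZ.1
  have hKc : ({w} : Set F) = V.ι '' Kᶜ := by
    ext v
    constructor
    · rintro rfl
      refine ⟨⟨v, hwV⟩, ?_, rfl⟩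
      simp only [K, Set.mem_compl_iff, Set.mem_iUnion, not_exists]
      exact fun Z hZ => hZ.2
    · rintro ⟨v', hv', rfl⟩
      have hC := irreducibleComponent_mem_irreducibleComponents v'
      have hwC : (⟨w, hwV⟩ : V.toScheme) ∈ irreducibleComponent v' := by
        by_contra hh
        exact hv' (Set.mem_biUnion ⟨hC, hh⟩ mem_irreducibleComponent)
      obtain ⟨η, hη⟩ := QuasiSober.sober hC.1 (isClosed_of_mem_irreducibleComponents _ hC)
      have e : V.ι η = w := h1 _ ((hη.specializes hwC).map V.ι.continuous)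
      exact h2 _ (e ▸ (hη.specializes mem_irreducibleComponent).map V.ι.continuous)
  rw [hKc]
  exact V.ι.isOpenEmbedding.isOpenMap _ hK.isOpen_compl

variable {X Y : Scheme.{u}} (f : X ⟶ Y) [LocallyOfFiniteType f]

theorem quasiFiniteAt_of_fdeg_eq_zero (x : X)
    (h : ∀ z : X, z ⤳ x → f z = f x → E4O.fdeg f z = 0) : f.QuasiFiniteAt x := by
  rw [Scheme.Hom.quasiFiniteAt_iff_isOpen_singleton_asFiber]
  have hi := (f.fiberι (f x)).isEmbedding
  have hmem : ∀ a, f (f.fiberι (f x) a) = f x := fun a =>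
    (f.range_fiberι (f x)).le ⟨a, rfl⟩
  have : LocallyOfFiniteType (f.fiberToSpecResidueField (f x)) :=
    MorphismProperty.pullback_snd _ _ inferInstance
  have : IsLocallyNoetherian (f.fiber (f x)) :=
    LocallyOfFiniteType.isLocallyNoetherian (f.fiberToSpecResidueField (f x))
  refine isOpen_singleton_of_closed_maximal (fun v hv => hi.injective ?_) (fun v hv => hi.injective ?_)
  · have hv' := hv.map (f.fiberι (f x)).continuous
    rw [Scheme.Hom.fiberι_asFiber] at hv' ⊢
    by_contra hne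
    exact absurd (E4O.fdeg_lt hv' (hmem v) hne) (by rw [h _ hv' (hmem v)]; omega)
  · have hv' := hv.map (f.fiberι (f x)).continuous
    rw [Scheme.Hom.fiberι_asFiber] at hv' ⊢
    by_contra hne
    exact absurd (E4O.fdeg_lt hv' (hmem v).symm (Ne.symm hne))
      (by rw [h x specializes_rfl rfl]; omega)

theorem fdeg_eq_zero_of_quasiFiniteAt {x : X} (hx : f.QuasiFiniteAt x) : E4O.fdeg f x = 0 := by
  have hs : closure {x} ∩ f ⁻¹' {f x} = {x} := by
    refine subset_antisymm ?_ (by simp [subset_closure (Set.mem_singleton x)])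
    rintro w ⟨hw, hfw⟩
    obtain ⟨a, rfl⟩ := (f.range_fiberι (f x)).ge hfw
    have hsp : f.asFiber x ⤳ a := (f.fiberι (f x)).isEmbedding.isInducing.specializes_iff.1
      (by rw [Scheme.Hom.fiberι_asFiber]; exact specializes_iff_mem_closure.2 hw)
    have : a = f.asFiber x := hsp.mem_closed hx.isClopen_singleton_asFiber.1 rfl
    rw [this, Scheme.Hom.fiberι_asFiber]; rfl
  have h := E4O.dim_fibreClosure (f := f) x
  rw [hs] at h
  have h' := h.symm.trans_le (topologicalKrullDim_zero_of_discreteTopology ↥({x} : Set X))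
  exact Nat.le_zero.1 (Nat.cast_le.1 (h'.trans (by simp)))

theorem quasiFiniteAt_of_codim_le_one {y : Y} [IsNoetherianRing (Y.presheaf.stalk y)]
    (hy : ringKrullDim (Y.presheaf.stalk y) ≤ 1)
    (hgen : ∀ η : X, (∀ w : X, w ⤳ η → w = η) → f.QuasiFiniteAt η) (x : X) (hx : f x = y) :
    f.QuasiFiniteAt x := by
  refine quasiFiniteAt_of_fdeg_eq_zero f x fun z _ hfz => ?_
  obtain ⟨η, hηz, hη⟩ := exists_maximal_generization_top z
  have hη0 := fdeg_eq_zero_of_quasiFiniteAt f (hgen η hη)
  by_cases he : f η = f z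
  · exact Nat.le_zero.1 (hη0 ▸ E4O.fdeg_le hηz he)
  · have hzy : f z = y := hfz.trans hx
    have : IsNoetherianRing (Y.presheaf.stalk (f z)) := by rw [hzy]; assumption
    have h := fdeg_add_one_le f hηz he
    rw [hη0, hzy] at h
    have h2 : ((E4O.fdeg f z + 1 : ℕ) : WithBot ℕ∞) ≤ ((1 : ℕ) : WithBot ℕ∞) :=
      h.trans (by push_cast; rw [zero_add]; exact hy)
    exact Nat.le_zero.1 (Nat.le_of_add_le_add_right (Nat.cast_le.1 h2))

end Groth.Agent.VarGal
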