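import Groth.Agent.VarGal.GeomRed
import Groth.Agent.VarGal.SmoothReg
import Groth.Agent.VarGal.GeomReg
import Groth.Agent.VarGal.LocalDim
import Groth.Agent.FlatMor67.RegularSmooth
import Groth.Agent.FlatMor67.GeomReducedSmooth
import Groth.Agent.CAlg5.SmoothRegular
import Groth.Agent.Unr55.StalkCrit
import Groth.Agent.Unr55.DescSmooth
import Groth.Agent.Sep12.Basic
import Mathlib.RingTheory.DiscreteValuationRing.TFAE

/-! Regular versus smooth points over a field. -/

universe u
open CategoryTheory CategoryTheory.Limits AlgebraicGeometry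
open scoped TensorProduct
attribute [local instance] Curv2.resAlgebra Curv2.stalkAlgebra
set_option backward.isDefEq.respectTransparency.types false
set_option linter.style.haveILetI false

namespace Groth.Agent.VarGal

section Ring

variable {k : Type u} [Field k]

theorem formallySmooth_residueField_minimal {L Q : Type u} [Field L] [CommRing Q] [Algebra L Q]
    [IsReduced Q] [Algebra.Smooth L Q] (P : Ideal Q) [P.IsPrime] (hP : P ∈ minimalPrimes Q) :
    Algebra.FormallySmooth L P.ResidueField := by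
  haveI : Algebra.FormallyEtale Q (Localization.AtPrime P) := .of_isLocalization P.primeCompl
  haveI : Algebra.FormallySmooth L (Localization.AtPrime P) := .comp _ Q _
  haveI := FlatMor67.GRS.regular_atPrime_minimal P hP
  have hmax : IsLocalRing.maximalIdeal (Localization.AtPrime P) = ⊥ := by
    have h := IsLocalization.AtPrime.ringKrullDim_eq_height P (Localization.AtPrime P)
    rw [Ideal.height_eq_zero_iff.2 hP] at h
    haveI : Ring.KrullDimLE 0 (Localization.AtPrime P) := Ring.krullDimLE_iff.mpr h.le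
    exact IsLocalRing.isField_iff_maximalIdeal_eq.1 Ring.KrullDimLE.isField_of_isReduced
  refine Algebra.FormallySmooth.of_equiv (AlgEquiv.ofBijective
    (IsScalarTower.toAlgHom L (Localization.AtPrime P) P.ResidueField) ⟨?_, Ideal.Quotient.mk_surjective⟩)
  rw [injective_iff_map_eq_zero]
  intro a ha
  have h2 : a ∈ IsLocalRing.maximalIdeal (Localization.AtPrime P) := Ideal.Quotient.eq_zero_iff_mem.1 ha
  rw [hmax] at h2
  exact h2

/-- After a finite purely inseparable extension the residue field at a given prime is separable. -/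
theorem exists_purelyInseparable_formallySmooth_residueField (A : Type u) [CommRing A] [Algebra k A]
    [Algebra.FiniteType k A] (p : Ideal A) [p.IsPrime] :
    ∃ (L : Type u) (_ : Field L) (_ : Algebra k L) (_ : FiniteDimensional k L),
      ∃ (P : Ideal (L ⊗[k] A)) (_ : P.IsPrime),
        P.comap (Algebra.TensorProduct.includeRight (R := k) (A := L) (B := A)).toRingHom = p ∧
          Algebra.FormallySmooth L P.ResidueField := by
  let D := A ⧸ p
  haveI : Algebra.FiniteType k D := Algebra.FiniteType.of_surjective (Ideal.Quotient.mkₐ k p) Ideal.Quotient.mk_surjective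
  let K := perfectClosure k (AlgebraicClosure k)
  obtain ⟨c, hc, hQ⟩ := FlatMor67.GRS.exists_smooth_perfect (k := k) (A := D) K
  have hc0 : c ≠ 0 := fun h => hc ⊥ (by rw [IsDomain.minimalPrimes_eq_singleton_bot]; rfl) (by rw [h]; exact zero_mem _)
  let C := Localization.Away c
  haveI : Algebra.FiniteType k C := Algebra.FiniteType.trans (S := D) inferInstance inferInstance
  obtain ⟨Q₁, _, _, _, _, ψ, hψ, hker, hψr, _, _⟩ := hQ C
  obtain ⟨L, _, _, _, _, Q, _, _, φ, hφs, hφn, hφr, _, _⟩ :=
    FlatMor67.GRS.exists_descent K Q₁ ψ hψ hker hψr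
  let u : D →+* C := algebraMap D C
  have hCd : IsDomain C := IsLocalization.isDomain_localization (M := Submonoid.powers c)
    (powers_le_nonZeroDivisors_of_noZeroDivisors hc0)
  let ι : C →+* Q := φ.comp (Algebra.TensorProduct.includeLeft (R := k) (S := k) (A := C) (B := L)).toRingHom
  have hι : Function.Injective ι := by
    rw [injective_iff_map_eq_zero]
    intro x hx
    have h2 := hφn _ hx
    have h3 : IsNilpotent x := (IsNilpotent.map_iff
      (f := (Algebra.TensorProduct.includeLeft (R := k) (S := k) (A := C) (B := L)))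
      (Algebra.TensorProduct.includeLeft_injective (algebraMap k L).injective)).mp h2
    exact h3.eq_zero
  obtain ⟨Q', hQ'p, hQ'⟩ := Ideal.exists_comap_eq_of_mem_minimalPrimes_of_injective hι ⊥
    (by rw [IsDomain.minimalPrimes_eq_singleton_bot]; rfl)
  obtain ⟨Q₀, hQ₀, hle⟩ := Ideal.exists_minimalPrimes_le (bot_le : (⊥ : Ideal Q) ≤ Q')
  haveI : Q₀.IsPrime := hQ₀.1.1
  have hQ₀c : Q₀.comap ι = ⊥ := le_bot_iff.1 (hQ' ▸ Ideal.comap_mono hle)
  have hs := formallySmooth_residueField_minimal (L := L) Q₀ hQ₀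
  let v : A →ₐ[k] C := (IsScalarTower.toAlgHom k D C).comp (Ideal.Quotient.mkₐ k p)
  letI : Algebra k Q := ((algebraMap L Q).comp (algebraMap k L)).toAlgebra
  haveI : IsScalarTower k L Q := .of_algebraMap_eq fun _ => rfl
  let ιk : C →ₐ[k] Q := { ι with
    commutes' := fun r => by
      show φ (algebraMap k C r ⊗ₜ 1) = algebraMap L Q (algebraMap k L r)
      rw [Algebra.algebraMap_eq_smul_one, TensorProduct.smul_tmul, ← Algebra.algebraMap_eq_smul_one, hφr] }
  let χ : L ⊗[k] A →ₐ[L] Q :=
    Algebra.TensorProduct.lift (Algebra.ofId L Q) (ιk.comp v) fun _ _ => Commute.all _ _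
  refine ⟨L, inferInstance, inferInstance, inferInstance, Q₀.comap χ, inferInstance, ?_, ?_⟩
  · ext a
    have h1 : χ (1 ⊗ₜ a) = ι (v a) := by simp [χ, ιk]
    show χ (1 ⊗ₜ a) ∈ Q₀ ↔ a ∈ p
    rw [h1, show ι (v a) ∈ Q₀ ↔ v a ∈ Q₀.comap ι from Iff.rfl, hQ₀c, Ideal.mem_bot]
    rw [show v a = algebraMap D C (Ideal.Quotient.mk p a) from rfl,
      map_eq_zero_iff _ (IsLocalization.injective C (powers_le_nonZeroDivisors_of_noZeroDivisors hc0)),
      Ideal.Quotient.eq_zero_iff_mem]
  · let κ : (Q₀.comap χ).ResidueField →ₐ[L] Q₀.ResidueField := Ideal.ResidueField.mapₐ _ Q₀ χ rfl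
    have hκ : ∀ z, κ (algebraMap (L ⊗[k] A) _ z) = algebraMap Q Q₀.ResidueField (χ z) := fun z => by
      simp [κ]
    haveI := hs
    refine Algebra.FormallySmooth.of_equiv (AlgEquiv.ofBijective κ ⟨κ.toRingHom.injective, fun y => ?_⟩).symm
    have hC : ∀ x : C, algebraMap Q Q₀.ResidueField (ι x) ∈ κ.fieldRange := by
      intro x
      obtain ⟨j, d, hd⟩ := IsLocalization.Away.surj c x
      obtain ⟨a, rfl⟩ := Ideal.Quotient.mk_surjective d
      obtain ⟨b, rfl⟩ := Ideal.Quotient.mk_surjective c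
      have hb : ι (v b) ∉ Q₀ := fun h => by
        rw [← Ideal.mem_comap, hQ₀c, Ideal.mem_bot] at h
        exact (IsLocalization.Away.algebraMap_isUnit (S := C) (Ideal.Quotient.mk p b)).ne_zero h
      have key : algebraMap Q Q₀.ResidueField (ι x) =
          κ (algebraMap (L ⊗[k] A) _ (1 ⊗ₜ[k] a)) / κ (algebraMap (L ⊗[k] A) _ (1 ⊗ₜ[k] b)) ^ j := by
        rw [hκ, hκ, eq_div_iff (pow_ne_zero _ fun h => hb (by
          rwa [Ideal.algebraMap_residueField_eq_zero, show χ (1 ⊗ₜ b) = ι (v b) by simp [χ, ιk]] at h)),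
          ← map_pow, ← map_mul, show χ (1 ⊗ₜ a) = ι (v a) by simp [χ, ιk],
          show χ (1 ⊗ₜ b) = ι (v b) by simp [χ, ιk], ← map_pow, ← map_mul]
        exact congrArg _ (congrArg ι hd)
      rw [key]
      exact ⟨algebraMap (L ⊗[k] A) _ (1 ⊗ₜ[k] a) / algebraMap (L ⊗[k] A) _ (1 ⊗ₜ[k] b) ^ j, by simp⟩
    have hall : ∀ q : Q, algebraMap Q Q₀.ResidueField q ∈ κ.fieldRange := by
      intro q
      obtain ⟨z, rfl⟩ := hφs q
      induction z using TensorProduct.induction_on with
      | zero => rw [map_zero, map_zero]; exact zero_mem _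
      | add a b ha hb => rw [map_add, map_add]; exact add_mem ha hb
      | tmul x r =>
        rw [show x ⊗ₜ[k] r = (x ⊗ₜ[k] (1 : L)) * ((1 : C) ⊗ₜ[k] r) by simp, map_mul, map_mul, hφr]
        exact mul_mem (hC x) ⟨algebraMap L _ r, (AlgHom.commutes κ r).trans (IsScalarTower.algebraMap_apply L Q Q₀.ResidueField r)⟩
    obtain ⟨a, b, hb, rfl⟩ := IsFractionRing.div_surjective (A := Q ⧸ Q₀) y
    obtain ⟨a, rfl⟩ := Ideal.Quotient.mk_surjective a
    obtain ⟨b, rfl⟩ := Ideal.Quotient.mk_surjective b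
    exact div_mem (hall a) (hall b)

/-- Regularity after all finite extensions implies smoothness. -/
theorem isSmoothAt_of_regular_baseChange (A : Type u) [CommRing A] [Algebra k A] [Algebra.FiniteType k A]
    (p : Ideal A) [p.IsPrime]
    (h : ∀ (L : Type u) [Field L] [Algebra k L], FiniteDimensional k L → ∀ (P : Ideal (L ⊗[k] A)) [P.IsPrime],
      P.comap (Algebra.TensorProduct.includeRight (R := k) (A := L) (B := A)).toRingHom = p →
        IsRegularLocalRing (Localization.AtPrime P)) : Algebra.IsSmoothAt k p := by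
  obtain ⟨L, _, _, _, P, _, hP, _⟩ := exists_purelyInseparable_formallySmooth_residueField (k := k) A p
  haveI := h L inferInstance P hP
  have hs : Algebra.IsSmoothAt L P := FlatMor67.isSmoothAt_of_regular P
  haveI : Algebra.FinitePresentation k A := Algebra.FinitePresentation.of_finiteType.mp ‹_›
  subst hP
  exact Unr55.isSmoothAt_of_baseChange P hs

end Ring

section Scheme

variable {k : Type u} [Field k] {X : Scheme.{u}}

theorem finiteType_of_chart {A : Type u} [CommRing A] [Algebra k A] (f : X ⟶ Spec (CommRingCat.of k))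
    [LocallyOfFiniteType f] (j : Spec (CommRingCat.of A) ⟶ X) [IsOpenImmersion j]
    (hj : j ≫ f = Spec.map (CommRingCat.ofHom (algebraMap k A))) : Algebra.FiniteType k A := by
  have h1 : LocallyOfFiniteType (Spec.map (CommRingCat.ofHom (algebraMap k A))) := hj ▸ inferInstance
  rw [HasRingHomProperty.Spec_iff (P := @LocallyOfFiniteType)] at h1
  exact RingHom.finiteType_algebraMap.mp h1

theorem mem_smoothLocus_chart_iff {A : Type u} [CommRing A] [Algebra k A] (f : X ⟶ Spec (CommRingCat.of k))
    [LocallyOfFinitePresentation f] (j : Spec (CommRingCat.of A) ⟶ X) [IsOpenImmersion j]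
    (hj : j ≫ f = Spec.map (CommRingCat.ofHom (algebraMap k A))) (q : PrimeSpectrum A) :
    j q ∈ f.smoothLocus ↔ Algebra.IsSmoothAt k q.asIdeal := by
  refine (SetLike.ext_iff.1 (Scheme.Hom.preimage_smoothLocus_eq j f) q).trans (Scheme.Hom.mem_smoothLocus.trans ?_)
  refine (RingHom.FormallySmooth.respectsIso.arrow_mk_iso_iff
    ((eqToIso (by rw [hj]) : _ ≅ _) ≪≫ Scheme.arrowStalkMapSpecIso (CommRingCat.ofHom (algebraMap k A)) q)).trans ?_
  exact Unr55.localRingHom_formallySmooth_iff q.asIdeal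

variable [X.Over (Spec (CommRingCat.of k))] [LocallyOfFinitePresentation (X ↘ Spec (CommRingCat.of k))]

theorem mem_smoothLocus_of_isGeomRegularAt (x : X) (h : Curv2.IsGeomRegularAt k X x) :
    x ∈ (X ↘ Spec (CommRingCat.of k)).smoothLocus := by
  obtain ⟨A, _, _, j, _, ⟨q, rfl⟩, hj⟩ := FBase64.exists_chart (X ↘ Spec (CommRingCat.of k)) x
  have := finiteType_of_chart _ j hj
  rw [mem_smoothLocus_chart_iff _ j hj q]
  refine isSmoothAt_of_regular_baseChange A (show PrimeSpectrum A from q).asIdeal fun L _ _ hfin P _ hP => ?_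
  let t := Spec.map (CommRingCat.ofHom (algebraMap k L))
  let c := Algebra.TensorProduct.comm k A L
  let P' : PrimeSpectrum (A ⊗[k] L) := ⟨P.comap c.toRingEquiv.toRingHom, inferInstance⟩
  let x' := FBase64.prodChart (X ↘ Spec (CommRingCat.of k)) t j (𝟙 _) hj (Category.id_comp _) P'
  have hx' : Curv2.bcFst k X L x' = j q := by
    show (pullback.fst _ t) (FBase64.prodChart (X ↘ Spec (CommRingCat.of k)) t j (𝟙 _) hj (Category.id_comp _) P') = _
    rw [← Scheme.Hom.comp_apply, FBase64.prodChart_fst, Scheme.Hom.comp_apply]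
    refine congrArg j (PrimeSpectrum.ext ?_)
    rw [← hP]
    rfl
  obtain ⟨e⟩ := FBase64.nonempty_stalkEquiv (FBase64.prodChart (X ↘ Spec (CommRingCat.of k)) t j (𝟙 _) hj (Category.id_comp _)) P'
  haveI : IsRegularLocalRing ((Curv2.bc k X L).presheaf.stalk x') :=
    h L (IntermediateField.fg_of_noetherian _) x' hx'
  haveI : IsRegularLocalRing (Localization.AtPrime P'.asIdeal) := IsRegularLocalRing.of_ringEquiv e
  exact IsRegularLocalRing.of_ringEquiv
    (IsLocalization.ringEquivOfRingEquiv (M := P'.asIdeal.primeCompl) (T := P.primeCompl)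
      (Localization.AtPrime P'.asIdeal) (Localization.AtPrime P) c.toRingEquiv (by
        ext z
        refine ⟨fun ⟨w, hw, hwz⟩ => hwz ▸ hw, fun hz => ⟨c.symm z, ?_, c.apply_symm_apply z⟩⟩
        show ¬ c (c.symm z) ∈ P
        rw [AlgEquiv.apply_symm_apply]; exact hz))

theorem isGeomRegularAt_of_mem_smoothLocus (x : X) (h : x ∈ (X ↘ Spec (CommRingCat.of k)).smoothLocus) :
    Curv2.IsGeomRegularAt k X x := by
  let U := (X ↘ Spec (CommRingCat.of k)).smoothLocus
  letI : U.toScheme.Over (Spec (CommRingCat.of k)) := ⟨U.ι ≫ (X ↘ Spec (CommRingCat.of k))⟩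
  have : Smooth (U.toScheme ↘ Spec (CommRingCat.of k)) := by
    haveI : LocallyOfFinitePresentation (U.toScheme ↘ Spec (CommRingCat.of k)) :=
      inferInstanceAs (LocallyOfFinitePresentation (U.ι ≫ (X ↘ Spec (CommRingCat.of k))))
    rw [← Scheme.Hom.smoothLocus_eq_top_iff]
    show (U.ι ≫ (X ↘ Spec (CommRingCat.of k))).smoothLocus = ⊤
    rw [← Scheme.Hom.preimage_smoothLocus_eq, Scheme.Opens.ι_preimage_self]
  intro L _ _ hfg x' hx'
  obtain ⟨z, hz, hr⟩ := exists_base_change_flat_at (U.toScheme ↘ Spec (CommRingCat.of k))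
    (X ↘ Spec (CommRingCat.of k)) (Spec.map (CommRingCat.ofHom (algebraMap k L))) U.ι rfl ⟨x, h⟩
    (Flat.stalkMap U.ι _) x' hx'
  exact hr (isGeomRegularAt_of_smooth (⟨x, h⟩ : U.toScheme) L hfg z hz)

omit [LocallyOfFinitePresentation (X ↘ Spec (CommRingCat.of k))] in
theorem regular_stalk_chart_iff {A : Type u} [CommRing A] [Algebra k A] (j : Spec (CommRingCat.of A) ⟶ X)
    [IsOpenImmersion j] (q : PrimeSpectrum A) :
    IsRegularLocalRing (X.presheaf.stalk (j q)) ↔ IsRegularLocalRing (Localization.AtPrime q.asIdeal) := by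
  obtain ⟨e⟩ := FBase64.nonempty_stalkEquiv j q
  exact ⟨fun _ => IsRegularLocalRing.of_ringEquiv e, fun _ => IsRegularLocalRing.of_ringEquiv e.symm⟩

theorem mem_smoothLocus_of_regular (x : X) [IsRegularLocalRing (X.presheaf.stalk x)]
    [Algebra.FormallySmooth k (X.residueField x)] : x ∈ (X ↘ Spec (CommRingCat.of k)).smoothLocus := by
  obtain ⟨A, _, _, j, _, ⟨q, rfl⟩, hj⟩ := FBase64.exists_chart (X ↘ Spec (CommRingCat.of k)) x
  have := finiteType_of_chart _ j hj
  rw [mem_smoothLocus_chart_iff _ j hj q]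
  haveI := (regular_stalk_chart_iff (k := k) j q).1 inferInstance
  obtain ⟨e⟩ := exists_stalk_algEquiv j hj q
  let e' : X.residueField (j q) ≃ₐ[k] (show PrimeSpectrum A from q).asIdeal.ResidueField :=
    AlgEquiv.ofRingEquiv (f := IsLocalRing.ResidueField.mapEquiv e.toRingEquiv) fun r => by
      exact congrArg _ (e.commutes r)
  haveI : Algebra.FormallySmooth k (show PrimeSpectrum A from q).asIdeal.ResidueField := .of_equiv e'
  exact FlatMor67.isSmoothAt_of_regular _

theorem regular_of_mem_smoothLocus (x : X) (h : x ∈ (X ↘ Spec (CommRingCat.of k)).smoothLocus) :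
    IsRegularLocalRing (X.presheaf.stalk x) :=
  (Unr55.isRegularLocalRing_stalk_iff_of_smooth (X ↘ Spec (CommRingCat.of k)) x (Scheme.Hom.mem_smoothLocus.1 h)).2
    (isRegularLocalRing_stalk_spec_field k _)

end Scheme

end Groth.Agent.VarGal
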