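import Groth.Agent.VarGal.Generic

universe u
open CategoryTheory CategoryTheory.Limits AlgebraicGeometry
/-! Geometric irreducibility and the generic point. -/

attribute [local instance] Curv2.resAlgebra
set_option backward.isDefEq.respectTransparency.types false

namespace Groth.Agent.VarGal

theorem apply_genericPoint_of_flat {A B : Scheme.{u}} (h : A ⟶ B) [Flat h] [IrreducibleSpace A]
    [IrreducibleSpace B] : h (genericPoint A) = genericPoint B := by
  obtain ⟨a, ha, hab⟩ := Flat.generalizingMap h (genericPoint_specializes (h (genericPoint A)))
  rw [← hab, (ha.antisymm (genericPoint_specializes a)).eq]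

variable {k : Type u} [Field k] {X : Scheme.{u}} [X.Over (Spec (CommRingCat.of k))]

theorem fromSpecResidueField_over (x : X) :
    X.fromSpecResidueField x ≫ (X ↘ Spec (CommRingCat.of k)) =
      Spec.map (CommRingCat.ofHom (algebraMap k ↥(X.residueField x))) :=
  (SpecMap_resMap x).symm

theorem mem_range_fromSpecResidueField (x : X) : x ∈ Set.range (X.fromSpecResidueField x) :=
  (Scheme.range_fromSpecResidueField x).symm ▸ rfl

theorem geometricallyIrreducible_of_separable_elements [IrreducibleSpace X]
    (h : ∀ a : X.residueField (genericPoint X), IsSeparable k a →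
      a ∈ Set.range (algebraMap k (X.residueField (genericPoint X)))) :
    GeometricallyIrreducible (X ↘ Spec (CommRingCat.of k)) := by
  refine FBase64.geometricallyIrreducible_of_separableClosure_eq_bot _
    (κ := ↥(X.residueField (genericPoint X))) (X.fromSpecResidueField _)
    (fromSpecResidueField_over _) (Scheme.range_fromSpecResidueField _) (eq_bot_iff.2 fun a ha => ?_)
  exact IntermediateField.mem_bot.2 (h a (mem_separableClosure_iff.1 ha))

theorem separable_elements_of_pullback [IrreducibleSpace X] {Y : Scheme.{u}}
    (g : Y ⟶ Spec (CommRingCat.of k))
    (j' : Spec (CommRingCat.of (X.residueField (genericPoint X))) ⟶ Y) [IsPreimmersion j']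
    (hj' : j' ≫ g = Spec.map (CommRingCat.ofHom (algebraMap k (X.residueField (genericPoint X)))))
    [IrreducibleSpace ↥(pullback (X ↘ Spec (CommRingCat.of k)) g)]
    (h2 : pullback.snd (X ↘ Spec (CommRingCat.of k)) g (genericPoint _) ∈ Set.range j')
    (a : X.residueField (genericPoint X)) (ha : IsSeparable k a) :
    a ∈ Set.range (algebraMap k (X.residueField (genericPoint X))) := by
  have := irreducibleSpace_tensor_of_pullback (κ := ↥(X.residueField (genericPoint X)))
    (L := ↥(X.residueField (genericPoint X))) (X ↘ Spec (CommRingCat.of k)) g
    (X.fromSpecResidueField (genericPoint X)) (fromSpecResidueField_over _) j' hj'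
    (by rw [apply_genericPoint_of_flat]; exact mem_range_fromSpecResidueField _) h2
  exact mem_range_of_irreducibleSpace_tensor ha

theorem separable_elements_of_geometricallyIrreducible [IrreducibleSpace X]
    [GeometricallyIrreducible (X ↘ Spec (CommRingCat.of k))]
    (a : X.residueField (genericPoint X)) (ha : IsSeparable k a) :
    a ∈ Set.range (algebraMap k (X.residueField (genericPoint X))) := by
  let g := Spec.map (CommRingCat.ofHom (algebraMap k ↥(X.residueField (genericPoint X))))
  have : IrreducibleSpace ↥(pullback (X ↘ Spec (CommRingCat.of k)) g) :=
    pullback_of_geometrically GeometricallyIrreducible.geometrically_irreducibleSpace _ g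
  exact separable_elements_of_pullback g (𝟙 _) (Category.id_comp _) ⟨_, rfl⟩ a ha

theorem geometricallyIrreducible_iff_pullback_self :
    GeometricallyIrreducible (X ↘ Spec (CommRingCat.of k)) ↔
      IrreducibleSpace ↥(pullback (X ↘ Spec (CommRingCat.of k)) (X ↘ Spec (CommRingCat.of k))) := by
  set f := X ↘ Spec (CommRingCat.of k)
  constructor
  · intro hG
    have : IrreducibleSpace X := GeometricallyIrreducible.irreducibleSpace_of_subsingleton f
    rw [irreducibleSpace_def]
    have := (pullback.snd f f).isIrreducible_preimage (pullback.snd f f).isOpenMap
      (IrreducibleSpace.isIrreducible_univ X)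
    simpa using this
  · intro hI
    have : Nonempty X := ⟨pullback.fst f f (genericPoint _)⟩
    have : Surjective f := ⟨fun y => ⟨Classical.arbitrary X, Subsingleton.elim _ _⟩⟩
    have : IrreducibleSpace X := by
      rw [irreducibleSpace_def]
      simpa using (IrreducibleSpace.isIrreducible_univ _).image _ (pullback.fst f f).continuous.continuousOn
    refine geometricallyIrreducible_of_separable_elements fun a ha => ?_
    exact separable_elements_of_pullback (X ↘ Spec (CommRingCat.of k)) (X.fromSpecResidueField _)
      (fromSpecResidueField_over _)
      (by rw [apply_genericPoint_of_flat]; exact mem_range_fromSpecResidueField _) a ha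

end Groth.Agent.VarGal
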