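import Groth.Agent.VarGal.Components
import Groth.Agent.FBase64.ResField
import Groth.Agent.S6333
import Mathlib.AlgebraicGeometry.Morphisms.FiniteType
import Mathlib.RingTheory.EssentialFiniteness
import Mathlib.FieldTheory.SeparableClosure

universe u

/-! Residue fields of schemes locally of finite type over a field; finite fibres on components. -/

set_option backward.isDefEq.respectTransparency.types false

namespace Groth.Agent.VarGal

open CategoryTheory CategoryTheory.Limits AlgebraicGeometry

variable {k : Type u} [Field k] {X : Scheme.{u}}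

theorem residueFieldProp_essFiniteType (f : X ⟶ Spec (CommRingCat.of k)) [LocallyOfFiniteType f] (x : X) :
    FBase.ResidueFieldProp f x (fun K _ _ => Algebra.EssFiniteType k K) := by
  obtain ⟨A, _, _, j, _, ⟨P, rfl⟩, hj⟩ := FBase64.exists_chart f x
  have : Algebra.FiniteType k A := by
    have h1 : LocallyOfFiniteType (Spec.map (CommRingCat.ofHom (algebraMap k A))) := hj ▸ inferInstance
    rw [HasRingHomProperty.Spec_iff (P := @LocallyOfFiniteType)] at h1
    exact RingHom.finiteType_algebraMap.mp h1
  let R := (show PrimeSpectrum A from P).asIdeal.ResidueField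
  let rI := Scheme.Spec.residueFieldIso (CommRingCat.of A) P
  let w : CommRingCat.of R ⟶ X.residueField (j.base P) := rI.inv ≫ inv (j.residueFieldMap P)
  refine ⟨w.hom.comp ((algebraMap A R).comp (algebraMap k A)), ?_, ?_⟩
  · have h1 : Spec.map (j.residueFieldMap P) ≫ X.fromSpecResidueField (j.base P) ≫ f =
        Spec.map rI.inv ≫ Spec.map (CommRingCat.ofHom (algebraMap A R)) ≫
          Spec.map (CommRingCat.ofHom (algebraMap k A)) := by
      rw [Scheme.Hom.SpecMap_residueFieldMap_fromSpecResidueField_assoc,
        ← Scheme.Spec.map_residueFieldIso_inv_eq_fromSpecResidueField, Category.assoc, hj]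
    rw [← cancel_epi (Spec.map (j.residueFieldMap P)), h1]
    simp only [CommRingCat.ofHom_comp, Spec.map_comp, CommRingCat.ofHom_hom, w, Category.assoc]
    rw [← Spec.map_comp_assoc (inv (j.residueFieldMap P)), IsIso.inv_hom_id, Spec.map_id, Category.id_comp]
  · let := (w.hom.comp ((algebraMap A R).comp (algebraMap k A))).toAlgebra
    have : Algebra.EssFiniteType k R := Algebra.EssFiniteType.comp k A R
    let ψ : R →ₐ[k] X.residueField (j.base P) :=
      { w.hom with commutes' := fun r => congrArg w.hom (IsScalarTower.algebraMap_apply k A R r) }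
    exact Algebra.EssFiniteType.of_surjective ψ (ConcreteCategory.bijective_of_isIso w).2

theorem residueFieldProp_finite_separableClosure (f : X ⟶ Spec (CommRingCat.of k)) [LocallyOfFiniteType f]
    (x : X) : FBase.ResidueFieldProp f x (fun K _ _ => FiniteDimensional k (separableClosure k K)) := by
  obtain ⟨φ, hφ, hP⟩ := residueFieldProp_essFiniteType f x
  refine ⟨φ, hφ, ?_⟩
  let := φ.toAlgebra
  have : FiniteDimensional k (algebraicClosure k (X.residueField x)) :=
    S6333.result (@IntermediateField.fg_top k _ (X.residueField x) _ φ.toAlgebra hP)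
  have hle : separableClosure k (X.residueField x) ≤ algebraicClosure k (X.residueField x) :=
    fun a ha => (mem_algebraicClosure_iff' ).2 ((mem_separableClosure_iff.1 ha).isIntegral)
  exact Module.Finite.of_injective (IntermediateField.inclusion hle).toLinearMap
    (IntermediateField.inclusion hle).injective

variable [X.Over (Spec (CommRingCat.of k))] [LocallyOfFiniteType (X ↘ Spec (CommRingCat.of k))]

/-- Finitely many components of `X_E` over each component, for `E` algebraically closed algebraic. -/
theorem finite_maximal_fibre_closure {Z : Set X} (hZ : Z ∈ irreducibleComponents X) :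
    {z : Curv2.bc k X (AlgebraicClosure k) |
      (Curv2.bcFst k X (AlgebraicClosure k)).base z = hZ.1.genericPoint}.Finite := by
  obtain ⟨κ, _, _, j, _, hr, hj, hfin⟩ := FBase64.exists_point_of_residueFieldProp
    (X ↘ Spec (CommRingCat.of k)) (residueFieldProp_finite_separableClosure _ hZ.1.genericPoint)
  have sq : IsPullback (Curv2.bcFst k X (AlgebraicClosure k)) (Curv2.bcSnd k X (AlgebraicClosure k))
      (X ↘ Spec (CommRingCat.of k)) (Spec.map (CommRingCat.ofHom (algebraMap k (AlgebraicClosure k)))) :=
    IsPullback.of_hasPullback _ _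
  have : Nonempty (separableClosure k κ →ₐ[k] AlgebraicClosure k) := ⟨IsAlgClosed.lift⟩
  choose! σ hσ using fun (z : Curv2.bc k X (AlgebraicClosure k))
      (hz : (Curv2.bcFst k X (AlgebraicClosure k)).base z = hZ.1.genericPoint) =>
    FBase64.exists_isPointOf sq j hj (z := z) (hr.symm ▸ hz)
  exact Set.Finite.of_finite_image (Set.toFinite (σ '' _)) fun z hz z' hz' h =>
    FBase64.IsPointOf.eq_of_maximal sq j hj hr (FBase64.maximal_genericPoint hZ) (hσ z hz) (h ▸ hσ z' hz')

end Groth.Agent.VarGal
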