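import Groth.Agent.FBase64.Openness
import Groth.Agent.VarGal.GenIrred
import Groth.Prelude.Def_Curv2
import Mathlib.LinearAlgebra.TensorProduct.Basis
import Mathlib.FieldTheory.PurelyInseparable.PerfectClosure

/-! Geometric reducedness at points, via stalks. -/
universe u
open CategoryTheory CategoryTheory.Limits AlgebraicGeometry TensorProduct
attribute [local instance] Curv2.resAlgebra Curv2.stalkAlgebra
set_option backward.isDefEq.respectTransparency.types false

namespace Groth.Agent.VarGal

theorem SpecMap_curvStalkMap {k : Type u} [Field k] {X : Scheme.{u}} [X.Over (Spec (CommRingCat.of k))]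
    (x : X) : Spec.map (CommRingCat.ofHom (Curv2.stalkMap k X x)) =
      X.fromSpecStalk x ≫ (X ↘ Spec (CommRingCat.of k)) := by
  have : CommRingCat.ofHom (Curv2.stalkMap k X x) = (Scheme.ΓSpecIso (CommRingCat.of k)).inv ≫
      (X ↘ Spec (CommRingCat.of k)).appTop ≫ X.presheaf.germ ⊤ x trivial := rfl
  rw [this]
  simp only [Spec.map_comp, Category.assoc]
  rw [← Scheme.fromSpecStalk_toSpecΓ_assoc, ← Scheme.toSpecΓ_naturality_assoc]
  congr 1
  rw [← SpecMap_ΓSpecIso_hom, ← Spec.map_comp, Iso.inv_hom_id, Spec.map_id, Category.comp_id]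

theorem SpecMap_stalkIso_fromSpecStalk (R : CommRingCat.{u}) (P : ↥(Spec R)) :
    Spec.map (AlgebraicGeometry.Spec.stalkIso R P).hom ≫ (Spec R).fromSpecStalk P =
      Spec.map (CommRingCat.ofHom (algebraMap R (Localization.AtPrime P.asIdeal))) := by
  rw [Spec.fromSpecStalk_eq, ← Spec.map_comp, ← Spec.algebraMap_stalkIso_inv, Category.assoc,
    Iso.inv_hom_id, Category.comp_id]

theorem exists_stalk_algEquiv {k : Type u} [Field k] {X : Scheme.{u}} [X.Over (Spec (CommRingCat.of k))]
    {A : Type u} [CommRing A] [Algebra k A] (j : Spec (CommRingCat.of A) ⟶ X) [IsOpenImmersion j]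
    (hj : j ≫ (X ↘ Spec (CommRingCat.of k)) = Spec.map (CommRingCat.ofHom (algebraMap k A)))
    (P : PrimeSpectrum A) :
    Nonempty (X.presheaf.stalk (j P) ≃ₐ[k] Localization.AtPrime P.asIdeal) := by
  let φ := asIso (j.stalkMap P) ≪≫ AlgebraicGeometry.Spec.stalkIso (CommRingCat.of A) P
  have h : CommRingCat.ofHom (Curv2.stalkMap k X (j P)) ≫ φ.hom =
      CommRingCat.ofHom (algebraMap k A) ≫ CommRingCat.ofHom (algebraMap A (Localization.AtPrime P.asIdeal)) := by
    apply Spec.map_injective
    simp only [φ, Iso.trans_hom, asIso_hom, Spec.map_comp, SpecMap_curvStalkMap, Category.assoc]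
    rw [Scheme.SpecMap_stalkMap_fromSpecStalk_assoc, hj, ← Category.assoc]
    exact congrArg (· ≫ _) (SpecMap_stalkIso_fromSpecStalk (CommRingCat.of A) P)
  exact ⟨AlgEquiv.ofRingEquiv (f := φ.commRingCatIsoToRingEquiv) fun c => DFunLike.congr_fun (congrArg CommRingCat.Hom.hom h) c⟩

variable {k : Type u} [Field k] {X : Scheme.{u}} [X.Over (Spec (CommRingCat.of k))]

theorem isGeomReducedAt_iff_fbase (x : X) :
    Curv2.IsGeomReducedAt k X x ↔ FBase.IsGeomReducedAt (X ↘ Spec (CommRingCat.of k)) x := Iff.rfl

theorem isGeomReducedAt_iff_stalk (x : X) :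
    Curv2.IsGeomReducedAt k X x ↔ Algebra.IsGeometricallyReduced k (X.presheaf.stalk x) := by
  obtain ⟨A, _, _, j, _, ⟨q, rfl⟩, hj⟩ := FBase64.exists_chart (X ↘ Spec (CommRingCat.of k)) x
  obtain ⟨e⟩ := exists_stalk_algEquiv j hj q
  constructor
  · intro h
    have := FBase64.isGeometricallyReduced_atPrime_of_point _ j hj q h
    exact Algebra.IsGeometricallyReduced.of_injective e.toAlgHom e.injective
  · intro h K _ _ x' hx'
    have hA : Algebra.IsGeometricallyReduced k (Localization.AtPrime (show PrimeSpectrum A from q).asIdeal) :=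
      Algebra.IsGeometricallyReduced.of_injective e.symm.toAlgHom e.symm.injective
    let t := Spec.map (CommRingCat.ofHom (algebraMap k K))
    obtain ⟨P, rfl⟩ : x' ∈ Set.range (FBase64.prodChart _ t j (𝟙 _) hj (Category.id_comp _)) := by
      rw [FBase64.range_prodChart]
      exact ⟨⟨q, hx'.symm⟩, ⟨_, rfl⟩⟩
    have hq : Spec.map (CommRingCat.ofHom (algebraMap A (A ⊗[k] K))) P = q := by
      apply j.isOpenEmbedding.injective
      rw [← Scheme.Hom.comp_apply, ← FBase64.prodChart_fst (f := X ↘ Spec (CommRingCat.of k)) (g := t) j (𝟙 _) hj (Category.id_comp _)]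
      exact hx'
    subst hq
    have : _root_.IsReduced (Localization.AtPrime (show PrimeSpectrum A from Spec.map (CommRingCat.ofHom (algebraMap A (A ⊗[k] K))) P).asIdeal ⊗[k] K) := by
      have := FBase64.isReduced_tensor_of_geomReduced k (Localization.AtPrime (show PrimeSpectrum A from Spec.map (CommRingCat.ofHom (algebraMap A (A ⊗[k] K))) P).asIdeal) K
      exact FBase64.isReduced_tensor_comm
    have := FBase64.isReduced_atPrime_tensor _ (show PrimeSpectrum (A ⊗[k] K) from P).asIdeal rfl this
    obtain ⟨e'⟩ := FBase64.nonempty_stalkEquiv (FBase64.prodChart _ t j (𝟙 _) hj (Category.id_comp _)) P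
    exact isReduced_of_injective e' e'.injective

omit [X.Over (Spec (CommRingCat.of k))] in
/-- Localisations of geometrically reduced algebras are geometrically reduced. -/
theorem isGeometricallyReduced_localization (A S : Type u) [CommRing A] [Algebra k A] [CommRing S]
    [Algebra A S] [Algebra k S] [IsScalarTower k A S] (M : Submonoid A) [IsLocalization M S]
    [Algebra.IsGeometricallyReduced k A] : Algebra.IsGeometricallyReduced k S := by
  rw [Algebra.isGeometricallyReduced_field_iff]
  suffices _root_.IsReduced (S ⊗[k] AlgebraicClosure k) from FBase64.isReduced_tensor_comm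
  let T := A ⊗[k] AlgebraicClosure k
  have hT : _root_.IsReduced T :=
    have : _root_.IsReduced (AlgebraicClosure k ⊗[k] A) := inferInstance
    FBase64.isReduced_tensor_comm
  have hC : _root_.IsReduced (T ⊗[A] S) :=
    isReduced_localizationPreserves (Algebra.algebraMapSubmonoid T M) (T ⊗[A] S) hT
  let e : T ⊗[A] S ≃+* S ⊗[k] AlgebraicClosure k :=
    (Algebra.TensorProduct.comm A T S).toRingEquiv.trans
      (Algebra.TensorProduct.cancelBaseChange k A A S (AlgebraicClosure k)).toRingEquiv
  exact isReduced_of_injective e.symm e.symm.injective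

omit [X.Over (Spec (CommRingCat.of k))] in
theorem isGeometricallyReduced_of_minimalPrimes (A : Type u) [CommRing A] [Algebra k A] [_root_.IsReduced A]
    (h : ∀ p : PrimeSpectrum A, IsMin p → Algebra.IsGeometricallyReduced k (Localization.AtPrime p.asIdeal)) :
    Algebra.IsGeometricallyReduced k A := by
  rw [Algebra.isGeometricallyReduced_field_iff]
  suffices _root_.IsReduced (A ⊗[k] AlgebraicClosure k) from FBase64.isReduced_tensor_comm
  let b := Module.Free.chooseBasis k (AlgebraicClosure k)
  refine ⟨fun z hz => ?_⟩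
  apply (TensorProduct.equivFinsuppOfBasisRight b).injective
  ext i
  rw [map_zero, Finsupp.zero_apply]
  have key : TensorProduct.equivFinsuppOfBasisRight b z i ∈ sInf (minimalPrimes A) := by
    refine Submodule.mem_sInf.2 fun (p : Ideal A) hp => ?_
    have : Ideal.IsPrime p := hp.1.1
    have hmin : IsMin (⟨p, this⟩ : PrimeSpectrum A) := fun q hq => hp.2 ⟨q.2, bot_le⟩ hq
    have := h _ hmin
    let g : A →ₐ[k] Localization.AtPrime p := IsScalarTower.toAlgHom k A _
    let φ := Algebra.TensorProduct.map g (AlgHom.id k (AlgebraicClosure k))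
    have : _root_.IsReduced (Localization.AtPrime p ⊗[k] AlgebraicClosure k) :=
      have : _root_.IsReduced (AlgebraicClosure k ⊗[k] Localization.AtPrime p) := inferInstance
      FBase64.isReduced_tensor_comm
    have h0 : φ z = 0 := (hz.map φ).eq_zero
    have hnat : ∀ w, TensorProduct.equivFinsuppOfBasisRight b (φ w) i =
        g (TensorProduct.equivFinsuppOfBasisRight b w i) := by
      intro w
      induction w using TensorProduct.induction_on with
      | zero => simp
      | tmul a c => simp [φ]
      | add a c ha hc => simp only [map_add, Finsupp.add_apply, ha, hc]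
    have := hnat z
    rw [h0, map_zero, Finsupp.zero_apply] at this
    obtain ⟨c, hc⟩ := (IsLocalization.map_eq_zero_iff p.primeCompl (Localization.AtPrime p) _).1 this.symm
    exact (Ideal.IsPrime.mem_or_mem inferInstance (hc ▸ p.zero_mem)).resolve_left c.2
  rw [minimalPrimes, Ideal.sInf_minimalPrimes] at key
  exact (mem_nilradical.1 key).eq_zero

theorem isGeomReducedAt_chart_iff {A : Type u} [CommRing A] [Algebra k A]
    (j : Spec (CommRingCat.of A) ⟶ X) [IsOpenImmersion j]
    (hj : j ≫ (X ↘ Spec (CommRingCat.of k)) = Spec.map (CommRingCat.ofHom (algebraMap k A)))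
    (P : PrimeSpectrum A) :
    Curv2.IsGeomReducedAt k X (j P) ↔ Algebra.IsGeometricallyReduced k (Localization.AtPrime P.asIdeal) := by
  obtain ⟨e⟩ := exists_stalk_algEquiv j hj P
  rw [isGeomReducedAt_iff_stalk]
  exact ⟨fun _ => Algebra.IsGeometricallyReduced.of_injective e.symm.toAlgHom e.symm.injective,
    fun _ => Algebra.IsGeometricallyReduced.of_injective e.toAlgHom e.injective⟩

omit [X.Over (Spec (CommRingCat.of k))] in
theorem isGeometricallyReduced_atPrime_of_le {A : Type u} [CommRing A] [Algebra k A] (P P' : PrimeSpectrum A)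
    (hle : P'.asIdeal ≤ P.asIdeal) [Algebra.IsGeometricallyReduced k (Localization.AtPrime P.asIdeal)] :
    Algebra.IsGeometricallyReduced k (Localization.AtPrime P'.asIdeal) := by
  have hM : P.asIdeal.primeCompl ≤ P'.asIdeal.primeCompl := fun a ha h => ha (hle h)
  let := IsLocalization.localizationAlgebraOfSubmonoidLe (Localization.AtPrime P.asIdeal)
    (Localization.AtPrime P'.asIdeal) _ _ hM
  have := IsLocalization.localization_isScalarTower_of_submonoid_le (Localization.AtPrime P.asIdeal)
    (Localization.AtPrime P'.asIdeal) _ _ hM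
  have : IsScalarTower k (Localization.AtPrime P.asIdeal) (Localization.AtPrime P'.asIdeal) :=
    .of_algebraMap_eq fun c => by
      rw [IsScalarTower.algebraMap_apply k A (Localization.AtPrime P.asIdeal),
        IsScalarTower.algebraMap_apply k A (Localization.AtPrime P'.asIdeal),
        ← IsScalarTower.algebraMap_apply A (Localization.AtPrime P.asIdeal)]
  have := IsLocalization.isLocalization_of_submonoid_le (Localization.AtPrime P.asIdeal)
    (Localization.AtPrime P'.asIdeal) _ _ hM
  exact isGeometricallyReduced_localization (Localization.AtPrime P.asIdeal) _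
    (P'.asIdeal.primeCompl.map (algebraMap A (Localization.AtPrime P.asIdeal)))

theorem isGeomReducedAt_of_specializes (x x' : X) (hs : x' ⤳ x)
    (h : Curv2.IsGeomReducedAt k X x) : Curv2.IsGeomReducedAt k X x' := by
  obtain ⟨A, _, _, j, _, ⟨q, rfl⟩, hj⟩ := FBase64.exists_chart (X ↘ Spec (CommRingCat.of k)) x
  obtain ⟨q', rfl⟩ := hs.mem_open j.isOpenEmbedding.isOpen_range ⟨q, rfl⟩
  have hle : (show PrimeSpectrum A from q').asIdeal ≤ (show PrimeSpectrum A from q).asIdeal :=
    (PrimeSpectrum.le_iff_specializes _ _).2 (j.isOpenEmbedding.isInducing.specializes_iff.1 hs)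
  have := (isGeomReducedAt_chart_iff j hj q).1 h
  exact (isGeomReducedAt_chart_iff j hj q').2 (isGeometricallyReduced_atPrime_of_le _ _ hle)

theorem geometricallyReduced_of_maximal_points [IsReduced X]
    (h : ∀ η : X, (∀ w, w ⤳ η → w = η) → Curv2.IsGeomReducedAt k X η) :
    GeometricallyReduced (X ↘ Spec (CommRingCat.of k)) := by
  refine (FBase64.geometricallyReduced_iff_forall _).2 fun x => ?_
  rw [← isGeomReducedAt_iff_fbase]
  obtain ⟨A, _, _, j, _, ⟨q, rfl⟩, hj⟩ := FBase64.exists_chart (X ↘ Spec (CommRingCat.of k)) x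
  have : _root_.IsReduced A := (affine_isReduced_iff _).mp (isReduced_of_isOpenImmersion j)
  have hA : Algebra.IsGeometricallyReduced k A := by
    refine isGeometricallyReduced_of_minimalPrimes A fun p hp => ?_
    have hmax : ∀ w, w ⤳ j p → w = j p := fun w hw => by
      obtain ⟨p', rfl⟩ := hw.mem_open j.isOpenEmbedding.isOpen_range ⟨p, rfl⟩
      have hle := (PrimeSpectrum.le_iff_specializes (show PrimeSpectrum A from p') p).2 (j.isOpenEmbedding.isInducing.specializes_iff.1 hw)
      exact congrArg (fun q : PrimeSpectrum A => j q) (le_antisymm hle (hp hle))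
    exact (isGeomReducedAt_chart_iff j hj p).1 (h _ hmax)
  refine (isGeomReducedAt_chart_iff j hj q).2 ?_
  exact isGeometricallyReduced_localization A _ (show PrimeSpectrum A from q).asIdeal.primeCompl

omit [X.Over (Spec (CommRingCat.of k))] in
theorem isGeomReducedAt_iff_bcStr {K : Type u} [Field K] [Algebra k K] (f : X ⟶ Spec (CommRingCat.of k))
    (x' : ↥(FBase.bc f K)) :
    FBase.IsGeomReducedAt f (FBase.bcπ f K x') ↔ FBase.IsGeomReducedAt (FBase.bcStr f K) x' := by
  constructor
  · intro h L _ _ z hz
    let : Algebra k L := ((algebraMap K L).comp (algebraMap k K)).toAlgebra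
    have : IsScalarTower k K L := .of_algebraMap_eq fun _ => rfl
    obtain ⟨e, _, he⟩ := FBase64.exists_bcIso f K L
    have : _root_.IsReduced ((FBase.bc f L).presheaf.stalk (e z)) := h L (e z) (by
      show FBase.bcπ f L (e z) = _
      rw [← Scheme.Hom.comp_apply, he, Scheme.Hom.comp_apply, ← hz])
    exact FBase64.isReduced_stalk_of_iso e z
  · intro h
    let Ω := AlgebraicClosure K
    obtain ⟨z, hz⟩ := (pullback.fst (FBase.bcStr f K) (Spec.map (CommRingCat.ofHom (algebraMap K Ω)))).surjective x'
    obtain ⟨e, _, he⟩ := FBase64.exists_bcIso f K Ω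
    have := h Ω z hz
    have : _root_.IsReduced ((FBase.bc f Ω).presheaf.stalk (e z)) :=
      have := FBase64.isReduced_stalk_of_flat e z
      this
    exact FBase64.isGeomReducedAt_of_perfect f _ (e z) (by
      rw [← Scheme.Hom.comp_apply, he, Scheme.Hom.comp_apply]
      exact congrArg _ hz)

theorem isReduced_stalk_pullback {Y : Scheme.{u}} (g : Y ⟶ Spec (CommRingCat.of k)) [IsReduced Y]
    (z : ↥(pullback (X ↘ Spec (CommRingCat.of k)) g))
    (hx : Curv2.IsGeomReducedAt k X (pullback.fst (X ↘ Spec (CommRingCat.of k)) g z)) :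
    _root_.IsReduced ((pullback (X ↘ Spec (CommRingCat.of k)) g).presheaf.stalk z) := by
  let f := X ↘ Spec (CommRingCat.of k)
  obtain ⟨A, _, _, j, _, hxj, hj⟩ := FBase64.exists_chart f (pullback.fst f g z)
  obtain ⟨B, _, _, j', _, hyj, hj'⟩ := FBase64.exists_chart g (pullback.snd f g z)
  obtain ⟨P, rfl⟩ : z ∈ Set.range (FBase64.prodChart f g j j' hj hj') := by
    rw [FBase64.range_prodChart]; exact ⟨hxj, hyj⟩
  have : _root_.IsReduced B := (affine_isReduced_iff _).mp (isReduced_of_isOpenImmersion j')
  rw [← Scheme.Hom.comp_apply, FBase64.prodChart_fst, Scheme.Hom.comp_apply] at hx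
  let Q : PrimeSpectrum A := Spec.map (CommRingCat.ofHom (algebraMap A (A ⊗[k] B))) P
  have hA : Algebra.IsGeometricallyReduced k (Localization.AtPrime Q.asIdeal) :=
    (isGeomReducedAt_chart_iff j hj Q).1 hx
  have : _root_.IsReduced (Localization.AtPrime Q.asIdeal ⊗[k] B) := by
    have := FBase64.isReduced_tensor_of_geomReduced k (Localization.AtPrime Q.asIdeal) B
    exact FBase64.isReduced_tensor_comm
  have := FBase64.isReduced_atPrime_tensor Q.asIdeal (show PrimeSpectrum (A ⊗[k] B) from P).asIdeal
    rfl this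
  obtain ⟨e'⟩ := FBase64.nonempty_stalkEquiv (FBase64.prodChart f g j j' hj hj') P
  exact isReduced_of_injective e' e'.injective

omit [X.Over (Spec (CommRingCat.of k))] in
theorem isReduced_atPrime_tensor_algebraic {A : Type u} [CommRing A] [Algebra k A]
    (K : Type u) [Field K] [Algebra k K] [Algebra.IsIntegral k K] (p : Ideal A) [p.IsPrime]
    (h : ∀ P : Ideal (A ⊗[k] K), ∀ _ : P.IsPrime,
      P.comap (algebraMap A _) = p → _root_.IsReduced (Localization.AtPrime P)) :
    _root_.IsReduced (Localization.AtPrime p ⊗[k] K) := by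
  let S := A ⊗[k] K
  have : _root_.IsReduced (S ⊗[A] Localization.AtPrime p) := by
    refine ⟨fun z hz => ?_⟩
    let M := Algebra.algebraMapSubmonoid S p.primeCompl
    obtain ⟨x, m, rfl⟩ := IsLocalization.exists_mk'_eq M z
    obtain ⟨n, hn⟩ := hz
    rw [← IsLocalization.mk'_pow, IsLocalization.mk'_eq_zero_iff] at hn
    obtain ⟨⟨_, g0, hg0, rfl⟩, hn⟩ := hn
    let J : Ideal S := (⊥ : Ideal S).colon {x}
    by_cases hJ : J.comap (algebraMap A S) ≤ p
    · have : Algebra.IsIntegral A S := inferInstance
      obtain ⟨P, hJP, hP, hPp⟩ := Ideal.exists_ideal_over_prime_of_isIntegral p J hJ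
      exfalso
      have := h P hP hPp
      have hnil : IsNilpotent (algebraMap S (Localization.AtPrime P) x) := by
        refine ⟨n, ?_⟩
        rw [← map_pow, IsLocalization.map_eq_zero_iff P.primeCompl]
        exact ⟨⟨algebraMap A S g0, fun hh => hg0 (hPp.le hh)⟩, hn⟩
      obtain ⟨c, hc⟩ := (IsLocalization.map_eq_zero_iff P.primeCompl _ x).mp hnil.eq_zero
      exact c.2 (hJP (by
        rw [Submodule.mem_colon_singleton, smul_eq_mul, Ideal.mem_bot]; exact hc))
    · obtain ⟨g, hgJ, hgp⟩ := SetLike.not_le_iff_exists.mp hJ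
      rw [IsLocalization.mk'_eq_zero_iff]
      refine ⟨⟨algebraMap A S g, Algebra.mem_algebraMapSubmonoid_of_mem ⟨g, hgp⟩⟩, ?_⟩
      rw [Ideal.mem_comap, Submodule.mem_colon_singleton, smul_eq_mul, Ideal.mem_bot] at hgJ
      exact hgJ
  let e : S ⊗[A] Localization.AtPrime p ≃+* Localization.AtPrime p ⊗[k] K :=
    (Algebra.TensorProduct.comm A S (Localization.AtPrime p)).toRingEquiv.trans
      (Algebra.TensorProduct.cancelBaseChange k A A (Localization.AtPrime p) (K)).toRingEquiv
  exact isReduced_of_injective e.symm e.symm.injective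

omit [X.Over (Spec (CommRingCat.of k))] in
theorem isGeometricallyReduced_of_baseChange (P : Type u) [Field P] [Algebra k P]
    [Algebra P (AlgebraicClosure k)] [IsScalarTower k P (AlgebraicClosure k)] (A : Type u) [CommRing A] [Algebra k A]
    [Algebra.IsGeometricallyReduced P (P ⊗[k] A)] : Algebra.IsGeometricallyReduced k A := by
  rw [Algebra.isGeometricallyReduced_field_iff]
  have : _root_.IsReduced (AlgebraicClosure k ⊗[P] (P ⊗[k] A)) :=
    FBase64.isReduced_tensor_of_geomReduced P (P ⊗[k] A) (AlgebraicClosure k)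
  exact isReduced_of_injective
    (Algebra.TensorProduct.cancelBaseChange k P P (AlgebraicClosure k) A).symm (AlgEquiv.injective _)

omit [X.Over (Spec (CommRingCat.of k))] in
/-- Geometric reducedness is detected by finite purely inseparable extensions. -/
theorem isGeometricallyReduced_of_forall_purelyInseparable (A : Type u) [CommRing A] [Algebra k A]
    (h : ∀ (k' : Type u) [Field k'] [Algebra k k'] [FiniteDimensional k k'] [IsPurelyInseparable k k'],
      _root_.IsReduced (A ⊗[k] k')) :
    Algebra.IsGeometricallyReduced k A := by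
  let P := perfectClosure k (AlgebraicClosure k)
  have : PerfectField P := inferInstance
  have hP : _root_.IsReduced (↥P ⊗[k] A) := by
    refine ⟨fun z hz => ?_⟩
    obtain ⟨S, hS, z', rfl⟩ := FBase64.exists_fg_range z
    have : Algebra.FiniteType k S := S.fg_iff_finiteType.mp hS
    have : Algebra.IsIntegral k S := ⟨fun x =>
      (isIntegral_algHom_iff S.val Subtype.val_injective).mp (Algebra.IsIntegral.isIntegral _)⟩
    let : Field S := (isField_of_isIntegral_of_isField' (Field.toIsField k)).toField
    have : FiniteDimensional k S := Algebra.IsIntegral.finite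
    have : IsPurelyInseparable k S := (isPurelyInseparable_iff_pow_mem k (ringExpChar k)).2 fun y => by
      obtain ⟨n, c, hc⟩ := IsPurelyInseparable.pow_mem k (ringExpChar k) (S.val y)
      exact ⟨n, c, Subtype.val_injective (by rw [← map_pow] at hc; exact hc)⟩
    have : _root_.IsReduced (A ⊗[k] S) := h S
    have : _root_.IsReduced (↥S ⊗[k] A) := FBase64.isReduced_tensor_comm
    have hinj := FBase64.map_injective_left (B := A) S.val Subtype.val_injective
    obtain ⟨n, hn⟩ := hz
    have : IsNilpotent z' := ⟨n, hinj (by rw [map_pow, map_zero]; exact hn)⟩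
    simp [this.eq_zero]
  have := FBase64.isGeometricallyReduced_of_perfectField ↥P (↥P ⊗[k] A)
  exact isGeometricallyReduced_of_baseChange (↥P) A

/-- Geometric reducedness at a point is detected by finite purely inseparable extensions. -/
theorem isGeomReducedAt_of_forall_purelyInseparable (x : X)
    (h : ∀ (k' : Type u) [Field k'] [Algebra k k'] [FiniteDimensional k k'] [IsPurelyInseparable k k']
      (x' : Curv2.bc k X k'), Curv2.bcFst k X k' x' = x → _root_.IsReduced ((Curv2.bc k X k').presheaf.stalk x')) :
    Curv2.IsGeomReducedAt k X x := by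
  obtain ⟨A, _, _, j, _, ⟨q, rfl⟩, hj⟩ := FBase64.exists_chart (X ↘ Spec (CommRingCat.of k)) x
  refine (isGeomReducedAt_chart_iff j hj q).2
    (isGeometricallyReduced_of_forall_purelyInseparable _ fun k' _ _ _ _ => ?_)
  refine isReduced_atPrime_tensor_algebraic k' _ fun P hP hPp => ?_
  let t := Spec.map (CommRingCat.ofHom (algebraMap k k'))
  let P' : ↥(Spec (CommRingCat.of (A ⊗[k] k'))) := (⟨P, hP⟩ : PrimeSpectrum (A ⊗[k] k'))
  let c := FBase64.prodChart (X ↘ Spec (CommRingCat.of k)) t j (𝟙 _) hj (Category.id_comp _)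
  have hq : Spec.map (CommRingCat.ofHom (algebraMap A (A ⊗[k] k'))) P' = q := PrimeSpectrum.ext hPp
  have := h k' (c P') (by
    show pullback.fst (X ↘ Spec (CommRingCat.of k)) t (c P') = j q
    rw [← Scheme.Hom.comp_apply, FBase64.prodChart_fst, Scheme.Hom.comp_apply, hq])
  obtain ⟨e⟩ := FBase64.nonempty_stalkEquiv c P'
  exact isReduced_of_injective e.symm e.symm.injective

end Groth.Agent.VarGal
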