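import Mathlib.AlgebraicGeometry.Morphisms.ClosedImmersion
import Mathlib.AlgebraicGeometry.Morphisms.QuasiSeparated
import Mathlib.AlgebraicGeometry.Morphisms.Affine
import Mathlib.RingTheory.Polynomial.Basic

/-! Schemes which are set-theoretically unions of finitely many affine closed subschemes. -/

universe u
open CategoryTheory CategoryTheory.Limits AlgebraicGeometry TopologicalSpace Opposite Polynomial
set_option backward.isDefEq.respectTransparency.types false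

namespace Groth.Agent.VarGal

theorem exists_bezout_error {R : Type*} [CommRing R] (x y : R) (n : ℕ) :
    ∃ a b : ℤ[X], ∃ c : R, 1 - (x ^ n * aeval x a + y ^ n * aeval (1 - y) b) = (x + y - 1) * c := by
  have hcop : IsCoprime ((X : ℤ[X]) ^ n) ((1 - X) ^ n) := IsCoprime.pow ⟨1, 1, by ring⟩
  obtain ⟨a, b, hab⟩ := hcop
  refine ⟨a, b, ?_⟩
  have hmem : 1 - (x ^ n * aeval x a + y ^ n * aeval (1 - y) b) ∈ Ideal.span {x + y - 1} := by
    rw [← Ideal.Quotient.eq_zero_iff_mem]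
    let π := Ideal.Quotient.mk (Ideal.span {x + y - 1})
    have hxy : π y = 1 - π x := by
      have h0 : π (x + y - 1) = 0 := Ideal.Quotient.eq_zero_iff_mem.2 (Ideal.subset_span rfl)
      rw [map_sub, map_add, map_one, sub_eq_zero] at h0
      rw [← h0]; ring
    have e1 : π (1 - y) = π x := by rw [map_sub, map_one, hxy]; ring
    have key : ∀ (r : R) (q : ℤ[X]), π (aeval r q) = aeval (π r) q := fun r q =>
      (aeval_algHom_apply π.toIntAlgHom r q).symm
    have h := congrArg (aeval (π x)) hab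
    simp only [map_add, map_mul, map_pow, aeval_X, map_sub, map_one] at h
    rw [map_sub, map_one, map_add, map_mul, map_mul, map_pow, map_pow, key, key, e1, hxy, sub_eq_zero]
    linear_combination -h
  exact (Ideal.mem_span_singleton'.1 hmem).imp fun c hc => by rw [← hc]; ring

/-- If `s` is stable under the relevant operations and every `d` is in `s + e R d`, then nilpotence of `e` gives all. -/
theorem mem_of_nilpotent_step {R : Type*} [CommRing R] (S K : AddSubgroup R) {e : R} (he : IsNilpotent e)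
    (hK : ∀ r, ∀ d ∈ K, r * d ∈ K) (h : ∀ d ∈ K, ∃ c, d - e * (c * d) ∈ S) {d : R} (hd : d ∈ K) : d ∈ S := by
  obtain ⟨N, hN⟩ := he
  have : ∀ k, ∃ c, d - e ^ k * (c * d) ∈ S := by
    intro k
    induction k with
    | zero => exact ⟨1, by simp [S.zero_mem]⟩
    | succ k ih =>
      obtain ⟨c, hc⟩ := ih
      obtain ⟨c', hc'⟩ := h (e ^ k * (c * d)) (hK _ _ (hK _ _ hd))
      refine ⟨c' * c, ?_⟩
      have := S.add_mem hc hc'
      convert this using 1
      ring
  obtain ⟨c, hc⟩ := this N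
  simpa [hN] using hc

section Thickening

variable {A X : Scheme.{u}}

/-- Restriction of sections. -/
abbrev res {X : Scheme.{u}} {U V : X.Opens} (h : U ≤ V) : Γ(X, V) →+* Γ(X, U) :=
  (X.presheaf.map (homOfLE h).op).hom

theorem res_res {U V W : X.Opens} (h : U ≤ V) (h' : V ≤ W) (s : Γ(X, W)) :
    res h (res h' s) = res (h.trans h') s := by
  show X.presheaf.map _ (X.presheaf.map _ s) = X.presheaf.map _ s
  rw [← CommRingCat.comp_apply, ← Functor.map_comp]
  rfl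

theorem app_res (t : A ⟶ X) {U V : X.Opens} (h : U ≤ V) (s : Γ(X, V)) :
    t.app U (res h s) = res (t.preimage_mono h) (t.app V s) := by
  show (X.presheaf.map (homOfLE h).op ≫ t.app U) s = _
  rw [t.naturality]
  rfl

variable (t : A ⟶ X) [IsClosedImmersion t] [Surjective t]

theorem isHomeomorph_of_surjective : IsHomeomorph t := 
  isHomeomorph_iff_isEmbedding_surjective.2 ⟨t.isEmbedding, t.surjective⟩

theorem opens_ext {U V : X.Opens} (h : t ⁻¹ᵁ U = t ⁻¹ᵁ V) : U = V := by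
  ext x
  obtain ⟨a, rfl⟩ := t.surjective x
  exact SetLike.ext_iff.1 h a

theorem exists_opens (O : A.Opens) : ∃ W : X.Opens, t ⁻¹ᵁ W = O :=
  ⟨⟨t '' O, (isHomeomorph_of_surjective t).isOpenMap _ O.2⟩, Opens.ext (t.isEmbedding.injective.preimage_image O)⟩

theorem isCompact_of_preimage {W : X.Opens} (h : IsCompact ((t ⁻¹ᵁ W : A.Opens) : Set A)) :
    IsCompact (W : Set X) := by
  have := h.image t.continuous
  rwa [show t '' ((t ⁻¹ᵁ W : A.Opens) : Set A) = W from Set.image_preimage_eq _ t.surjective] at this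

theorem isQuasiSeparated_of_preimage {W : X.Opens} (h : IsAffineOpen (t ⁻¹ᵁ W)) :
    IsQuasiSeparated (W : Set X) := by
  have h1 : IsQuasiSeparated ((t ⁻¹ᵁ W : A.Opens) : Set A) := h.isQuasiSeparated
  rw [← Set.image_preimage_eq (W : Set X) t.surjective]
  exact h1.image_of_isEmbedding t.isEmbedding

theorem basicOpen_eq_bot_of_app_eq_zero {U : X.Opens} {s : Γ(X, U)} (h : t.app U s = 0) :
    X.basicOpen s = ⊥ := by
  refine opens_ext t ?_
  rw [Scheme.preimage_basicOpen, h, Scheme.basicOpen_zero]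
  rfl

theorem isNilpotent_of_app_eq_zero {U : X.Opens} (hU : IsCompact (U : Set X)) {s : Γ(X, U)}
    (h : t.app U s = 0) : IsNilpotent s :=
  (Scheme.isNilpotent_iff_basicOpen_eq_bot_of_isCompact hU s).2 (basicOpen_eq_bot_of_app_eq_zero t h)

/-- An element of the kernel on a basic open is a fraction of an element of the kernel. -/
theorem exists_ker_ext {W₁ : X.Opens} (hW₁ : IsAffineOpen (t ⁻¹ᵁ W₁)) (b : Γ(X, W₁))
    (d : Γ(X, X.basicOpen b)) (hd : t.app (X.basicOpen b) d = 0) :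
    ∃ n, ∀ N, n ≤ N → ∃ m : Γ(X, W₁), t.app W₁ m = 0 ∧
      res (X.basicOpen_le b) m = res (X.basicOpen_le b) b ^ N * d := by
  obtain ⟨n, y, hy⟩ := exists_eq_pow_mul_of_isCompact_of_isQuasiSeparated X W₁
    (isCompact_of_preimage t hW₁.isCompact) (isQuasiSeparated_of_preimage t hW₁) b d
  have hy' : res (X.basicOpen_le b) y = res (X.basicOpen_le b) b ^ n * d := hy
  have h0 : res (A.basicOpen_le (t.app W₁ b)) (t.app W₁ y) = 0 := by
    have h1 : res (t.preimage_mono (X.basicOpen_le b)) (t.app W₁ y) = 0 := by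
      rw [← app_res t (X.basicOpen_le b), hy', map_mul, hd, mul_zero]
    have hle : A.basicOpen (t.app W₁ b) ≤ t ⁻¹ᵁ X.basicOpen b := (Scheme.preimage_basicOpen t b).ge
    have h2 := congrArg (res hle) h1
    rwa [res_res, map_zero] at h2
  obtain ⟨k, hk⟩ := exists_pow_mul_eq_zero_of_res_basicOpen_eq_zero_of_isCompact A hW₁.isCompact
    (t.app W₁ y) (t.app W₁ b) h0
  refine ⟨n + k, fun N hN => ⟨b ^ (N - n) * y, ?_, ?_⟩⟩
  · obtain ⟨j, hj⟩ := Nat.exists_eq_add_of_le (show k ≤ N - n by omega)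
    rw [map_mul, map_pow, hj, pow_add, mul_assoc, mul_left_comm, hk, mul_zero]
  · rw [map_mul, map_pow, hy', ← mul_assoc, ← pow_add, show N - n + n = N by omega]

/-- Lifting along a two open cover. -/
theorem app_surjective_sup {W W₁ W₂ : X.Opens} (hW : IsAffineOpen (t ⁻¹ᵁ W)) (h₁ : W₁ ≤ W) (h₂ : W₂ ≤ W)
    (a₁ a₂ : Γ(A, t ⁻¹ᵁ W)) (hsum : a₁ + a₂ = 1)
    (hW₁ : t ⁻¹ᵁ W₁ = A.basicOpen a₁) (hW₂ : t ⁻¹ᵁ W₂ = A.basicOpen a₂)
    (hs₁ : Function.Surjective (t.app W₁)) (hs₂ : Function.Surjective (t.app W₂)) :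
    Function.Surjective (t.app W) := by
  intro g
  have ha₁ : IsAffineOpen (t ⁻¹ᵁ W₁) := hW₁ ▸ hW.basicOpen a₁
  have ha₂ : IsAffineOpen (t ⁻¹ᵁ W₂) := hW₂ ▸ hW.basicOpen a₂
  obtain ⟨b, hb⟩ := hs₁ (res (t.preimage_mono h₁) a₂)
  obtain ⟨b', hb'⟩ := hs₂ (res (t.preimage_mono h₂) a₁)
  obtain ⟨f₁, hf₁⟩ := hs₁ (res (t.preimage_mono h₁) g)
  obtain ⟨f₂, hf₂⟩ := hs₂ (res (t.preimage_mono h₂) g)
  have e₁ : X.basicOpen b = W₁ ⊓ W₂ := opens_ext t (by
    rw [Scheme.preimage_basicOpen, hb, Scheme.basicOpen_res, Scheme.Hom.preimage_inf, hW₂])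
  have e₂ : X.basicOpen b' = W₁ ⊓ W₂ := opens_ext t (by
    rw [Scheme.preimage_basicOpen, hb', Scheme.basicOpen_res, Scheme.Hom.preimage_inf, hW₁, inf_comm])
  let O := W₁ ⊓ W₂
  let x : Γ(X, O) := res (inf_le_left : O ≤ W₁) b
  let y : Γ(X, O) := res (inf_le_right : O ≤ W₂) b'
  have hOc : IsCompact (O : Set X) := isCompact_of_preimage t (by
    rw [show t ⁻¹ᵁ O = t ⁻¹ᵁ X.basicOpen b by rw [e₁], Scheme.preimage_basicOpen]
    exact (ha₁.basicOpen _).isCompact)
  have he : IsNilpotent (x + y - 1) := by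
    refine isNilpotent_of_app_eq_zero t hOc ?_
    rw [map_sub, map_add, map_one, app_res, app_res, hb, hb', res_res, res_res, ← map_add, add_comm, hsum,
      map_one, sub_self]
  let K : AddSubgroup Γ(X, O) := (t.app O).hom.toAddMonoidHom.ker
  let S : AddSubgroup Γ(X, O) :=
    AddSubgroup.map (res (inf_le_left : O ≤ W₁)).toAddMonoidHom (t.app W₁).hom.toAddMonoidHom.ker ⊔
    AddSubgroup.map (res (inf_le_right : O ≤ W₂)).toAddMonoidHom (t.app W₂).hom.toAddMonoidHom.ker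
  have hext₁ : ∀ d ∈ K, ∃ n, ∀ N, n ≤ N → ∃ m : Γ(X, W₁), t.app W₁ m = 0 ∧
      res (inf_le_left : O ≤ W₁) m = x ^ N * d := by
    intro d hd
    obtain ⟨n, hn⟩ := exists_ker_ext t ha₁ b (res e₁.le d) (by
      rw [app_res, show t.app O d = 0 from hd, map_zero])
    refine ⟨n, fun N hN => ?_⟩
    obtain ⟨m, hm, hm'⟩ := hn N hN
    refine ⟨m, hm, ?_⟩
    have := congrArg (res (e₁.ge : O ≤ X.basicOpen b)) hm'
    rw [map_mul, map_pow, res_res, res_res, res_res] at this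
    rw [this]
    congr 1
    show X.presheaf.map _ d = d
    exact congr($(X.presheaf.map_id _) d)
  have hext₂ : ∀ d ∈ K, ∃ n, ∀ N, n ≤ N → ∃ m : Γ(X, W₂), t.app W₂ m = 0 ∧
      res (inf_le_right : O ≤ W₂) m = y ^ N * d := by
    intro d hd
    obtain ⟨n, hn⟩ := exists_ker_ext t ha₂ b' (res e₂.le d) (by
      rw [app_res, show t.app O d = 0 from hd, map_zero])
    refine ⟨n, fun N hN => ?_⟩
    obtain ⟨m, hm, hm'⟩ := hn N hN
    refine ⟨m, hm, ?_⟩
    have := congrArg (res (e₂.ge : O ≤ X.basicOpen b')) hm'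
    rw [map_mul, map_pow, res_res, res_res, res_res] at this
    rw [this]
    congr 1
    show X.presheaf.map _ d = d
    exact congr($(X.presheaf.map_id _) d)
  have hmul : ∀ (r : Γ(X, W₁)) (q : ℤ[X]), res (inf_le_left : O ≤ W₁) (aeval r q) = aeval (res (inf_le_left : O ≤ W₁) r) q :=
    fun r q => (aeval_algHom_apply (res (inf_le_left : O ≤ W₁)).toIntAlgHom r q).symm
  have hmul' : ∀ (r : Γ(X, W₂)) (q : ℤ[X]), res (inf_le_right : O ≤ W₂) (aeval r q) = aeval (res (inf_le_right : O ≤ W₂) r) q :=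
    fun r q => (aeval_algHom_apply (res (inf_le_right : O ≤ W₂)).toIntAlgHom r q).symm
  have hstep : ∀ d ∈ K, ∃ c, d - (x + y - 1) * (c * d) ∈ S := by
    intro d hd
    obtain ⟨n₁, hn₁⟩ := hext₁ d hd
    obtain ⟨n₂, hn₂⟩ := hext₂ d hd
    obtain ⟨m₁, hm₁, hm₁'⟩ := hn₁ (max n₁ n₂) (le_max_left _ _)
    obtain ⟨m₂, hm₂, hm₂'⟩ := hn₂ (max n₁ n₂) (le_max_right _ _)
    obtain ⟨p, q, c, hc⟩ := exists_bezout_error x y (max n₁ n₂)
    refine ⟨c, AddSubgroup.mem_sup.2 ⟨_, ⟨aeval b p * m₁, ?_, rfl⟩, _, ⟨aeval (1 - b') q * m₂, ?_, rfl⟩, ?_⟩⟩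
    · show t.app W₁ (aeval b p * m₁) = 0
      rw [map_mul, hm₁, mul_zero]
    · show t.app W₂ _ = 0
      rw [map_mul, hm₂, mul_zero]
    · show res _ (aeval b p * m₁) + res _ (aeval (1 - b') q * m₂) = _
      rw [map_mul, map_mul, hm₁', hm₂', hmul, hmul', map_sub, map_one]
      linear_combination -d * hc
  let d : Γ(X, O) := res (inf_le_left : O ≤ W₁) f₁ - res (inf_le_right : O ≤ W₂) f₂
  have hd : d ∈ K := by
    show t.app O d = 0
    rw [map_sub, app_res, app_res, hf₁, hf₂, res_res, res_res, sub_self]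
  obtain ⟨_, ⟨m₁, hm₁, rfl⟩, _, ⟨m₂, hm₂, rfl⟩, hm⟩ := AddSubgroup.mem_sup.1
    (mem_of_nilpotent_step S K he (fun r z hz => show t.app O (r * z) = 0 by
      rw [map_mul, show t.app O z = 0 from hz, mul_zero]) hstep hd)
  have hcompat : res (inf_le_left : O ≤ W₁) (f₁ - m₁) = res (inf_le_right : O ≤ W₂) (f₂ + m₂) := by
    have hm' : res (inf_le_left : O ≤ W₁) m₁ + res (inf_le_right : O ≤ W₂) m₂ = d := hm
    rw [map_sub, map_add, sub_eq_iff_eq_add]
    linear_combination -hm'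
  have hcov : W = W₁ ⊔ W₂ := opens_ext t (by
    rw [Scheme.Hom.preimage_sup, hW₁, hW₂]
    refine le_antisymm (fun z hz => ?_) (sup_le (A.basicOpen_le _) (A.basicOpen_le _))
    rw [Opens.mem_sup, Scheme.mem_basicOpen A _ z hz,
      Scheme.mem_basicOpen A _ z hz]
    refine IsLocalRing.isUnit_or_isUnit_of_add_one ?_
    rw [← map_add, hsum, map_one])
  obtain ⟨F, hF, -⟩ := X.sheaf.existsUnique_gluing' (fun i : ULift.{u} Bool => cond i.down W₁ W₂) W
    (fun i => homOfLE (by obtain ⟨_ | _⟩ := i <;> assumption))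
    (hcov.le.trans (sup_le (le_iSup (fun i : ULift.{u} Bool => cond i.down W₁ W₂) ⟨true⟩)
      (le_iSup (fun i : ULift.{u} Bool => cond i.down W₁ W₂) ⟨false⟩)))
    (fun i => match i with
      | ⟨true⟩ => f₁ - m₁
      | ⟨false⟩ => f₂ + m₂) (by
    rintro ⟨_ | _⟩ ⟨_ | _⟩
    · rfl
    · have := congrArg (res (show (W₂ ⊓ W₁ : X.Opens) ≤ O from inf_comm W₂ W₁ |>.le)) hcompat
      rw [res_res, res_res] at this
      exact this.symm
    · exact hcompat
    · rfl)
  refine ⟨F, ?_⟩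
  refine A.sheaf.eq_of_locally_eq' (fun i : ULift.{u} Bool => t ⁻¹ᵁ cond i.down W₁ W₂) (t ⁻¹ᵁ W)
    (fun i => homOfLE (t.preimage_mono (by obtain ⟨_ | _⟩ := i <;> assumption))) ?_ _ _ ?_
  · conv_lhs => rw [hcov]
    rw [Scheme.Hom.preimage_sup]
    exact sup_le (le_iSup (fun i : ULift.{u} Bool => t ⁻¹ᵁ cond i.down W₁ W₂) ⟨true⟩)
      (le_iSup (fun i : ULift.{u} Bool => t ⁻¹ᵁ cond i.down W₁ W₂) ⟨false⟩)
  · rintro ⟨_ | _⟩
    · show res (t.preimage_mono h₂) (t.app W F) = res (t.preimage_mono h₂) g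
      rw [← app_res t h₂, show res h₂ F = f₂ + m₂ from hF ⟨false⟩, map_add, hf₂, show t.app W₂ m₂ = 0 from hm₂, add_zero]
    · show res (t.preimage_mono h₁) (t.app W F) = res (t.preimage_mono h₁) g
      rw [← app_res t h₁, show res h₁ F = f₁ - m₁ from hF ⟨true⟩, map_sub, hf₁, show t.app W₁ m₁ = 0 from hm₁, sub_zero]

/-- An open with principal preimage inside an affine open is affine. -/
theorem isAffineOpen_of_principal {U W : X.Opens} (hU : IsAffineOpen U) (b : Γ(A, t ⁻¹ᵁ U))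
    (h : t ⁻¹ᵁ W = A.basicOpen b) : IsAffineOpen W := by
  obtain ⟨s, hs⟩ := t.app_surjective U hU b
  have : W = X.basicOpen s := opens_ext t (by rw [h, Scheme.preimage_basicOpen, hs])
  exact this ▸ hU.basicOpen s

theorem app_surjective_of_cover : ∀ (n : ℕ) {W : X.Opens}, IsAffineOpen (t ⁻¹ᵁ W) →
    ∀ c : Fin n → Γ(A, t ⁻¹ᵁ W), Ideal.span (Set.range c) = ⊤ →
      (∀ i, ∃ (U : X.Opens), IsAffineOpen U ∧ U ≤ W ∧ A.basicOpen (c i) ≤ t ⁻¹ᵁ U) →
      Function.Surjective (t.app W)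
  | 0, W, hW, c, hc, _ => by
    intro g
    rw [Set.range_eq_empty, Ideal.span_empty] at hc
    have := Submodule.subsingleton_iff Γ(A, t ⁻¹ᵁ W) |>.1 (subsingleton_of_bot_eq_top hc)
    exact ⟨0, Subsingleton.elim _ _⟩
  | n + 1, W, hW, c, hc, hU => by
    obtain ⟨r, hr⟩ := Ideal.mem_span_range_iff_exists_fun.1
      (hc.symm ▸ Submodule.mem_top : (1 : Γ(A, t ⁻¹ᵁ W)) ∈ Ideal.span (Set.range c))
    rw [Fin.sum_univ_succ] at hr
    let a₂ := ∑ i : Fin n, r i.succ * c i.succ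
    obtain ⟨W₁, hW₁⟩ := exists_opens t (A.basicOpen (r 0 * c 0))
    obtain ⟨W₂, hW₂⟩ := exists_opens t (A.basicOpen a₂)
    have hle : ∀ {W' : X.Opens}, t ⁻¹ᵁ W' ≤ t ⁻¹ᵁ W → W' ≤ W := fun h x hx => by
      obtain ⟨a, rfl⟩ := t.surjective x
      exact h hx
    have h₁ : W₁ ≤ W := hle (hW₁.trans_le (A.basicOpen_le _))
    have h₂ : W₂ ≤ W := hle (hW₂.trans_le (A.basicOpen_le _))
    have hprinc : ∀ (i : Fin (n + 1)) (e : Γ(A, t ⁻¹ᵁ W)) (W' : X.Opens),
        t ⁻¹ᵁ W' = A.basicOpen (e * c i) → IsAffineOpen W' := by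
      intro i e W' hW'
      obtain ⟨U, hUa, hUW, hle⟩ := hU i
      refine isAffineOpen_of_principal t hUa (res (t.preimage_mono hUW) (e * c i)) ?_
      rw [hW', Scheme.basicOpen_res, inf_eq_right.2]
      rw [Scheme.basicOpen_mul]
      exact inf_le_right.trans hle
    refine app_surjective_sup t hW h₁ h₂ _ _ hr hW₁ hW₂ ?_ ?_
    · exact t.app_surjective W₁ (hprinc 0 (r 0) W₁ hW₁)
    · refine app_surjective_of_cover n (hW₂ ▸ hW.basicOpen a₂) (fun i => res (t.preimage_mono h₂) (c i.succ)) ?_ ?_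
      · refine Ideal.eq_top_of_isUnit_mem _ (x := res (t.preimage_mono h₂) a₂) ?_ ?_
        · show res _ (∑ i : Fin n, r i.succ * c i.succ) ∈ _
          rw [map_sum]
          exact sum_mem fun i _ => by
            rw [map_mul]; exact Ideal.mul_mem_left _ _ (Ideal.subset_span ⟨i, rfl⟩)
        · have h := (RingedSpace.isUnit_res_basicOpen _ a₂).map (res (hW₂.le : t ⁻¹ᵁ W₂ ≤ A.basicOpen a₂))
          exact (res_res hW₂.le (A.basicOpen_le a₂) a₂) ▸ (h : IsUnit (res hW₂.le (res (A.basicOpen_le a₂) a₂)))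
      · intro i
        obtain ⟨V, hV⟩ := exists_opens t (A.basicOpen (a₂ * c i.succ))
        refine ⟨V, hprinc _ _ V hV, fun x hx => ?_, ?_⟩
        · obtain ⟨a, rfl⟩ := t.surjective x
          exact (Scheme.basicOpen_mul A _ _ ▸ hV ▸ hx : a ∈ A.basicOpen a₂ ⊓ A.basicOpen (c i.succ)) |>.1 |> (hW₂.ge ·)
        · rw [hV, Scheme.basicOpen_res, Scheme.basicOpen_mul, hW₂]

include t in
theorem isAffine_of_thickening [IsAffine A] : IsAffine X := by
  have hA : IsAffineOpen (t ⁻¹ᵁ (⊤ : X.Opens)) := isAffineOpen_top A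
  have h : ∀ x : A, ∃ c : Γ(A, t ⁻¹ᵁ (⊤ : X.Opens)), x ∈ A.basicOpen c ∧
      ∃ U : X.Opens, IsAffineOpen U ∧ A.basicOpen c ≤ t ⁻¹ᵁ U := by
    intro x
    obtain ⟨U, hU, hxU, -⟩ := exists_isAffineOpen_mem_and_subset (x := t x) (U := (⊤ : X.Opens)) trivial
    obtain ⟨c, hc, hxc⟩ := hA.exists_basicOpen_le (V := t ⁻¹ᵁ U) ⟨x, hxU⟩ trivial
    exact ⟨c, hxc, U, hU, hc⟩
  choose c hxc U hUa hcU using h
  have hspan : Ideal.span (Set.range c) = ⊤ := by
    refine hA.iSup_basicOpen_eq_self_iff.1 (le_antisymm (iSup_le fun _ => A.basicOpen_le _) ?_)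
    exact fun x _ => Opens.mem_iSup.2 ⟨⟨c x, x, rfl⟩, hxc x⟩
  obtain ⟨F, hF, hF1⟩ := (Ideal.span_eq_top_iff_finite _).1 hspan
  choose p hp using fun a : F => hF a.2
  let e := Fintype.equivFin F
  have hspan' : Ideal.span (Set.range fun i => c (p (e.symm i))) = ⊤ := by
    rw [show (fun i => c (p (e.symm i))) = (fun a : F => (a : Γ(A, t ⁻¹ᵁ (⊤ : X.Opens)))) ∘ e.symm from funext fun i => hp _,
      Set.range_comp, e.symm.surjective.range_eq, Set.image_univ]
    rw [show (Set.range fun a : F => (a : Γ(A, t ⁻¹ᵁ (⊤ : X.Opens)))) = ↑F from Subtype.range_coe]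
    exact hF1
  have hsurj : Function.Surjective (t.app ⊤) :=
    app_surjective_of_cover t _ hA _ hspan' fun i => ⟨U _, hUa _, le_top, hcU _⟩
  choose g hg using fun i => hsurj (c (p (e.symm i)))
  refine isAffine_of_isAffineOpen_basicOpen (Set.range g) ?_ ?_
  · obtain ⟨r, hr⟩ := Ideal.mem_span_range_iff_exists_fun.1
      (hspan'.symm ▸ Submodule.mem_top : (1 : Γ(A, t ⁻¹ᵁ (⊤ : X.Opens))) ∈ _)
    choose r' hr' using fun i => hsurj (r i)
    refine Ideal.eq_top_of_isUnit_mem _ (Ideal.mem_span_range_iff_exists_fun.2 ⟨r', rfl⟩) ?_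
    have : IsNilpotent (1 - ∑ i, r' i * g i) := by
      refine isNilpotent_of_app_eq_zero t (isCompact_of_preimage t hA.isCompact) ?_
      simp only [map_sub, map_one, map_sum, map_mul, hr', hg, hr, sub_self]
    simpa using this.isUnit_one_sub
  · rintro _ ⟨i, rfl⟩
    refine isAffineOpen_of_principal t (hUa (p (e.symm i))) (res (t.preimage_mono le_top) (c (p (e.symm i)))) ?_
    rw [Scheme.preimage_basicOpen, hg, Scheme.basicOpen_res, inf_eq_right.2 (hcU _)]

end Thickening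

end Groth.Agent.VarGal
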