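import Groth.Agent.VarGal.Thickening
import Groth.Agent.FlatMor67.GenericFibre
import Mathlib.AlgebraicGeometry.PullbackCarrier
import Mathlib.RingTheory.Ideal.Operations

/-! Unions of finitely many affine closed subschemes. -/

universe u
open CategoryTheory CategoryTheory.Limits AlgebraicGeometry TopologicalSpace Opposite
set_option backward.isDefEq.respectTransparency.types false

namespace Groth.Agent.VarGal

variable {X : Scheme.{u}}

theorem comp_app_res {A B : Scheme.{u}} (a : A ⟶ B) (b : B ⟶ X) (k : A ⟶ X) (hk : a ≫ b = k) (U : X.Opens)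
    (s : Γ(X, U)) :
    k.app U s = res (show k ⁻¹ᵁ U ≤ a ⁻¹ᵁ b ⁻¹ᵁ U by subst hk; exact le_rfl) (a.app (b ⁻¹ᵁ U) (b.app U s)) := by
  subst hk
  show _ = A.presheaf.map _ _
  refine Eq.trans ?_ (congr($(A.presheaf.map_id _) (a.app (b ⁻¹ᵁ U) (b.app U s)))).symm
  rfl

/-- The functions on `X` cutting out open subsets of `O`. -/
def idealInside {V : X.Opens} (O : X.Opens) : Ideal Γ(X, V) where
  carrier := {c | X.basicOpen c ≤ O}
  add_mem' {a b} ha hb := fun x hx => by
    have hxV : x ∈ V := X.basicOpen_le _ hx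
    rw [Scheme.mem_basicOpen X _ x hxV, map_add] at hx
    rcases IsLocalRing.isUnit_or_isUnit_of_isUnit_add hx with h | h
    · exact ha ((Scheme.mem_basicOpen X a x hxV).2 h)
    · exact hb ((Scheme.mem_basicOpen X b x hxV).2 h)
  zero_mem' := by
    show X.basicOpen (0 : Γ(X, V)) ≤ O
    rw [X.basicOpen_zero]; exact bot_le
  smul_mem' c a ha := by
    show X.basicOpen (c * a) ≤ O
    rw [X.basicOpen_mul]; exact inf_le_right.trans ha

theorem mem_radical_of_forall {P : Scheme.{u}} [IsAffine P] (γ : Γ(P, ⊤)) (b : Ideal Γ(P, ⊤))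
    (h : ∀ z, z ∈ P.basicOpen γ → ∃ β ∈ b, z ∈ P.basicOpen β) : γ ∈ b.radical := by
  rw [Ideal.radical_eq_sInf, Submodule.mem_sInf]
  intro Q hQ
  by_contra hγ
  have hP := isAffineOpen_top P
  have hmem : ∀ a : Γ(P, ⊤), hP.fromSpec (⟨Q, hQ.2⟩ : PrimeSpectrum Γ(P, ⊤)) ∈ P.basicOpen a ↔ a ∉ Q := fun a => by
    show (⟨Q, hQ.2⟩ : PrimeSpectrum Γ(P, ⊤)) ∈ hP.fromSpec ⁻¹ᵁ P.basicOpen a ↔ _
    rw [hP.fromSpec_preimage_basicOpen]; rfl
  obtain ⟨β, hβ, hz⟩ := h _ ((hmem γ).2 hγ)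
  exact (hmem β).1 hz (hQ.1 hβ)

section Pair

variable (I J : X.IdealSheafData)

theorem eq_zero_of_app_eq_zero [IsReduced X] (hcov : ∀ x, x ∈ Set.range I.subschemeι ∨ x ∈ Set.range J.subschemeι)
    {U : X.Opens} {s : Γ(X, U)} (hI : I.subschemeι.app U s = 0) (hJ : J.subschemeι.app U s = 0) : s = 0 := by
  refine eq_zero_of_basicOpen_eq_bot s (eq_bot_iff.2 fun x hx => ?_)
  rcases hcov x with ⟨a, rfl⟩ | ⟨a, rfl⟩
  · have h : a ∈ I.subschemeι ⁻¹ᵁ X.basicOpen s := hx
    rw [Scheme.preimage_basicOpen, hI, Scheme.basicOpen_zero] at h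
    exact h.elim
  · have h : a ∈ J.subschemeι ⁻¹ᵁ X.basicOpen s := hx
    rw [Scheme.preimage_basicOpen, hJ, Scheme.basicOpen_zero] at h
    exact h.elim

theorem exists_glue [IsReduced X] (hcov : ∀ x, x ∈ Set.range I.subschemeι ∨ x ∈ Set.range J.subschemeι)
    (g : Γ(I.subscheme, ⊤)) (h : Γ(J.subscheme, ⊤))
    (hgh : (Scheme.IdealSheafData.inclusion (le_sup_left : I ≤ I ⊔ J)).appTop g =
      (Scheme.IdealSheafData.inclusion (le_sup_right : J ≤ I ⊔ J)).appTop h) :
    ∃ f : Γ(X, ⊤), I.subschemeι.appTop f = g ∧ J.subschemeι.appTop f = h := by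
  let iI := Scheme.IdealSheafData.inclusion (le_sup_left : I ≤ I ⊔ J)
  let iJ := Scheme.IdealSheafData.inclusion (le_sup_right : J ≤ I ⊔ J)
  have hloc : ∀ U : X.affineOpens, ∃ f : Γ(X, U.1),
      I.subschemeι.app U.1 f = res le_top g ∧ J.subschemeι.app U.1 f = res le_top h := by
    intro U
    obtain ⟨a, ha⟩ := I.subschemeι_app_surjective U (res le_top g)
    obtain ⟨b, hb⟩ := J.subschemeι_app_surjective U (res le_top h)
    have hdiff : a - b ∈ RingHom.ker ((I ⊔ J).subschemeι.app U.1).hom := by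
      show (I ⊔ J).subschemeι.app U.1 (a - b) = 0
      rw [map_sub, comp_app_res iI I.subschemeι _ (Scheme.IdealSheafData.inclusion_subschemeι _) U.1 a,
        comp_app_res iJ J.subschemeι _ (Scheme.IdealSheafData.inclusion_subschemeι _) U.1 b, ha, hb,
        app_res iI, app_res iJ, res_res, res_res, sub_eq_zero]
      exact congrArg _ hgh
    rw [Scheme.IdealSheafData.ker_subschemeι_app, Scheme.IdealSheafData.ideal_sup, Pi.sup_apply,
      Submodule.mem_sup] at hdiff
    obtain ⟨i, hi, j, hj, hij⟩ := hdiff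
    rw [← Scheme.IdealSheafData.ker_subschemeι_app] at hi hj
    refine ⟨a - i, by rw [map_sub, ha, show I.subschemeι.app U.1 i = 0 from hi, sub_zero], ?_⟩
    rw [show a - i = b + j by linear_combination -hij, map_add, hb, show J.subschemeι.app U.1 j = 0 from hj, add_zero]
  choose f hfI hfJ using hloc
  have hcompat : ∀ U V : X.affineOpens,
      res (inf_le_left : U.1 ⊓ V.1 ≤ U.1) (f U) = res (inf_le_right : U.1 ⊓ V.1 ≤ V.1) (f V) := by
    intro U V
    refine sub_eq_zero.1 (eq_zero_of_app_eq_zero I J hcov ?_ ?_)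
    · rw [map_sub, app_res, app_res, hfI, hfI, res_res, res_res, sub_self]
    · rw [map_sub, app_res, app_res, hfJ, hfJ, res_res, res_res, sub_self]
  obtain ⟨F, hF, -⟩ := X.sheaf.existsUnique_gluing' (fun U : X.affineOpens => U.1) ⊤ (fun U => homOfLE le_top)
    (fun x _ => by
      obtain ⟨U, hU, hxU, -⟩ := exists_isAffineOpen_mem_and_subset (x := x) (U := (⊤ : X.Opens)) trivial
      exact Opens.mem_iSup.2 ⟨⟨U, hU⟩, hxU⟩) f hcompat
  have hcovtop : ∀ (K : X.IdealSheafData) (a : K.subscheme),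
      ∃ U : X.affineOpens, a ∈ K.subschemeι ⁻¹ᵁ U.1 := fun K a => by
    obtain ⟨U, hU, hxU, -⟩ := exists_isAffineOpen_mem_and_subset (x := K.subschemeι a) (U := (⊤ : X.Opens)) trivial
    exact ⟨⟨U, hU⟩, hxU⟩
  refine ⟨F, ?_, ?_⟩
  · refine I.subscheme.sheaf.eq_of_locally_eq' (fun U : X.affineOpens => I.subschemeι ⁻¹ᵁ U.1) ⊤
      (fun U => homOfLE le_top) (fun a _ => Opens.mem_iSup.2 (hcovtop I a)) _ _ fun U => ?_
    show res le_top (I.subschemeι.app ⊤ F) = res le_top g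
    rw [show res (le_top : I.subschemeι ⁻¹ᵁ U.1 ≤ ⊤) (I.subschemeι.app ⊤ F) = I.subschemeι.app U.1 (res le_top F)
      from (app_res I.subschemeι (le_top : U.1 ≤ ⊤) F).symm, show res le_top F = f U from hF U, hfI]
  · refine J.subscheme.sheaf.eq_of_locally_eq' (fun U : X.affineOpens => J.subschemeι ⁻¹ᵁ U.1) ⊤
      (fun U => homOfLE le_top) (fun a _ => Opens.mem_iSup.2 (hcovtop J a)) _ _ fun U => ?_
    show res le_top (J.subschemeι.app ⊤ F) = res le_top h
    rw [show res (le_top : J.subschemeι ⁻¹ᵁ U.1 ≤ ⊤) (J.subschemeι.app ⊤ F) = J.subschemeι.app U.1 (res le_top F)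
      from (app_res J.subschemeι (le_top : U.1 ≤ ⊤) F).symm, show res le_top F = f U from hF U, hfJ]

theorem exists_basicOpen_le_of_mem_left [IsReduced X] [IsAffine I.subscheme] [IsAffine J.subscheme]
    (hcov : ∀ x, x ∈ Set.range I.subschemeι ∨ x ∈ Set.range J.subschemeι) (W : X.Opens) (a : I.subscheme)
    (ha : I.subschemeι a ∈ W) : ∃ f : Γ(X, ⊤), I.subschemeι a ∈ X.basicOpen f ∧ X.basicOpen f ≤ W := by
  let iI := Scheme.IdealSheafData.inclusion (le_sup_left : I ≤ I ⊔ J)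
  let iJ := Scheme.IdealSheafData.inclusion (le_sup_right : J ≤ I ⊔ J)
  have : IsClosedImmersion iJ := by
    have : IsClosedImmersion (iJ ≫ J.subschemeι) := by
      rw [Scheme.IdealSheafData.inclusion_subschemeι]; infer_instance
    exact IsClosedImmersion.of_comp_isClosedImmersion iJ J.subschemeι
  have : IsAffine (I ⊔ J).subscheme := isAffine_of_isAffineHom iJ
  obtain ⟨g, hg, hag⟩ := (isAffineOpen_top I.subscheme).exists_basicOpen_le (V := I.subschemeι ⁻¹ᵁ W) ⟨a, ha⟩ trivial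
  have hsurj : Function.Surjective iJ.appTop := iJ.app_surjective ⊤ (isAffineOpen_top _)
  have hrad : iI.appTop g ∈ ((idealInside (V := ⊤) (J.subschemeι ⁻¹ᵁ W)).map iJ.appTop.hom).radical := by
    refine mem_radical_of_forall _ _ fun z hz => ?_
    rw [← Scheme.preimage_basicOpen_top] at hz
    have hzW : iJ z ∈ J.subschemeι ⁻¹ᵁ W := by
      show J.subschemeι (iJ z) ∈ W
      rw [← Scheme.Hom.comp_apply, Scheme.IdealSheafData.inclusion_subschemeι,
        ← Scheme.IdealSheafData.inclusion_subschemeι (le_sup_left : I ≤ I ⊔ J), Scheme.Hom.comp_apply]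
      exact hg hz
    obtain ⟨c, hc, hzc⟩ := (isAffineOpen_top J.subscheme).exists_basicOpen_le ⟨_, hzW⟩ trivial
    exact ⟨iJ.appTop c, Ideal.mem_map_of_mem _ hc, by rw [← Scheme.preimage_basicOpen_top]; exact hzc⟩
  obtain ⟨n, hn⟩ := hrad
  have hn' : iI.appTop (g ^ (n + 1)) ∈ (idealInside (V := ⊤) (J.subschemeι ⁻¹ᵁ W)).map iJ.appTop.hom := by
    rw [map_pow, pow_succ]; exact Ideal.mul_mem_right _ _ hn
  obtain ⟨h, hh, hh'⟩ := (Ideal.mem_map_iff_of_surjective _ hsurj).1 hn'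
  obtain ⟨f, hfI, hfJ⟩ := exists_glue I J hcov _ _ hh'.symm
  have hbp : I.subscheme.basicOpen (g ^ (n + 1)) = I.subscheme.basicOpen g := by
    clear hfI hh' hn hn'
    induction n with
    | zero => rw [pow_one]
    | succ n ih => rw [pow_succ, Scheme.basicOpen_mul, ih, inf_idem]
  refine ⟨f, ?_, fun x hx => ?_⟩
  · show a ∈ I.subschemeι ⁻¹ᵁ X.basicOpen f
    rw [Scheme.preimage_basicOpen_top, hfI, hbp]
    exact hag
  · rcases hcov x with ⟨b, rfl⟩ | ⟨b, rfl⟩
    · have h' : b ∈ I.subschemeι ⁻¹ᵁ X.basicOpen f := hx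
      rw [Scheme.preimage_basicOpen_top, hfI, hbp] at h'
      exact hg h'
    · have h' : b ∈ J.subschemeι ⁻¹ᵁ X.basicOpen f := hx
      rw [Scheme.preimage_basicOpen_top, hfJ] at h'
      exact hh h'

theorem appTop_surjective_left [IsReduced X] [IsAffine J.subscheme]
    (hcov : ∀ x, x ∈ Set.range I.subschemeι ∨ x ∈ Set.range J.subschemeι) :
    Function.Surjective I.subschemeι.appTop := fun g => by
  let iJ := Scheme.IdealSheafData.inclusion (le_sup_right : J ≤ I ⊔ J)
  have : IsClosedImmersion iJ := by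
    have : IsClosedImmersion (iJ ≫ J.subschemeι) := by
      rw [Scheme.IdealSheafData.inclusion_subschemeι]; infer_instance
    exact IsClosedImmersion.of_comp_isClosedImmersion iJ J.subschemeι
  obtain ⟨h, hh⟩ := iJ.app_surjective ⊤ (isAffineOpen_top _)
    ((Scheme.IdealSheafData.inclusion (le_sup_left : I ≤ I ⊔ J)).appTop g)
  obtain ⟨f, hf, -⟩ := exists_glue I J hcov g h hh.symm
  exact ⟨f, hf⟩

theorem isAffine_of_pair_reduced [IsReduced X] [IsAffine I.subscheme] [IsAffine J.subscheme]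
    (hcov : ∀ x, x ∈ Set.range I.subschemeι ∨ x ∈ Set.range J.subschemeι) : IsAffine X := by
  have h : ∀ x : X, ∃ f : Γ(X, ⊤), x ∈ X.basicOpen f ∧ IsAffineOpen (X.basicOpen f) := by
    intro x
    obtain ⟨W, hW, hxW, -⟩ := exists_isAffineOpen_mem_and_subset (x := x) (U := (⊤ : X.Opens)) trivial
    obtain ⟨f, hxf, hfW⟩ : ∃ f : Γ(X, ⊤), x ∈ X.basicOpen f ∧ X.basicOpen f ≤ W := by
      rcases hcov x with ⟨a, rfl⟩ | ⟨a, rfl⟩
      · exact exists_basicOpen_le_of_mem_left I J hcov W a hxW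
      · exact exists_basicOpen_le_of_mem_left J I (fun x => (hcov x).symm) W a hxW
    refine ⟨f, hxf, ?_⟩
    have := hW.basicOpen (res le_top f)
    rwa [Scheme.basicOpen_res, inf_eq_right.2 hfW] at this
  choose f hxf hfa using h
  refine isAffine_of_isAffineOpen_basicOpen (Set.range f) ?_ (by rintro _ ⟨x, rfl⟩; exact hfa x)
  have key : ∀ K : X.IdealSheafData, IsAffine K.subscheme → Function.Surjective K.subschemeι.appTop →
      ∃ e ∈ Ideal.span (Set.range f), K.subschemeι.appTop e = 1 := by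
    intro K _ hsurj
    have h1 : Ideal.span (Set.range fun x => K.subschemeι.appTop (f x)) = ⊤ := by
      refine (isAffineOpen_top K.subscheme).iSup_basicOpen_eq_self_iff.1 (le_antisymm le_top fun a _ => ?_)
      refine Opens.mem_iSup.2 ⟨⟨_, K.subschemeι a, rfl⟩, ?_⟩
      rw [← Scheme.preimage_basicOpen_top]
      exact hxf _
    have h2 : (1 : Γ(K.subscheme, ⊤)) ∈ (Ideal.span (Set.range f)).map K.subschemeι.appTop.hom := by
      rw [Ideal.map_span, ← Set.range_comp]
      exact h1.symm ▸ Submodule.mem_top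
    exact (Ideal.mem_map_iff_of_surjective _ hsurj).1 h2
  obtain ⟨e₁, he₁, h₁⟩ := key I inferInstance (appTop_surjective_left I J hcov)
  obtain ⟨e₂, he₂, h₂⟩ := key J inferInstance (appTop_surjective_left J I fun x => (hcov x).symm)
  have h0 : (1 - e₁) * (1 - e₂) = 0 := by
    refine eq_zero_of_app_eq_zero I J hcov ?_ ?_
    · show I.subschemeι.appTop _ = 0
      rw [map_mul, map_sub, map_one, h₁, sub_self, zero_mul]
    · show J.subschemeι.appTop _ = 0
      rw [map_mul, map_sub, map_sub, map_one, h₂, sub_self, mul_zero]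
  rw [Ideal.eq_top_iff_one, show (1 : Γ(X, ⊤)) = e₁ + e₂ - e₁ * e₂ by linear_combination h0]
  exact sub_mem (add_mem he₁ he₂) (Ideal.mul_mem_right _ _ he₁)

end Pair

/-- A scheme covered by two affine closed subschemes is affine. -/
theorem isAffine_of_pair {A B : Scheme.{u}} (i : A ⟶ X) (j : B ⟶ X) [IsClosedImmersion i] [IsClosedImmersion j]
    [IsAffine A] [IsAffine B] (hcov : ∀ x, x ∈ Set.range i ∨ x ∈ Set.range j) : IsAffine X := by
  let t := X.nilradical.subschemeι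
  have := Groth.Agent.FlatMor67.isReduced_subscheme_nilradical X
  have htop : Set.range t = Set.univ := by
    rw [Scheme.IdealSheafData.range_subschemeι, Scheme.support_nilradical]; rfl
  have : Surjective t := ⟨Set.range_eq_univ.1 htop⟩
  let i' := pullback.snd i t
  let j' := pullback.snd j t
  have : IsClosedImmersion (pullback.fst i t) := MorphismProperty.pullback_fst _ _ inferInstance
  have : IsClosedImmersion (pullback.fst j t) := MorphismProperty.pullback_fst _ _ inferInstance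
  have : IsClosedImmersion i' := MorphismProperty.pullback_snd _ _ inferInstance
  have : IsClosedImmersion j' := MorphismProperty.pullback_snd _ _ inferInstance
  have : IsAffine (pullback i t) := isAffine_of_isAffineHom (pullback.fst i t)
  have : IsAffine (pullback j t) := isAffine_of_isAffineHom (pullback.fst j t)
  have : IsAffine i'.ker.subscheme := IsAffine.of_isIso (inv i'.toImage)
  have : IsAffine j'.ker.subscheme := IsAffine.of_isIso (inv j'.toImage)
  have hr : ∀ {C D : Scheme.{u}} (k : C ⟶ D) [IsClosedImmersion k], Set.range k ⊆ Set.range k.ker.subschemeι := by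
    intro C D k _
    rw [Scheme.IdealSheafData.range_subschemeι]
    exact k.range_subset_ker_support
  have hcov' : ∀ x, x ∈ Set.range i'.ker.subschemeι ∨ x ∈ Set.range j'.ker.subschemeι := by
    intro x
    rcases hcov (t x) with ⟨a, ha⟩ | ⟨a, ha⟩
    · obtain ⟨p, -, hp⟩ := Scheme.Pullback.exists_preimage_pullback a x ha
      exact Or.inl (hr i' ⟨p, hp⟩)
    · obtain ⟨p, -, hp⟩ := Scheme.Pullback.exists_preimage_pullback a x ha
      exact Or.inr (hr j' ⟨p, hp⟩)
  have : IsAffine X.nilradical.subscheme := isAffine_of_pair_reduced i'.ker j'.ker hcov'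
  exact isAffine_of_thickening t

/-- Prime avoidance: a principal open around finitely many points inside a given open. -/
theorem exists_basicOpen_subset_of_finite {V : X.Opens} (hV : IsAffineOpen V) (O : X.Opens) {F : Set X}
    (hF : F.Finite) (hFV : F ⊆ V) (hFO : F ⊆ O) :
    ∃ h : Γ(X, V), F ⊆ (X.basicOpen h : Set X) ∧ X.basicOpen h ≤ O := by
  classical
  let P : {x // x ∈ hF.toFinset} → Ideal Γ(X, V) := fun x =>
    (IsLocalRing.maximalIdeal (X.presheaf.stalk x.1)).comap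
      (X.presheaf.germ V x.1 (hFV (hF.mem_toFinset.1 x.2))).hom
  have hP : ∀ x c, c ∈ P x ↔ x.1 ∉ X.basicOpen c := fun x c => by
    rw [Scheme.mem_basicOpen X c _ (hFV (hF.mem_toFinset.1 x.2))]
    exact Ideal.mem_comap.trans (IsLocalRing.mem_maximalIdeal _)
  by_contra hc
  push Not at hc
  have hsub : ((idealInside (V := V) O : Ideal Γ(X, V)) : Set Γ(X, V)) ⊆
      ⋃ x ∈ (↑(Finset.univ : Finset {x // x ∈ hF.toFinset}) : Set _), (P x : Set Γ(X, V)) := fun c hc' => by
    obtain ⟨x, hx, hxc⟩ := Set.not_subset.1 (fun hh => hc c hh hc')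
    exact Set.mem_biUnion (Finset.mem_coe.2 (Finset.mem_univ ⟨x, hF.mem_toFinset.2 hx⟩)) ((hP _ _).2 hxc)
  rcases isEmpty_or_nonempty {x // x ∈ hF.toFinset} with hι | hι
  · refine hc 0 (fun x hx => (hι.false ⟨x, hF.mem_toFinset.2 hx⟩).elim) ?_
    rw [X.basicOpen_zero]; exact bot_le
  obtain ⟨x, -, hx⟩ := (Ideal.subset_union_prime (Classical.arbitrary _) (Classical.arbitrary _)
    (fun x _ _ _ => Ideal.IsPrime.comap _)).1 hsub
  obtain ⟨c, hc', hxc⟩ := hV.exists_basicOpen_le (V := O) ⟨x.1, hFO (hF.mem_toFinset.1 x.2)⟩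
    (hFV (hF.mem_toFinset.1 x.2))
  exact (hP x c).1 (hx (show c ∈ idealInside O from hc')) hxc

/-- Coset prime avoidance. -/
theorem exists_add_notMem {R : Type*} [CommRing R] (I : Ideal R) (h : R) (s : Finset (Ideal R))
    (hs : ∀ P ∈ s, P.IsPrime) (hI : ∀ P ∈ s, h ∈ P → ¬I ≤ P) : ∃ c ∈ I, ∀ P ∈ s, h + c ∉ P := by
  classical
  induction s using Finset.strongInduction with
  | _ s ih =>
    rcases s.eq_empty_or_nonempty with rfl | hne
    · exact ⟨0, I.zero_mem, by simp⟩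
    obtain ⟨P, hP⟩ := s.exists_minimal hne
    obtain ⟨c, hc, hc'⟩ := ih (s.erase P) (Finset.erase_ssubset hP.1) (fun Q hQ => hs Q (Finset.mem_of_mem_erase hQ))
      (fun Q hQ => hI Q (Finset.mem_of_mem_erase hQ))
    by_cases hcP : h + c ∈ P
    · have := hs P hP.1
      obtain ⟨e, ⟨heI, heQ⟩, heP⟩ : ∃ e, (e ∈ I ∧ ∀ Q ∈ s.erase P, e ∈ Q) ∧ e ∉ P := by
        by_contra hh
        push Not at hh
        have hle : I ⊓ (s.erase P).inf id ≤ P := fun e he => hh e ⟨(Submodule.mem_inf.1 he).1,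
          fun Q hQ => Finset.inf_le (f := id) hQ (Submodule.mem_inf.1 he).2⟩
        rcases (Ideal.IsPrime.inf_le (hs P hP.1)).1 hle with h1 | h1
        · exact hI P hP.1 (by simpa using P.sub_mem hcP (h1 hc)) h1
        · obtain ⟨Q, hQ, hQP⟩ := (Ideal.IsPrime.inf_le' (hs P hP.1)).1 h1
          exact Finset.ne_of_mem_erase hQ (le_antisymm hQP (hP.2 (Finset.mem_of_mem_erase hQ) hQP))
      refine ⟨c + e, I.add_mem hc heI, fun Q hQ hmem => ?_⟩
      rw [← add_assoc] at hmem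
      rcases eq_or_ne Q P with rfl | hne'
      · exact heP (by simpa using Q.sub_mem hmem hcP)
      · have hQe := Finset.mem_erase.2 ⟨hne', hQ⟩
        exact hc' Q hQe (by simpa using Q.sub_mem hmem (heQ Q hQe))
    · exact ⟨c, hc, fun Q hQ => (eq_or_ne Q P).elim (fun e => e ▸ hcP) fun hne' => hc' Q (Finset.mem_erase.2 ⟨hne', hQ⟩)⟩

/-- On an affine scheme, a function on a closed subscheme extends to one invertible at given points. -/
theorem exists_lift_nonvanishing {P V : Scheme.{u}} [IsAffine V] (s : P ⟶ V) [IsClosedImmersion s]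
    (γ : Γ(P, ⊤)) {F : Set V} (hF : F.Finite) (hγ : ∀ p, s p ∈ F → p ∈ P.basicOpen γ) :
    ∃ h : Γ(V, ⊤), s.appTop h = γ ∧ F ⊆ (V.basicOpen h : Set V) := by
  classical
  obtain ⟨h₀, hh₀⟩ : ∃ h₀, s.appTop h₀ = γ := s.app_surjective ⊤ (isAffineOpen_top _) γ
  let Q : V → Ideal Γ(V, ⊤) := fun x => (IsLocalRing.maximalIdeal (V.presheaf.stalk x)).comap
      (V.presheaf.germ ⊤ x trivial).hom
  have hQ : ∀ x c, c ∈ Q x ↔ x ∉ V.basicOpen c := fun x c => by
    rw [Scheme.mem_basicOpen V c x trivial]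
    exact Ideal.mem_comap.trans (IsLocalRing.mem_maximalIdeal _)
  obtain ⟨c, hc, hc'⟩ := exists_add_notMem (RingHom.ker s.appTop.hom) h₀ (hF.toFinset.image Q)
    (fun R hR => by obtain ⟨x, -, rfl⟩ := Finset.mem_image.1 hR; exact Ideal.IsPrime.comap _)
    (fun R hP hmem hle => by
      obtain ⟨x, hx, rfl⟩ := Finset.mem_image.1 hP
      have hxr : x ∉ Set.range s := by
        rintro ⟨p, rfl⟩
        have h1 := hγ p (hF.mem_toFinset.1 hx)
        rw [← hh₀] at h1
        exact (hQ _ _).1 hmem (show s p ∈ V.basicOpen h₀ from (Scheme.preimage_basicOpen_top s h₀).ge h1)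
      obtain ⟨e, he, hxe⟩ := (isAffineOpen_top V).exists_basicOpen_le
        (V := ⟨(Set.range s)ᶜ, s.isClosedEmbedding.isClosed_range.isOpen_compl⟩) ⟨x, hxr⟩ trivial
      have : IsAffine P := isAffine_of_isAffineHom s
      obtain ⟨n, hn⟩ := (Scheme.isNilpotent_iff_basicOpen_eq_bot (s.appTop e)).2 (eq_bot_iff.2 fun p hp => by
        rw [← Scheme.preimage_basicOpen_top] at hp
        exact he hp ⟨p, rfl⟩)
      have h2 : e ^ n ∈ Q x := hle (show s.appTop (e ^ n) = 0 by rw [map_pow, hn])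
      exact (hQ x e).1 ((Ideal.IsPrime.comap _).mem_of_pow_mem n h2) hxe)
  refine ⟨h₀ + c, by rw [map_add, hh₀, show s.appTop c = 0 from hc, add_zero], fun x hx => ?_⟩
  by_contra hh
  exact hc' (Q x) (Finset.mem_image.2 ⟨x, hF.mem_toFinset.2 hx, rfl⟩) ((hQ _ _).2 hh)

/-- Two closed pieces with affine opens around finitely many points. -/
theorem exists_affineOpen_pair {Y Z : Scheme.{u}} (i : Y ⟶ X) (j : Z ⟶ X) [IsClosedImmersion i] [IsClosedImmersion j]
    (hcov : ∀ x, x ∈ Set.range i ∨ x ∈ Set.range j) {T : Set X} (hT : T.Finite)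
    (A : Y.Opens) (hA : IsAffineOpen A) (hTA : ∀ y, i y ∈ T → y ∈ A)
    (V : Z.Opens) (hV : IsAffineOpen V) (hTV : ∀ z, j z ∈ T → z ∈ V) :
    ∃ U : X.Opens, IsAffineOpen U ∧ T ⊆ U := by
  have hi := i.isClosedEmbedding
  have hj := j.isClosedEmbedding
  let U₀ : X.Opens := ⟨(i '' (A : Set Y)ᶜ ∪ j '' (V : Set Z)ᶜ)ᶜ,
    ((hi.isClosedMap _ A.2.isClosed_compl).union (hj.isClosedMap _ V.2.isClosed_compl)).isOpen_compl⟩
  have hU₀i : ∀ y, i y ∈ U₀ → y ∈ A := fun y hy => by
    by_contra h; exact hy (Or.inl ⟨y, h, rfl⟩)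
  have hU₀j : ∀ z, j z ∈ U₀ → z ∈ V := fun z hz => by
    by_contra h; exact hz (Or.inr ⟨z, h, rfl⟩)
  have hTU₀ : T ⊆ U₀ := by
    rintro x hx (⟨y, hy, rfl⟩ | ⟨z, hz, rfl⟩)
    · exact hy (hTA y hx)
    · exact hz (hTV z hx)
  obtain ⟨h₀, hh₀T, hh₀U⟩ := exists_basicOpen_subset_of_finite hV (j ⁻¹ᵁ U₀)
    (hT.preimage hj.injective.injOn) hTV (fun z hz => hTU₀ hz)
  let O₁ : X.Opens := U₀ ⊓ ⟨(j '' (Z.basicOpen h₀ : Set Z)ᶜ)ᶜ,
    (hj.isClosedMap _ (Z.basicOpen h₀).2.isClosed_compl).isOpen_compl⟩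
  obtain ⟨g, hgT, hgO⟩ := exists_basicOpen_subset_of_finite hA (i ⁻¹ᵁ O₁)
    (hT.preimage hi.injective.injOn) hTA (fun y hy => ⟨hTU₀ hy, by
      rintro ⟨z, hz, hzy⟩
      exact hz (hh₀T (show j z ∈ T from hzy.symm ▸ hy))⟩)
  let V' := Z.basicOpen h₀
  have : IsAffine V'.toScheme := hV.basicOpen h₀
  let j' := V'.ι ≫ j
  let P := pullback i j'
  have : IsClosedImmersion (pullback.snd i j') := MorphismProperty.pullback_snd _ _ inferInstance
  have hPA : (⊤ : P.Opens) ≤ pullback.fst i j' ⁻¹ᵁ A := fun p _ => hU₀i _ (by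
    show i (pullback.fst i j' p) ∈ U₀
    rw [← Scheme.Hom.comp_apply, pullback.condition, Scheme.Hom.comp_apply, Scheme.Hom.comp_apply]
    exact hh₀U ((pullback.snd i j') p).2)
  let γ : Γ(P, ⊤) := res hPA ((pullback.fst i j').app A g)
  have hγ : ∀ p, p ∈ P.basicOpen γ ↔ pullback.fst i j' p ∈ Y.basicOpen g := fun p => by
    show p ∈ P.basicOpen (res hPA _) ↔ _
    rw [Scheme.basicOpen_res, ← Scheme.preimage_basicOpen]
    exact ⟨fun h => h.2, fun h => ⟨trivial, h⟩⟩
  have hjT : ((fun z : V'.toScheme => j (V'.ι z)) ⁻¹' T).Finite :=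
    hT.preimage ((hj.injective.comp V'.ι.isOpenEmbedding.injective).injOn)
  obtain ⟨h, hh, hhT⟩ := exists_lift_nonvanishing (pullback.snd i j') γ hjT fun p hp => (hγ p).2 (hgT (by
    show i (pullback.fst i j' p) ∈ T
    rw [← Scheme.Hom.comp_apply, pullback.condition, Scheme.Hom.comp_apply, Scheme.Hom.comp_apply]
    exact hp))
  let D := V'.ι ''ᵁ V'.toScheme.basicOpen h
  have hD : IsAffineOpen D := ((isAffineOpen_top _).basicOpen h).image_of_isOpenImmersion V'.ι
  have hiff : ∀ y z, i y = j z → z ∈ V' → (y ∈ Y.basicOpen g ↔ z ∈ D) := by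
    intro y z hyz hz
    obtain ⟨p, hp1, hp2⟩ := Scheme.Pullback.exists_preimage_pullback (f := i) (g := j') y ⟨z, hz⟩
      (by rw [Scheme.Hom.comp_apply]; exact hyz)
    rw [← hp1, ← hγ, ← hh, ← Scheme.preimage_basicOpen_top]
    show pullback.snd i j' p ∈ V'.toScheme.basicOpen h ↔ _
    rw [hp2]
    refine ⟨fun h' => ⟨_, h', rfl⟩, ?_⟩
    rintro ⟨z', hz', hzz⟩
    exact V'.ι.isOpenEmbedding.injective (a₁ := z') (a₂ := ⟨z, hz⟩) hzz ▸ hz'
  let U : X.Opens := ⟨(i '' (Y.basicOpen g : Set Y)ᶜ ∪ j '' (D : Set Z)ᶜ)ᶜ,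
    ((hi.isClosedMap _ (Y.basicOpen g).2.isClosed_compl).union (hj.isClosedMap _ D.2.isClosed_compl)).isOpen_compl⟩
  have hUi : i ⁻¹ᵁ U = Y.basicOpen g := by
    refine le_antisymm (fun y hy => by_contra fun h' => hy (Or.inl ⟨y, h', rfl⟩)) fun y hy => ?_
    rintro (⟨y', hy', he⟩ | ⟨z, hz, he⟩)
    · exact hy' (hi.injective he ▸ hy)
    · have hzV : z ∈ V' := by_contra fun h' => (hgO hy).2 ⟨z, h', he⟩
      exact hz ((hiff y z he.symm hzV).1 hy)
  have hUj : j ⁻¹ᵁ U = D := by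
    refine le_antisymm (fun z hz => by_contra fun h' => hz (Or.inr ⟨z, h', rfl⟩)) fun z hz => ?_
    rintro (⟨y, hy, he⟩ | ⟨z', hz', he⟩)
    · exact hy ((hiff y z he (by obtain ⟨w, -, rfl⟩ := hz; exact w.2)).2 hz)
    · exact hz' (hj.injective he ▸ hz)
  refine ⟨U, ?_, ?_⟩
  · have : IsAffine (i ⁻¹ᵁ U).toScheme := hUi ▸ hA.basicOpen g
    have : IsAffine (j ⁻¹ᵁ U).toScheme := hUj ▸ hD
    have : IsClosedImmersion (i ∣_ U) := IsZariskiLocalAtTarget.restrict (P := @IsClosedImmersion) inferInstance U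
    have : IsClosedImmersion (j ∣_ U) := IsZariskiLocalAtTarget.restrict (P := @IsClosedImmersion) inferInstance U
    refine isAffine_of_pair (i ∣_ U) (j ∣_ U) fun x => ?_
    rcases hcov x.1 with ⟨y, hy⟩ | ⟨z, hz⟩
    · exact Or.inl ⟨⟨y, show i y ∈ U from hy ▸ x.2⟩, Subtype.ext ((congr(($(morphismRestrict_ι i U)) ⟨y, show i y ∈ U from hy ▸ x.2⟩)).trans hy)⟩
    · exact Or.inr ⟨⟨z, show j z ∈ U from hz ▸ x.2⟩, Subtype.ext ((congr(($(morphismRestrict_ι j U)) ⟨z, show j z ∈ U from hz ▸ x.2⟩)).trans hz)⟩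
  · rintro x hx (⟨y, hy, rfl⟩ | ⟨z, hz, rfl⟩)
    · exact hy (hgT hx)
    · exact hz ⟨⟨z, hh₀T hx⟩, hhT (show (⟨z, hh₀T hx⟩ : V'.toScheme) ∈ _ from hx), rfl⟩

/-- Finitely many closed pieces with affine opens around finitely many points. -/
theorem exists_affineOpen_pieces : ∀ (n : ℕ) {X : Scheme.{u}} (Z : Fin n → Scheme.{u}) (i : ∀ k, Z k ⟶ X),
    (∀ k, IsClosedImmersion (i k)) → (∀ x, ∃ k, x ∈ Set.range (i k)) → ∀ T : Set X, T.Finite →
      (∀ k, ∃ V : (Z k).Opens, IsAffineOpen V ∧ ∀ z, i k z ∈ T → z ∈ V) →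
        ∃ U : X.Opens, IsAffineOpen U ∧ T ⊆ U
  | 0, X, Z, i, _, hcov, T, _, _ => ⟨⊥, isAffineOpen_bot X, fun x _ => (hcov x).choose.elim0⟩
  | n + 1, X, Z, i, hi, hcov, T, hT, h => by
    let S : Closeds X := ⟨⋃ k : Fin n, Set.range (i k.castSucc),
      isClosed_iUnion_of_finite fun k => have := hi k.castSucc; (i k.castSucc).isClosedEmbedding.isClosed_range⟩
    let y := (Scheme.IdealSheafData.vanishingIdeal S).subschemeι
    have hy : Set.range y = S := by
      rw [Scheme.IdealSheafData.range_subschemeι, Scheme.IdealSheafData.coe_support_vanishingIdeal]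
    have := hi (Fin.last n)
    have hY : ∃ A : (Scheme.IdealSheafData.vanishingIdeal S).subscheme.Opens, IsAffineOpen A ∧
        y ⁻¹' T ⊆ A := by
      refine exists_affineOpen_pieces n (fun k => pullback (i k.castSucc) y) (fun k => pullback.snd _ _)
        (fun k => MorphismProperty.pullback_snd _ _ (hi _)) (fun a => ?_) _
        (hT.preimage y.isClosedEmbedding.injective.injOn) fun k => ?_
      · have ha : y a ∈ (S : Set X) := hy.le ⟨a, rfl⟩
        obtain ⟨k, b, hb⟩ := Set.mem_iUnion.1 ha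
        obtain ⟨p, -, hp⟩ := Scheme.Pullback.exists_preimage_pullback b a hb
        exact ⟨k, p, hp⟩
      · obtain ⟨V, hV, hTV⟩ := h k.castSucc
        have : IsClosedImmersion (pullback.fst (i k.castSucc) y) := MorphismProperty.pullback_fst _ _ inferInstance
        refine ⟨pullback.fst (i k.castSucc) y ⁻¹ᵁ V, hV.preimage _, fun z hz => hTV _ ?_⟩
        rw [← Scheme.Hom.comp_apply, pullback.condition, Scheme.Hom.comp_apply]
        exact hz
    obtain ⟨A, hA, hTA⟩ := hY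
    obtain ⟨V, hV, hTV⟩ := h (Fin.last n)
    refine exists_affineOpen_pair y (i (Fin.last n)) (fun x => ?_) hT A hA hTA V hV hTV
    obtain ⟨k, hk⟩ := hcov x
    induction k using Fin.lastCases with
    | last => exact Or.inr hk
    | cast k => exact Or.inl (hy.ge (Set.mem_iUnion.2 ⟨k, hk⟩))

end Groth.Agent.VarGal
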