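import Groth.Agent.CAlgH2.LocalDimField
import Groth.Agent.FBase64.Chart
import Mathlib.RingTheory.NoetherNormalization
import Mathlib.RingTheory.TensorProduct.MvPolynomial
import Mathlib.RingTheory.Ideal.MinimalPrime.Localization
import Mathlib.RingTheory.Ideal.KrullsHeightTheorem

universe u

open TensorProduct

/-! Dimension of intersections in affine space over a field. -/

namespace Groth.Agent.VarGal

variable {k : Type u} [Field k]

theorem mul_injective_baseChange_field {K F L : Type u} [Field K] [Field F] [Field L] [Algebra k K]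
    [Algebra k F] [Algebra k L] [Algebra F L] [IsScalarTower k F L] [IsDomain (F ⊗[k] K)]
    {r : F ⊗[k] K} (hr : r ≠ 0) {w : L ⊗[k] K}
    (hw : Algebra.TensorProduct.map (IsScalarTower.toAlgHom k F L) (AlgHom.id k K) r * w = 0) : w = 0 := by
  let e := Algebra.TensorProduct.cancelBaseChange k F L L K
  have he : ∀ r : F ⊗[k] K, Algebra.TensorProduct.map (IsScalarTower.toAlgHom k F L) (AlgHom.id k K) r = e (1 ⊗ₜ r) := by
    intro r
    induction r with
    | zero => simp
    | tmul a c => simp [e, Algebra.smul_def]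
    | add a c ha hc => simp only [tmul_add, map_add, ha, hc]
  have hinj : Function.Injective (LinearMap.lTensor L (LinearMap.mulLeft F r)) :=
    Module.Flat.lTensor_preserves_injective_linearMap _ (mul_right_injective₀ hr)
  have key : ∀ v : L ⊗[F] (F ⊗[k] K), (1 ⊗ₜ r) * v = LinearMap.lTensor L (LinearMap.mulLeft F r) v := by
    intro v
    induction v with
    | zero => simp
    | tmul a c => simp
    | add a c ha hc => simp only [mul_add, map_add, ha, hc]
  obtain ⟨v, rfl⟩ := e.surjective w
  rw [he, ← map_mul, map_eq_zero_iff e e.injective, key] at hw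
  rw [hinj (hw.trans (map_zero _).symm), map_zero]

theorem tensorMap_injective {A A' B B' : Type u} [CommRing A] [CommRing A'] [CommRing B] [CommRing B']
    [Algebra k A] [Algebra k A'] [Algebra k B] [Algebra k B'] (f : A →ₐ[k] A') (g : B →ₐ[k] B')
    (hf : Function.Injective f) (hg : Function.Injective g) :
    Function.Injective (Algebra.TensorProduct.map f g) := by
  intro x y hxy
  have h : ∀ z, Algebra.TensorProduct.map f g z = LinearMap.rTensor B' f.toLinearMap (LinearMap.lTensor A g.toLinearMap z) := by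
    intro z
    induction z with
    | zero => simp
    | tmul a c => simp
    | add a c ha hc => simp only [map_add, ha, hc]
  rw [h, h] at hxy
  exact Module.Flat.lTensor_preserves_injective_linearMap _ hg
    (Module.Flat.rTensor_preserves_injective_linearMap _ hf hxy)

theorem isDomain_fractionRing_mvPolynomial_tensor (b : ℕ) (K : Type u) [Field K] [Algebra k K] :
    IsDomain (FractionRing (MvPolynomial (Fin b) k) ⊗[k] K) := by
  let R := MvPolynomial (Fin b) k
  let F := FractionRing R
  have h0 : IsDomain (R ⊗[k] K) :=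
    ((Algebra.TensorProduct.comm k R K).toRingEquiv.trans
      (MvPolynomial.scalarRTensorAlgEquiv (R := k) (σ := Fin b) (N := K)).toRingEquiv).toMulEquiv.isDomain
  let T := R ⊗[k] K
  let e : T ⊗[R] F ≃+* F ⊗[k] K :=
    (Algebra.TensorProduct.comm R T F).toRingEquiv.trans
      (Algebra.TensorProduct.cancelBaseChange k R R F K).toRingEquiv
  have : IsDomain (T ⊗[R] F) := by
    have : Nontrivial (T ⊗[R] F) := by
      have : Nontrivial (F ⊗[k] K) := inferInstance
      exact e.toEquiv.nontrivial
    exact FBase64.isDomain_of_localization (D := T ⊗[R] F) (Algebra.algebraMapSubmonoid T (nonZeroDivisors R))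
  exact Function.Injective.isDomain e.symm e.symm.injective

/-- For domains finite over polynomial rings, polynomials act injectively on the tensor product. -/
theorem exists_finite_injective_tensor (A B : Type u) [CommRing A] [IsDomain A] [CommRing B] [IsDomain B]
    [Algebra k A] [Algebra k B] [Algebra.FiniteType k A] [Algebra.FiniteType k B] :
    ∃ (a b : ℕ) (g : MvPolynomial (Fin a) k ⊗[k] MvPolynomial (Fin b) k →ₐ[k] A ⊗[k] B),
      Algebra.trdeg k A = a ∧ Algebra.trdeg k B = b ∧ g.Finite ∧ IsDomain (MvPolynomial (Fin a) k ⊗[k] MvPolynomial (Fin b) k) ∧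
      ∀ r, r ≠ 0 → ∀ w, g r * w = 0 → w = 0 := by
  obtain ⟨a, f, hf, hff⟩ := exists_finite_inj_algHom_of_fg k A
  obtain ⟨b, h, hh, hhf⟩ := exists_finite_inj_algHom_of_fg k B
  let P := MvPolynomial (Fin a) k
  let R := MvPolynomial (Fin b) k
  have htr : ∀ {C : Type u} [CommRing C] [IsDomain C] [Algebra k C] {n : ℕ} (φ : MvPolynomial (Fin n) k →ₐ[k] C),
      Function.Injective φ → φ.Finite → Algebra.trdeg k C = n := by
    intro C _ _ _ n φ hφ hfin
    let := φ.toRingHom.toAlgebra
    have : IsScalarTower k (MvPolynomial (Fin n) k) C := .of_algebraMap_eq fun c => (φ.commutes c).symm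
    have : Module.Finite (MvPolynomial (Fin n) k) C := hfin
    have : FaithfulSMul (MvPolynomial (Fin n) k) C := (faithfulSMul_iff_algebraMap_injective _ _).2 hφ
    rw [← trdeg_add_eq k (MvPolynomial (Fin n) k) (A := C), trdeg_eq_zero (R := MvPolynomial (Fin n) k) (A := C), add_zero,
      MvPolynomial.trdeg_of_isDomain]
    simp
  have hdomPR : IsDomain (P ⊗[k] R) := (MvPolynomial.tensorEquivSum k (Fin a) (Fin b) k).toMulEquiv.isDomain
  let g : P ⊗[k] R →ₐ[k] A ⊗[k] B := Algebra.TensorProduct.map f h
  refine ⟨a, b, g, htr f hf hff, htr h hh hhf, ?_, hdomPR, ?_⟩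
  · let := f.toRingHom.toAlgebra
    let := h.toRingHom.toAlgebra
    have hg : g = (Algebra.TensorProduct.map f (AlgHom.id k B)).comp (Algebra.TensorProduct.map (AlgHom.id k P) h) := by
      rw [← Algebra.TensorProduct.map_comp]; rfl
    rw [hg]
    refine AlgHom.Finite.comp ?_ ?_
    · exact RingHom.Finite.tensorProductMap (f := f) (g := AlgHom.id k B) hff (RingHom.Finite.id B)
    · exact RingHom.Finite.tensorProductMap (f := AlgHom.id k P) (g := h) (RingHom.Finite.id P) hhf
  · intro r hr w hw
    let K := FractionRing A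
    let L := FractionRing B
    let F := FractionRing R
    let iL : R →ₐ[k] L := (IsScalarTower.toAlgHom k B L).comp h
    have hiL : Function.Injective iL := (IsFractionRing.injective B L).comp hh
    let iF : F →ₐ[k] L := IsFractionRing.liftAlgHom hiL
    let := iF.toRingHom.toAlgebra
    have : IsScalarTower k F L := .of_algebraMap_eq fun c => (iF.commutes c).symm
    let iK : P →ₐ[k] K := (IsScalarTower.toAlgHom k A K).comp f
    have hiK : Function.Injective iK := (IsFractionRing.injective A K).comp hf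
    have hdom : IsDomain (F ⊗[k] K) := isDomain_fractionRing_mvPolynomial_tensor b K
    let rF : P ⊗[k] R →ₐ[k] F ⊗[k] K :=
      (Algebra.TensorProduct.map (IsScalarTower.toAlgHom k R F) iK).comp (Algebra.TensorProduct.comm k P R).toAlgHom
    have hrF : Function.Injective rF := by
      exact (tensorMap_injective (IsScalarTower.toAlgHom k R F) iK (IsFractionRing.injective R F) hiK).comp
        (Algebra.TensorProduct.comm k P R).injective
    let j : A ⊗[k] B →ₐ[k] L ⊗[k] K :=
      (Algebra.TensorProduct.map (IsScalarTower.toAlgHom k B L) (IsScalarTower.toAlgHom k A K)).comp (Algebra.TensorProduct.comm k A B).toAlgHom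
    have hj : Function.Injective j := by
      exact (tensorMap_injective (IsScalarTower.toAlgHom k B L) (IsScalarTower.toAlgHom k A K)
        (IsFractionRing.injective B L) (IsFractionRing.injective A K)).comp (Algebra.TensorProduct.comm k A B).injective
    have hcomm : (Algebra.TensorProduct.map (IsScalarTower.toAlgHom k F L) (AlgHom.id k K)).comp rF = j.comp g := by
      apply Algebra.TensorProduct.ext
      · ext i; simp [rF, j, g, iK, P]
      · ext i
        simp only [AlgHom.comp_apply, rF, j, g]
        simp [IsScalarTower.coe_toAlgHom', RingHom.algebraMap_toAlgebra, iF, iL, R]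
    apply hj
    rw [map_zero]
    refine mul_injective_baseChange_field (r := rF r) (fun e => hr (hrF (e.trans (map_zero _).symm))) ?_
    rw [← AlgHom.comp_apply, hcomm, AlgHom.comp_apply, ← map_mul, hw, map_zero]

open CAlgH2 in
theorem trdegQuot_minimalPrimes_tensor (A B : Type u) [CommRing A] [IsDomain A] [CommRing B] [IsDomain B]
    [Algebra k A] [Algebra k B] [Algebra.FiniteType k A] [Algebra.FiniteType k B]
    (Q : Ideal (A ⊗[k] B)) (hQ : Q ∈ minimalPrimes (A ⊗[k] B)) :
    trdegQuot k Q = Cardinal.toNat (Algebra.trdeg k A) + Cardinal.toNat (Algebra.trdeg k B) := by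
  have hQp : Q.IsPrime := hQ.1.1
  obtain ⟨a, b, g, hA, hB, hfin, hdom, hnzd⟩ := exists_finite_injective_tensor (k := k) A B
  let P := MvPolynomial (Fin a) k ⊗[k] MvPolynomial (Fin b) k
  let φ : P →ₐ[k] A ⊗[k] B ⧸ Q := (Ideal.Quotient.mkₐ k Q).comp g
  have hφ : Function.Injective φ := by
    rw [injective_iff_map_eq_zero]
    intro r hr
    by_contra hne
    have hmem : g r ∈ Q := Ideal.Quotient.eq_zero_iff_mem.1 hr
    exact Set.disjoint_left.1 (Ideal.disjoint_nonZeroDivisors_of_mem_minimalPrimes hQ) hmem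
      (mem_nonZeroDivisors_iff.2 ⟨fun w hw => hnzd r hne w hw, fun w hw => hnzd r hne w (by rwa [mul_comm] at hw)⟩)
  have hφfin : φ.Finite := AlgHom.Finite.comp (AlgHom.Finite.of_surjective _ Ideal.Quotient.mk_surjective) hfin
  let := φ.toRingHom.toAlgebra
  have : IsScalarTower k P (A ⊗[k] B ⧸ Q) := .of_algebraMap_eq fun c => (φ.commutes c).symm
  have : Module.Finite P (A ⊗[k] B ⧸ Q) := hφfin
  have : FaithfulSMul P (A ⊗[k] B ⧸ Q) := (faithfulSMul_iff_algebraMap_injective _ _).2 hφ
  rw [trdegQuot, ← trdeg_add_eq k P (A := A ⊗[k] B ⧸ Q), trdeg_eq_zero (R := P) (A := A ⊗[k] B ⧸ Q), add_zero,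
    hA, hB, (MvPolynomial.tensorEquivSum k (Fin a) (Fin b) k).trdeg_eq, MvPolynomial.trdeg_of_isDomain]
  simp

open CAlgH2 in
/-- Intersections in an affine space: `dim W + N ≥ dim V(p) + dim V(q)`. -/
theorem trdegQuot_add_le_of_minimalPrimes {S : Type u} [CommRing S] [Algebra k S] {N : ℕ} (x : Fin N → S)
    (hx : Algebra.adjoin k (Set.range x) = ⊤) (p q w : Ideal S) [p.IsPrime] [q.IsPrime]
    (hw : w ∈ (p ⊔ q).minimalPrimes) :
    trdegQuot k p + trdegQuot k q ≤ trdegQuot k w + N := by
  have hwp : w.IsPrime := hw.1.1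
  have : Algebra.FiniteType k S := ⟨⟨(Set.finite_range x).toFinset, by simpa using hx⟩⟩
  let A := S ⧸ p
  let B := S ⧸ q
  have : Algebra.FiniteType k A := Algebra.FiniteType.of_surjective (Ideal.Quotient.mkₐ k p) Ideal.Quotient.mk_surjective
  have : Algebra.FiniteType k B := Algebra.FiniteType.of_surjective (Ideal.Quotient.mkₐ k q) Ideal.Quotient.mk_surjective
  let T := A ⊗[k] B
  have : Algebra.FiniteType k T := Algebra.FiniteType.trans (S := A) inferInstance inferInstance
  have : IsNoetherianRing T := Algebra.FiniteType.isNoetherianRing k T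
  let ι : S →ₐ[k] T := (Algebra.TensorProduct.includeLeft (S := k)).comp (Ideal.Quotient.mkₐ k p)
  let ι' : S →ₐ[k] T := Algebra.TensorProduct.includeRight.comp (Ideal.Quotient.mkₐ k q)
  have e1 : ∀ s, ι s = Ideal.Quotient.mk p s ⊗ₜ[k] 1 := fun s => rfl
  have e2 : ∀ s, ι' s = 1 ⊗ₜ[k] Ideal.Quotient.mk q s := fun s => rfl
  let J : Ideal T := Ideal.span (Set.range fun i => ι (x i) - ι' (x i))
  have hJ : ∀ s, ι s - ι' s ∈ J := by
    intro s
    have : s ∈ Algebra.adjoin k (Set.range x) := hx ▸ Algebra.mem_top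
    induction this using Algebra.adjoin_induction with
    | mem y hy => obtain ⟨i, rfl⟩ := hy; exact Ideal.subset_span ⟨i, rfl⟩
    | algebraMap c => simp [AlgHom.commutes]
    | add y z _ _ hy hz => simpa [map_add, add_sub_add_comm] using add_mem hy hz
    | mul y z _ _ hy hz =>
      have : ι (y * z) - ι' (y * z) = ι y * (ι z - ι' z) + ι' z * (ι y - ι' y) := by
        rw [map_mul, map_mul]; ring
      rw [this]
      exact add_mem (J.mul_mem_left _ hz) (J.mul_mem_left _ hy)
  have hsurj : ∀ t : T, ∃ s : S, t - ι s ∈ J := by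
    intro t
    induction t using TensorProduct.induction_on with
    | zero => exact ⟨0, by simp⟩
    | tmul a b =>
      obtain ⟨a, rfl⟩ := Ideal.Quotient.mk_surjective a
      obtain ⟨b, rfl⟩ := Ideal.Quotient.mk_surjective b
      refine ⟨a * b, ?_⟩
      have : Ideal.Quotient.mk p a ⊗ₜ[k] Ideal.Quotient.mk q b - ι (a * b) = ι a * -(ι b - ι' b) := by
        rw [show (Ideal.Quotient.mk p a ⊗ₜ[k] Ideal.Quotient.mk q b : T) = ι a * ι' b by
          rw [e1, e2]; exact ((Algebra.TensorProduct.tmul_mul_tmul _ _ _ _).trans (by rw [mul_one, one_mul])).symm, map_mul]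
        ring
      rw [this]
      exact J.mul_mem_left _ (neg_mem (hJ b))
    | add y z hy hz =>
      obtain ⟨a, ha⟩ := hy; obtain ⟨b, hb⟩ := hz
      exact ⟨a + b, by simpa [map_add, add_sub_add_comm] using add_mem ha hb⟩
  let μ : T →ₐ[k] S ⧸ w := Algebra.TensorProduct.lift
    (Ideal.Quotient.factorₐ k (le_sup_left.trans hw.1.2)) (Ideal.Quotient.factorₐ k (le_sup_right.trans hw.1.2))
    fun _ _ => Commute.all _ _
  have hμ : ∀ s, μ (ι s) = Ideal.Quotient.mk w s := fun s => by rw [e1, Algebra.TensorProduct.lift_tmul, map_one, mul_one]; rfl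
  have hμ' : ∀ s, μ (ι' s) = Ideal.Quotient.mk w s := fun s => by rw [e2, Algebra.TensorProduct.lift_tmul, map_one, one_mul]; rfl
  let W : Ideal T := RingHom.ker μ
  have : W.IsPrime := RingHom.ker_isPrime _
  have hJW : J ≤ W := Ideal.span_le.2 (by
    rintro _ ⟨i, rfl⟩; show μ _ = 0; rw [map_sub, hμ, hμ', sub_self])
  have hmin : W ∈ J.minimalPrimes := by
    refine ⟨⟨inferInstance, hJW⟩, fun W' ⟨hW', hJW'⟩ hle t ht => ?_⟩
    have hsup : p ⊔ q ≤ W'.comap ι := sup_le
      (fun s hs => show ι s ∈ W' by
        rw [e1, Ideal.Quotient.eq_zero_iff_mem.2 hs, TensorProduct.zero_tmul]; exact zero_mem _)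
      (fun s hs => show ι s ∈ W' by
        rw [show ι s = ι s - ι' s by rw [e2, Ideal.Quotient.eq_zero_iff_mem.2 hs, TensorProduct.tmul_zero, sub_zero]]; exact hJW' (hJ s))
    have hle' : W'.comap ι ≤ w := fun s hs => by
      rw [← Ideal.Quotient.eq_zero_iff_mem, ← hμ]; exact hle hs
    have hge : w ≤ W'.comap ι := hw.2 ⟨Ideal.IsPrime.comap ι, hsup⟩ hle'
    obtain ⟨s, hs⟩ := hsurj t
    have hsw : s ∈ w := by
      rw [← Ideal.Quotient.eq_zero_iff_mem, ← hμ]
      have h := hJW hs
      rw [RingHom.mem_ker, map_sub, (ht : μ t = 0), zero_sub, neg_eq_zero] at h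
      exact h
    have : t = (t - ι s) + ι s := by ring
    rw [this]
    exact add_mem (hJW' hs) (hge hsw)
  have hN : W.height ≤ N := by
    classical
    refine (Ideal.height_le_card_of_mem_minimalPrimes_span (Set.finite_range _) hmin).trans ?_
    rw [Nat.cast_le]
    have h := Finset.card_image_le (s := (Finset.univ : Finset (Fin N))) (f := fun i => ι (x i) - ι' (x i))
    rw [← Set.ncard_coe_finset, Finset.coe_image, Finset.coe_univ, Set.image_univ, Finset.card_univ, Fintype.card_fin] at h
    exact h
  have hWw : trdegQuot k W = trdegQuot k w := by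
    unfold trdegQuot
    have hs : Function.Surjective μ := fun y => by
      obtain ⟨y, rfl⟩ := Ideal.Quotient.mk_surjective y; exact ⟨ι y, hμ y⟩
    exact congrArg Cardinal.toNat (Ideal.quotientKerAlgEquivOfSurjective hs).trdeg_eq
  obtain ⟨Q, hQ, hQW⟩ := Ideal.exists_minimalPrimes_le (I := (⊥ : Ideal T)) (J := W) bot_le
  have : Q.IsPrime := hQ.1.1
  have h1 := height_add_trdegQuot k Q W hQW
  rw [hWw, trdegQuot_minimalPrimes_tensor A B Q hQ] at h1
  have h2 : ((Cardinal.toNat (Algebra.trdeg k A) + Cardinal.toNat (Algebra.trdeg k B) : ℕ) : ℕ∞) ≤ ((trdegQuot k w + N : ℕ) : ℕ∞) := by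
    rw [← h1, Nat.cast_add, add_comm]
    exact add_le_add le_rfl ((height_map_quotient_le Q W hQW).trans hN)
  exact_mod_cast h2

end Groth.Agent.VarGal
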