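import Mathlib.AlgebraicGeometry.Morphisms.Separated
import Mathlib.AlgebraicGeometry.PullbackCarrier
import Mathlib.AlgebraicGeometry.AffineScheme

/-! Separated local isomorphisms injective on generic points. -/

universe u
open CategoryTheory CategoryTheory.Limits AlgebraicGeometry
set_option backward.isDefEq.respectTransparency.types false

namespace Groth.Agent.VarGal

theorem closure_singleton_mem_irreducibleComponents_iff {T : Type*} [TopologicalSpace T] [QuasiSober T]
    [T0Space T] (ξ : T) :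
    closure ({ξ} : Set T) ∈ irreducibleComponents T ↔ ∀ y : T, y ⤳ ξ → y = ξ := by
  refine ⟨fun h y hy => ?_, fun h => ⟨isIrreducible_singleton.closure, fun S hS hle => ?_⟩⟩
  · have h1 : closure ({ξ} : Set T) ⊆ closure {y} := hy.closure_subset
    have h2 := (h.2 isIrreducible_singleton.closure h1).antisymm h1
    exact IsGenericPoint.eq (show IsGenericPoint y (closure {y}) from rfl)
      (show IsGenericPoint ξ (closure {y}) from h2.symm)
  · obtain ⟨y, hy⟩ := QuasiSober.sober hS.closure isClosed_closure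
    have hyξ : y ⤳ ξ := hy.specializes (subset_closure (hle (subset_closure rfl)))
    have : closure {ξ} = closure S := by rw [← h y hyξ]; exact hy
    exact subset_closure.trans this.ge

theorem exists_maximal_generization_top {T : Type*} [TopologicalSpace T] [QuasiSober T] [T0Space T] (x : T) :
    ∃ η : T, η ⤳ x ∧ ∀ y : T, y ⤳ η → y = η := by
  have hC := irreducibleComponent_mem_irreducibleComponents x
  obtain ⟨η, hη⟩ := QuasiSober.sober hC.1 (isClosed_of_mem_irreducibleComponents _ hC)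
  refine ⟨η, hη.specializes mem_irreducibleComponent, (closure_singleton_mem_irreducibleComponents_iff η).1 ?_⟩
  rw [hη.def]; exact hC

theorem maximal_of_isOpenEmbedding {A B : Type*} [TopologicalSpace A] [TopologicalSpace B] {j : A → B}
    (hj : Topology.IsOpenEmbedding j) {η : A} (h : ∀ y : A, y ⤳ η → y = η) : ∀ y : B, y ⤳ j η → y = j η := by
  intro y hy
  obtain ⟨a, rfl⟩ := hy.mem_open hj.isOpen_range ⟨η, rfl⟩
  rw [h a (hj.isInducing.specializes_iff.1 hy)]

theorem injective_of_separated_of_local {X Y : Scheme.{u}} (f : X ⟶ Y) [IsSeparated f]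
    (hloc : ∀ x : X, ∃ U : X.Opens, x ∈ U ∧ IsOpenImmersion (U.ι ≫ f))
    (hinj : ∀ ξ ξ' : X, closure ({ξ} : Set X) ∈ irreducibleComponents (X : Type u) →
      closure ({ξ'} : Set X) ∈ irreducibleComponents (X : Type u) → f.base ξ = f.base ξ' → ξ = ξ') :
    Function.Injective f.base := by
  intro x x' hxx
  obtain ⟨U, hx, _⟩ := hloc x
  obtain ⟨V, hx', _⟩ := hloc x'
  let P := pullback (U.ι ≫ f) (V.ι ≫ f)
  obtain ⟨z, hz1, hz2⟩ := Scheme.Pullback.exists_preimage_pullback (f := U.ι ≫ f) (g := V.ι ≫ f)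
    ⟨x, hx⟩ ⟨x', hx'⟩ hxx
  obtain ⟨η, hηz, hη⟩ := exists_maximal_generization_top z
  let p₁ := pullback.fst (U.ι ≫ f) (V.ι ≫ f)
  let p₂ := pullback.snd (U.ι ≫ f) (V.ι ≫ f)
  have hm1 := maximal_of_isOpenEmbedding (U.ι.isOpenEmbedding.comp p₁.isOpenEmbedding) hη
  have hm2 := maximal_of_isOpenEmbedding (V.ι.isOpenEmbedding.comp p₂.isOpenEmbedding) hη
  have hfe : f.base ((U.ι.base ∘ p₁.base) η) = f.base ((V.ι.base ∘ p₂.base) η) := by
    show (p₁ ≫ U.ι ≫ f) η = (p₂ ≫ V.ι ≫ f) η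
    rw [pullback.condition]
  have heq : U.ι.base (p₁.base η) = V.ι.base (p₂.base η) := hinj _ _
    ((closure_singleton_mem_irreducibleComponents_iff _).2 hm1)
    ((closure_singleton_mem_irreducibleComponents_iff _).2 hm2) hfe
  obtain ⟨w, hw1, -⟩ := Scheme.Pullback.exists_preimage_pullback (f := U.ι) (g := V.ι) _ _ heq
  let d := pullback.mapDesc U.ι V.ι f
  have hd1 : d ≫ p₁ = pullback.fst U.ι V.ι := (pullback.lift_fst _ _ _).trans (Category.comp_id _)
  have hd2 : d ≫ p₂ = pullback.snd U.ι V.ι := (pullback.lift_snd _ _ _).trans (Category.comp_id _)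
  have hdw : d w = η := p₁.isOpenEmbedding.injective (by
    rw [← hw1, ← hd1, Scheme.Hom.comp_apply])
  obtain ⟨v, hv⟩ : z ∈ Set.range d := hηz.mem_closed d.isClosedEmbedding.isClosed_range ⟨w, hdw⟩
  have h1 : pullback.fst U.ι V.ι v = ⟨x, hx⟩ := by
    rw [← hd1, Scheme.Hom.comp_apply, hv]; exact hz1
  have h2 : pullback.snd U.ι V.ι v = ⟨x', hx'⟩ := by
    rw [← hd2, Scheme.Hom.comp_apply, hv]; exact hz2
  calc x = U.ι (pullback.fst U.ι V.ι v) := by rw [h1]; rfl
    _ = V.ι (pullback.snd U.ι V.ι v) := by rw [← Scheme.Hom.comp_apply, pullback.condition, Scheme.Hom.comp_apply]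
    _ = x' := by rw [h2]; rfl

theorem isOpenImmersion_of_injective_of_local {X Y : Scheme.{u}} (f : X ⟶ Y)
    (hloc : ∀ x : X, ∃ U : X.Opens, x ∈ U ∧ IsOpenImmersion (U.ι ≫ f))
    (hinj : Function.Injective f.base) : IsOpenImmersion f := by
  have hopen : IsOpenMap f.base := by
    intro W hW
    refine isOpen_iff_forall_mem_open.2 ?_
    rintro _ ⟨x, hx, rfl⟩
    obtain ⟨U, hxU, _⟩ := hloc x
    refine ⟨(U.ι ≫ f) '' (U.ι ⁻¹' W), ?_, (U.ι ≫ f).isOpenEmbedding.isOpenMap _ (hW.preimage U.ι.continuous), ⟨⟨x, hxU⟩, hx, rfl⟩⟩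
    rintro _ ⟨a, ha, rfl⟩
    exact ⟨U.ι a, ha, rfl⟩
  have : ∀ x, IsIso (f.stalkMap x) := by
    intro x
    obtain ⟨U, hxU, _⟩ := hloc x
    have h1 : IsIso ((U.ι ≫ f).stalkMap ⟨x, hxU⟩) := inferInstance
    rw [Scheme.Hom.stalkMap_comp] at h1
    have h2 : IsIso (U.ι.stalkMap ⟨x, hxU⟩) := inferInstance
    exact @IsIso.of_isIso_comp_right _ _ _ _ _ _ (U.ι.stalkMap ⟨x, hxU⟩) h2 h1
  exact IsOpenImmersion.of_isIso_stalkMap f (.of_continuous_injective_isOpenMap f.continuous hinj hopen)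

end Groth.Agent.VarGal
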