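import Groth.Agent.CAlg6.FiniteClosure
import Groth.Agent.S6333
import Groth.Agent.WC97.Dim
import Mathlib.AlgebraicGeometry.Normalization
import Mathlib.AlgebraicGeometry.Morphisms.Finite
import Mathlib.RingTheory.Spectrum.Prime.Noetherian

/-! Finiteness of the normalisation in a reduced scheme, over a field. -/

universe u
open CategoryTheory AlgebraicGeometry TopologicalSpace
set_option backward.isDefEq.respectTransparency.types false

namespace Groth.Agent.VarGal

/-- Integral closure of a finite type algebra in a finitely generated field over `k`. -/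
theorem finite_integralClosure_field (k A L : Type u) [Field k] [CommRing A] [Algebra k A]
    [Algebra.FiniteType k A] [Field L] [Algebra k L] [Algebra A L] [IsScalarTower k A L]
    [Algebra.EssFiniteType k L] : Module.Finite A (integralClosure A L) := by
  let D := A ⧸ RingHom.ker (algebraMap A L)
  have : (RingHom.ker (algebraMap A L)).IsPrime := RingHom.ker_isPrime _
  let : Algebra D L := (RingHom.kerLift (algebraMap A L)).toAlgebra
  have hD : Function.Injective (algebraMap D L) := RingHom.kerLift_injective _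
  have : IsScalarTower A D L := .of_algebraMap_eq fun _ => rfl
  have : IsScalarTower k D L := .of_algebraMap_eq fun x => IsScalarTower.algebraMap_apply k A L x
  have : FaithfulSMul D L := (faithfulSMul_iff_algebraMap_injective _ _).2 hD
  let K := FractionRing D
  let : Algebra K L := FractionRing.liftAlgebra D L
  have : IsScalarTower D K L := FractionRing.isScalarTower_liftAlgebra D L
  have : IsScalarTower k K L := .of_algebraMap_eq fun x => by
    rw [IsScalarTower.algebraMap_apply k D L, IsScalarTower.algebraMap_apply k D K,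
      ← IsScalarTower.algebraMap_apply D K L]
  have : Algebra.EssFiniteType K L := Algebra.EssFiniteType.of_comp k K L
  let F := algebraicClosure K L
  have : FiniteDimensional K F := S6333.result (IntermediateField.fg_top K L)
  have : Module.Finite D (integralClosure D F) := CAlg6.finite_integralClosure k D K F
  let ι : F →ₐ[D] L := (IntermediateField.val F).restrictScalars D
  let φ : integralClosure D F →ₐ[D] L := ι.comp (integralClosure D F).val
  have hle : ∀ x : L, IsIntegral A x → ∃ y : integralClosure D F, φ y = x := by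
    intro x hx
    have h1 : IsIntegral D x := hx.tower_top
    have h2 : x ∈ F := mem_algebraicClosure_iff'.2 h1.tower_top
    exact ⟨⟨⟨x, h2⟩, (isIntegral_algHom_iff ι (fun a b h => Subtype.ext h)).1 h1⟩, rfl⟩
  let M : Submodule D L := LinearMap.range φ.toLinearMap
  have : Module.Finite D M := Module.Finite.range _
  have : Module.Finite A D := Module.Finite.of_surjective (Ideal.Quotient.mkₐ A _).toLinearMap Ideal.Quotient.mk_surjective
  have : IsNoetherianRing A := Algebra.FiniteType.isNoetherianRing k A
  have : Module.Finite A M := Module.Finite.trans D M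
  have hsub : Subalgebra.toSubmodule (integralClosure A L) ≤ M.restrictScalars A := fun x hx => hle x hx
  have : IsNoetherian A (M.restrictScalars A) := isNoetherian_of_isNoetherianRing_of_finite A M
  exact Module.Finite.of_injective (Submodule.inclusion hsub) (Submodule.inclusion_injective hsub)

/-- Integral closure in an algebra embedded in finitely many finitely generated fields. -/
theorem finite_integralClosure_of_pi (k A : Type u) [Field k] [CommRing A] [Algebra k A]
    [Algebra.FiniteType k A] {B : Type u} [CommRing B] [Algebra A B] {ι : Type u} [Finite ι]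
    (L : ι → Type u) [∀ i, Field (L i)] (φ : ∀ i, B →+* L i)
    (hL : ∀ i, ((φ i).comp ((algebraMap A B).comp (algebraMap k A))).EssFiniteType)
    (hinj : ∀ b : B, (∀ i, φ i b = 0) → b = 0) : Module.Finite A (integralClosure A B) := by
  let _ : ∀ i, Algebra A (L i) := fun i => ((φ i).comp (algebraMap A B)).toAlgebra
  let _ : ∀ i, Algebra k (L i) := fun i => ((φ i).comp ((algebraMap A B).comp (algebraMap k A))).toAlgebra
  have : ∀ i, IsScalarTower k A (L i) := fun i => .of_algebraMap_eq fun _ => rfl
  have : ∀ i, Algebra.EssFiniteType k (L i) := fun i => hL i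
  have : ∀ i, Module.Finite A (integralClosure A (L i)) := fun i => finite_integralClosure_field k A (L i)
  let ψ : ∀ i, B →ₐ[A] L i := fun i => { φ i with commutes' := fun _ => rfl }
  let G : integralClosure A B →ₗ[A] ∀ i, integralClosure A (L i) :=
    LinearMap.pi fun i => ((ψ i).comp (integralClosure A B).val).toLinearMap.codRestrict
      (Subalgebra.toSubmodule (integralClosure A (L i))) fun x => x.2.map (ψ i)
  have : IsNoetherianRing A := Algebra.FiniteType.isNoetherianRing k A
  have : IsNoetherian A (∀ i, integralClosure A (L i)) := isNoetherian_of_isNoetherianRing_of_finite A _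
  refine Module.Finite.of_injective G fun x y h => Subtype.ext (sub_eq_zero.1 (hinj _ fun i => ?_))
  have := congrArg Subtype.val (congrFun h i)
  rw [map_sub, sub_eq_zero]
  exact this

theorem kSec_comp {k : Type u} [Field k] {X Y : Scheme.{u}} (f : Y ⟶ X) (qX : X ⟶ Spec (CommRingCat.of k))
    (qY : Y ⟶ Spec (CommRingCat.of k)) (hf : f ≫ qX = qY) {U : X.Opens} (hU : IsAffineOpen U) {V : Y.Opens}
    (hV : IsAffineOpen V) (hle : V ≤ f ⁻¹ᵁ U) :
    (f.appLE U V hle).hom.comp (WC97.kSec qX hU) = WC97.kSec qY hV := by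
  refine congrArg CommRingCat.Hom.hom
    (Spec.map_injective (?_ : Spec.map (Spec.preimage (hU.fromSpec ≫ qX) ≫ f.appLE U V hle) =
      Spec.map (Spec.preimage (hV.fromSpec ≫ qY))))
  rw [Spec.map_comp, Spec.map_preimage, Spec.map_preimage, ← Category.assoc,
    IsAffineOpen.SpecMap_appLE_fromSpec f hU hV hle, Category.assoc, hf]

set_option maxHeartbeats 1600000 in
theorem isFinite_fromNormalization {k : Type u} [Field k] {X Y : Scheme.{u}}
    (qX : X ⟶ Spec (CommRingCat.of k)) [LocallyOfFiniteType qX] (qY : Y ⟶ Spec (CommRingCat.of k))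
    [LocallyOfFiniteType qY] [IsReduced Y] (f : Y ⟶ X) (hf : f ≫ qX = qY) [QuasiCompact f] [QuasiSeparated f] :
    IsFinite f.fromNormalization := by
  refine ⟨fun U hU => ?_⟩
  let := (f.app U).hom.toAlgebra
  suffices Module.Finite Γ(X, U) (integralClosure Γ(X, U) Γ(Y, f ⁻¹ᵁ U)) by
    rw [f.fromNormalization_app hU]
    exact RingHom.Finite.comp (RingHom.Finite.of_surjective _
      (ConcreteCategory.bijective_of_isIso (f.normalizationObjIso hU).inv).2) (RingHom.finite_algebraMap.2 this)
  let : Algebra k Γ(X, U) := (WC97.kSec qX hU).toAlgebra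
  have : Algebra.FiniteType k Γ(X, U) := WC97.kSec_finiteType qX hU
  have hc : IsCompact ((f ⁻¹ᵁ U : Y.Opens) : Set Y) := f.isCompact_preimage hU.isCompact
  obtain ⟨F, hF⟩ := hc.elim_finite_subcover
    (fun V : {V : Y.affineOpens // V.1 ≤ f ⁻¹ᵁ U} => (V.1.1 : Set Y)) (fun V => V.1.1.2) (fun y hy => by
      obtain ⟨V, hV, hyV, hVle⟩ := exists_isAffineOpen_mem_and_subset (U := f ⁻¹ᵁ U) hy
      exact Set.mem_iUnion.2 ⟨⟨⟨V, hV⟩, hVle⟩, hyV⟩)
  let ι := Σ V : F, {p : Ideal Γ(Y, V.1.1.1) // p ∈ minimalPrimes Γ(Y, V.1.1.1)}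
  have hk : ∀ V : {V : Y.affineOpens // V.1 ≤ f ⁻¹ᵁ U},
      @Algebra.FiniteType k Γ(Y, V.1.1) _ _ (WC97.kSec qY V.1.2).toAlgebra := fun V => WC97.kSec_finiteType qY V.1.2
  have hN : ∀ V : {V : Y.affineOpens // V.1 ≤ f ⁻¹ᵁ U}, IsNoetherianRing Γ(Y, V.1.1) := fun V => by
    let := (WC97.kSec qY V.1.2).toAlgebra
    have := hk V
    exact Algebra.FiniteType.isNoetherianRing k _
  have : ∀ V : F, Finite {p : Ideal Γ(Y, V.1.1.1) // p ∈ minimalPrimes Γ(Y, V.1.1.1)} := fun V =>
    have := hN V.1
    (minimalPrimes.finite_of_isNoetherianRing _).to_subtype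
  have : ∀ i : ι, i.2.1.IsPrime := fun i => i.2.2.1.1
  refine finite_integralClosure_of_pi k Γ(X, U) (ι := ι) (fun i => i.2.1.ResidueField)
    (fun i => (algebraMap Γ(Y, i.1.1.1.1) i.2.1.ResidueField).comp
      (Y.presheaf.map (homOfLE i.1.1.2).op).hom) (fun i => ?_) (fun b hb => ?_)
  · let := (WC97.kSec qY i.1.1.1.2).toAlgebra
    have := hk i.1.1
    have e : ((algebraMap Γ(Y, i.1.1.1.1) i.2.1.ResidueField).comp (Y.presheaf.map (homOfLE i.1.1.2).op).hom).comp
        ((algebraMap Γ(X, U) Γ(Y, f ⁻¹ᵁ U)).comp (algebraMap k Γ(X, U))) = algebraMap k i.2.1.ResidueField := by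
      rw [RingHom.comp_assoc, IsScalarTower.algebraMap_eq k Γ(Y, i.1.1.1.1) i.2.1.ResidueField]
      congr 1
      exact (RingHom.comp_assoc _ _ _).symm.trans (kSec_comp f qX qY hf hU i.1.1.1.2 i.1.1.2)
    rw [e, RingHom.essFiniteType_algebraMap]
    exact .comp k Γ(Y, i.1.1.1.1) _
  · refine Y.sheaf.eq_of_locally_eq' (fun V : F => V.1.1.1) (f ⁻¹ᵁ U) (fun V => homOfLE V.1.2) ?_ _ _ fun V => ?_
    · intro y hy
      obtain ⟨V, hV, hyV⟩ := Set.mem_iUnion₂.1 (hF hy)
      exact Opens.mem_iSup.2 ⟨⟨V, hV⟩, hyV⟩
    · show Y.presheaf.map (homOfLE V.1.2).op b = Y.presheaf.map (homOfLE V.1.2).op 0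
      rw [map_zero]
      have : _root_.IsReduced Γ(Y, V.1.1.1) := inferInstance
      refine IsNilpotent.eq_zero ?_
      rw [← mem_nilradical, nilradical, ← Ideal.sInf_minimalPrimes]
      refine Submodule.mem_sInf.2 fun p hp => ?_
      have := hp.1.1
      exact Ideal.algebraMap_residueField_eq_zero.1 (hb ⟨V, p, hp⟩)

end Groth.Agent.VarGal
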