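import Groth.Agent.VarGal.Generic
import Groth.Agent.FlatMor68.GenStalk
import Groth.Prelude.Def_Curv2
import Mathlib.RingTheory.Ideal.KrullsHeightTheorem
import Mathlib.AlgebraicGeometry.Morphisms.Flat
import Mathlib.RingTheory.Ideal.GoingDown

/-! The maximal ideal under a base field extension. -/

universe u
open CategoryTheory CategoryTheory.Limits AlgebraicGeometry TensorProduct IsLocalRing
attribute [local instance] Curv2.resAlgebra
set_option backward.isDefEq.respectTransparency.types false

namespace Groth.Agent.VarGal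

theorem isReduced_fiber_bc {k : Type u} [Field k] {X : Scheme.{u}} [X.Over (Spec (CommRingCat.of k))]
    (K : Type u) [Field K] [Algebra k K] (x : X) [_root_.IsReduced (X.residueField x ⊗[k] K)] :
    IsReduced ((Curv2.bcFst k X K).fiber x) := by
  let q := X ↘ Spec (CommRingCat.of k)
  let g := Spec.map (CommRingCat.ofHom (algebraMap k K))
  have hs : X.fromSpecResidueField x ≫ q =
      Spec.map (CommRingCat.ofHom (algebraMap k (X.residueField x))) := (SpecMap_resMap x).symm
  let e : (pullback (pullback.fst q g) (X.fromSpecResidueField x)) ≅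
      Spec (CommRingCat.of (X.residueField x ⊗[k] K)) :=
    pullbackSymmetry _ _ ≪≫ pullbackRightPullbackFstIso q g (X.fromSpecResidueField x) ≪≫
      pullback.congrHom hs rfl ≪≫ pullbackSpecIso k (X.residueField x) K
  exact isReduced_of_isOpenImmersion e.hom

theorem map_maximalIdeal_of_dim_eq {k : Type u} [Field k] {X : Scheme.{u}} [X.Over (Spec (CommRingCat.of k))]
    [LocallyOfFiniteType (X ↘ Spec (CommRingCat.of k))] (K : Type u) [Field K] [Algebra k K] (y : ↥(Curv2.bc k X K))
    (hdim : ringKrullDim ↥(X.presheaf.stalk (Curv2.bcFst k X K y)) = ringKrullDim ↥((Curv2.bc k X K).presheaf.stalk y))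
    (hredk : _root_.IsReduced (X.residueField (Curv2.bcFst k X K y) ⊗[k] K)) :
    Ideal.map ((Curv2.bcFst k X K).stalkMap y).hom (maximalIdeal ↥(X.presheaf.stalk (Curv2.bcFst k X K y))) =
      maximalIdeal ↥((Curv2.bc k X K).presheaf.stalk y) := by
  have hfl : Flat (Curv2.bcFst k X K) := MorphismProperty.pullback_fst _ _ inferInstance
  have : LocallyOfFiniteType (Curv2.bcSnd k X K) := MorphismProperty.pullback_snd _ _ inferInstance
  have : IsLocallyNoetherian (Curv2.bc k X K) := LocallyOfFiniteType.isLocallyNoetherian (Curv2.bcSnd k X K)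
  have : IsLocallyNoetherian X := LocallyOfFiniteType.isLocallyNoetherian (X ↘ Spec (CommRingCat.of k))
  have := @isReduced_fiber_bc k _ X _ K _ _ (Curv2.bcFst k X K y) hredk
  have hred := FlatMor68.GenStalk.isReduced_stalk_quot_of_fiber (Curv2.bcFst k X K) _ y rfl
  algebraize [((Curv2.bcFst k X K).stalkMap y).hom]
  let Ox := X.presheaf.stalk (Curv2.bcFst k X K y)
  let Oy := (Curv2.bc k X K).presheaf.stalk y
  have : Module.Flat Ox Oy := Flat.stalkMap (Curv2.bcFst k X K) y
  let p := maximalIdeal Ox
  let P := maximalIdeal Oy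
  have : IsLocalHom (algebraMap Ox Oy) :=
    inferInstanceAs (IsLocalHom ((Curv2.bcFst k X K).stalkMap y).hom)
  have : P.LiesOver p := ⟨(IsLocalRing.maximalIdeal_comap (algebraMap Ox Oy)).symm⟩
  have h := Ideal.height_eq_height_add_of_liesOver_of_hasGoingDown p P
  have hd : p.height = P.height := WithBot.coe_inj.1 (by
    rw [maximalIdeal_height_eq_ringKrullDim, maximalIdeal_height_eq_ringKrullDim]; exact hdim)
  let π := Ideal.Quotient.mk (p.map (algebraMap Ox Oy))
  have h0 : (P.map π).height = 0 := by
    refine ENat.add_right_injective_of_ne_top (Ideal.height_ne_top (Ideal.IsPrime.ne_top inferInstance) : p.height ≠ ⊤) ?_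
    show p.height + (P.map π).height = p.height + 0
    rw [← h, add_zero, hd]
  have hle : p.map (algebraMap Ox Oy) ≤ P := Ideal.map_le_iff_le_comap.2 (Ideal.LiesOver.over (P := P) (p := p)).le
  have hprime : (P.map π).IsPrime :=
    Ideal.map_isPrime_of_surjective Ideal.Quotient.mk_surjective (by rwa [Ideal.mk_ker])
  have hmin := Ideal.height_eq_zero_iff.1 h0
  refine le_antisymm hle fun a ha => Ideal.Quotient.eq_zero_iff_mem.1 ?_
  refine IsNilpotent.eq_zero (?_ : IsNilpotent (π a))
  rw [← mem_nilradical, nilradical_eq_sInf, Ideal.mem_sInf]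
  intro Q hQ
  have hQ' : Q.IsPrime := hQ
  have hQle : Q.comap π ≤ P := IsLocalRing.le_maximalIdeal (Ideal.IsPrime.ne_top inferInstance)
  have h5 : Q ≤ P.map π := by
    rw [← Ideal.map_comap_of_surjective π Ideal.Quotient.mk_surjective Q]
    exact Ideal.map_mono hQle
  exact hmin.2 ⟨hQ', bot_le⟩ h5 (Ideal.mem_map_of_mem π ha)

end Groth.Agent.VarGal
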