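import Groth.Agent.VarGal.Components
import Mathlib.FieldTheory.Normal.Closure
import Mathlib.FieldTheory.IntermediateField.Algebraic

universe u

/-! Connectedness and irreducibility of `X_K` from finite levels. -/

set_option backward.isDefEq.respectTransparency.types false

namespace Groth.Agent.VarGal

open CategoryTheory CategoryTheory.Limits AlgebraicGeometry

variable {k : Type u} [Field k] {X : Scheme.{u}} [X.Over (Spec (CommRingCat.of k))]
  {K : Type u} [Field K] [Algebra k K]

theorem isClosedMap_toInter [Algebra.IsAlgebraic k K] (E : IntermediateField k K) :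
    IsClosedMap (toInter X E).base := by
  have h0 : IsIntegralHom (Spec.map (CommRingCat.ofHom (algebraMap k K))) :=
    IsIntegralHom.SpecMap_iff.mpr (fun x => (Algebra.IsAlgebraic.isAlgebraic x).isIntegral)
  have : IsIntegralHom (Curv2.bcFst k X K) :=
    MorphismProperty.of_isPullback (IsPullback.of_hasPullback _ _).flip h0
  have : IsIntegralHom (toInter X E ≫ Curv2.bcFst k X E) := by rw [toInter_fst]; infer_instance
  have : IsIntegralHom (toInter X E) := MorphismProperty.of_postcomp (W := @IsIntegralHom) (W' := @IsSeparated)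
    (toInter X E) (Curv2.bcFst k X E) inferInstance this
  exact Scheme.Hom.isClosedMap _

theorem fst_toInter (E : IntermediateField k K) (z : Curv2.bc k X K) :
    (Curv2.bcFst k X E).base ((toInter X E).base z) = (Curv2.bcFst k X K).base z :=
  congrArg (fun m : Curv2.bc k X K ⟶ X => m.base z) (toInter_fst X E)

theorem galAct_apply (σ τ : K ≃ₐ[k] K) (z : Curv2.bc k X K) :
    (Curv2.galAct k X K τ).base ((Curv2.galAct k X K σ).base z) = (Curv2.galAct k X K (τ.trans σ)).base z :=
  congrArg (fun m : Curv2.bc k X K ⟶ Curv2.bc k X K => m.base z) (galAct_trans σ τ)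

theorem toInter_galAct {E : IntermediateField k K} {σ : K ≃ₐ[k] K} (hσ : ∀ a ∈ E, σ a = a)
    (z : Curv2.bc k X K) : (toInter X E).base ((Curv2.galAct k X K σ).base z) = (toInter X E).base z :=
  congrArg (fun m : Curv2.bc k X K ⟶ Curv2.bc k X E => m.base z) (galAct_toInter X E hσ)

/-- Connectedness at every finite normal level gives connectedness. -/
theorem connectedSpace_of_finite_levels [Normal k K]
    (h : ∀ E : IntermediateField k K, FiniteDimensional k E → ConnectedSpace ↥(Curv2.bc k X E)) :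
    ConnectedSpace ↥(Curv2.bc k X K) := by
  classical
  have := h ⊥ inferInstance
  have hX : ConnectedSpace ↥X :=
    (surjective_fst (k := k) (X := X) (K := ↥(⊥ : IntermediateField k K))).connectedSpace
      (Curv2.bcFst k X (⊥ : IntermediateField k K)).continuous
  obtain ⟨t₀, -⟩ := surjective_fst (k := k) (X := X) (K := K) (Classical.arbitrary X)
  let T := connectedComponent t₀
  rw [connectedSpace_iff_univ]
  suffices T = Set.univ by rw [← this]; exact isConnected_connectedComponent
  by_contra hne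
  obtain ⟨y, hy⟩ := (Set.ne_univ_iff_exists_notMem _).1 hne
  obtain ⟨O, hO, hyO, hOT, S, hS⟩ := exists_stab_nhd isClosed_connectedComponent.isOpen_compl hy
  let E₀ : IntermediateField k K := IntermediateField.adjoin k (S : Set K)
  have : FiniteDimensional k E₀ :=
    IntermediateField.finiteDimensional_adjoin fun a _ => Algebra.IsIntegral.isIntegral a
  let E := IntermediateField.normalClosure k E₀ K
  have hE : E₀ ≤ E := fun a ha => (AlgHom.fieldRange_le_normalClosure E₀.val) ⟨⟨a, ha⟩, rfl⟩
  have := h E inferInstance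
  let q := (toInter X E).base
  have hpiT : ∀ x : X, ∃ t ∈ T, (Curv2.bcFst k X K).base t = x := fun x => by
    have := image_connectedComponent t₀
    rw [PreconnectedSpace.connectedComponent_eq_univ ((Curv2.bcFst k X K).base t₀)] at this
    exact this.ge (Set.mem_univ x)
  let Y : (K ≃ₐ[k] K) → Set (Curv2.bc k X E) := fun σ => q '' ((Curv2.galAct k X K σ).base '' T)
  have hYc : ∀ σ, IsClosed (Y σ) := fun σ => by
    refine isClosedMap_toInter E _ ?_
    rw [galAct_image_connectedComponent]; exact isClosed_connectedComponent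
  have hy' : q y ∉ q '' T := by
    rintro ⟨t, ht, htq⟩
    obtain ⟨σ, hσ, hσt⟩ := exists_galAct_apply_eq_fixing X E htq
    have hfix : ∀ a ∈ S, σ a = a := fun a ha => hσ a (hE (IntermediateField.subset_adjoin k _ ha))
    obtain ⟨o, ho, hoe⟩ := (hS σ hfix).ge hyO
    have : o = t := (Curv2.galAct k X K σ).homeomorph.injective (hoe.trans hσt.symm)
    exact hOT ho (this ▸ ht)
  have hdet : ∀ σ τ : K ≃ₐ[k] K, (∀ a ∈ E, σ a = τ a) → Y σ = Y τ := by
    have key : ∀ σ τ : K ≃ₐ[k] K, (∀ a ∈ E, σ a = τ a) → Y σ ⊆ Y τ := by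
      rintro σ τ hστ _ ⟨_, ⟨t, ht, rfl⟩, rfl⟩
      refine ⟨_, ⟨t, ht, rfl⟩, ?_⟩
      have hm : ∀ a ∈ E, τ.symm a ∈ E := fun a ha => by
        have h1 := (τ.symm : K →ₐ[k] K).restrictNormal_commutes (E := E) ⟨a, ha⟩
        rw [show τ.symm a = (τ.symm : K →ₐ[k] K) (algebraMap E K ⟨a, ha⟩) from rfl, ← h1]
        exact ((τ.symm : K →ₐ[k] K).restrictNormal E ⟨a, ha⟩).2
      let ρ : K ≃ₐ[k] K := τ.symm.trans σ
      have hρ : ∀ a ∈ E, ρ a = a := fun a ha => by
        show σ (τ.symm a) = a
        rw [hστ _ (hm a ha), AlgEquiv.apply_symm_apply]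
      have h2 : (Curv2.galAct k X K σ).base t =
          (Curv2.galAct k X K τ).base ((Curv2.galAct k X K ρ).base t) := by
        rw [galAct_apply]
        have : τ.trans ρ = σ := AlgEquiv.ext fun a => by simp [ρ]
        rw [this]
      rw [h2]
      have hρ' : ∀ z, q ((Curv2.galAct k X K τ).base ((Curv2.galAct k X K ρ).base z)) =
          q ((Curv2.galAct k X K τ).base z) := fun z => by
        let ρ' : K ≃ₐ[k] K := (τ.trans ρ).trans τ.symm
        have hρ' : ∀ a ∈ E, ρ' a = a := fun a ha => by
          show τ.symm (ρ (τ a)) = a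
          have : τ a ∈ E := by
            have h1 := (τ : K →ₐ[k] K).restrictNormal_commutes (E := E) ⟨a, ha⟩
            rw [show τ a = (τ : K →ₐ[k] K) (algebraMap E K ⟨a, ha⟩) from rfl, ← h1]
            exact ((τ : K →ₐ[k] K).restrictNormal E ⟨a, ha⟩).2
          rw [hρ _ this, AlgEquiv.symm_apply_apply]
        rw [galAct_apply, ← toInter_galAct hρ' ((Curv2.galAct k X K τ).base z), galAct_apply]
        have : ρ'.trans τ = τ.trans ρ := AlgEquiv.ext fun a => by simp [ρ']
        rw [this]
      exact (hρ' t).symm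
    exact fun σ τ hστ => (key σ τ hστ).antisymm (key τ σ fun a ha => (hστ a ha).symm)
  have hdisj : ∀ σ, (Y σ ∩ q '' T).Nonempty → Y σ ⊆ q '' T := by
    rintro σ ⟨_, ⟨_, ⟨t, ht, rfl⟩, rfl⟩, ⟨t', ht', htq⟩⟩
    obtain ⟨τ, hτ, hτt⟩ := exists_galAct_apply_eq_fixing X E htq
    rintro _ ⟨_, ⟨s, hs, rfl⟩, rfl⟩
    have h1 : (Curv2.galAct k X K σ).base s ∈ (Curv2.galAct k X K τ).base '' T := by
      rw [galAct_image_connectedComponent τ t₀, connectedComponent_eq
        ((galAct_image_connectedComponent τ t₀).le ⟨t', ht', hτt⟩),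
        ← connectedComponent_eq ((galAct_image_connectedComponent σ t₀).le ⟨t, ht, rfl⟩),
        ← galAct_image_connectedComponent σ t₀]
      exact ⟨s, hs, rfl⟩
    obtain ⟨s', hs', hse⟩ := h1
    exact ⟨s', hs', by rw [← hse]; exact (toInter_galAct hτ s').symm⟩
  have : Finite (Set.range Y) := by
    let ι : (E →ₐ[k] K) → Set (Curv2.bc k X E) := fun f =>
      if h : ∃ σ : K ≃ₐ[k] K, ∀ a : E, σ a = f a then Y h.choose else ∅
    refine Set.Finite.to_subtype ((Set.finite_range ι).subset ?_)
    rintro _ ⟨σ, rfl⟩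
    refine ⟨(σ : K →ₐ[k] K).comp E.val, ?_⟩
    have h : ∃ τ : K ≃ₐ[k] K, ∀ a : E, τ a = ((σ : K →ₐ[k] K).comp E.val) a := ⟨σ, fun _ => rfl⟩
    simp only [ι, dif_pos h]
    exact hdet _ _ fun a ha => h.choose_spec ⟨a, ha⟩
  let others : Set (Set (Curv2.bc k X E)) := {Z | Z ∈ Set.range Y ∧ ¬ (Z ∩ q '' T).Nonempty}
  have hothers : others.Finite := (Set.toFinite (Set.range Y)).subset fun Z hZ => hZ.1
  have hcompl : (q '' T)ᶜ = ⋃₀ others := by
    ext w
    constructor
    · intro hw
      obtain ⟨z, rfl⟩ := (surjective_toInter X E).surj w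
      obtain ⟨t, ht, htz⟩ := hpiT ((Curv2.bcFst k X K).base z)
      obtain ⟨σ, hσ⟩ := exists_galAct_apply_eq htz
      refine ⟨Y σ, ⟨⟨σ, rfl⟩, fun hmeet => hw (hdisj σ hmeet ?_)⟩, ?_⟩ <;>
        exact ⟨_, ⟨t, ht, rfl⟩, congrArg q hσ⟩
    · rintro ⟨Z, ⟨-, hZ⟩, hwZ⟩ hw
      exact hZ ⟨w, hwZ, hw⟩
  have hclopen : IsClopen (q '' T) := by
    refine ⟨isClosedMap_toInter E _ isClosed_connectedComponent, ?_⟩
    rw [← isClosed_compl_iff, hcompl, Set.sUnion_eq_biUnion]
    exact hothers.isClosed_biUnion fun Z hZ => by obtain ⟨σ, rfl⟩ := hZ.1; exact hYc σ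
  exact hy' ((hclopen.eq_univ (Set.Nonempty.image q ⟨t₀, mem_connectedComponent⟩)).ge (Set.mem_univ _))

/-- Irreducibility at every finite level gives irreducibility. -/
theorem irreducibleSpace_of_finite_levels [Normal k K]
    (h : ∀ E : IntermediateField k K, FiniteDimensional k E → IrreducibleSpace ↥(Curv2.bc k X E)) :
    IrreducibleSpace ↥(Curv2.bc k X K) := by
  classical
  have := h ⊥ inferInstance
  have hne : Nonempty ↥(Curv2.bc k X K) :=
    ⟨(surjective_fst (k := k) (X := X) (K := K)
      ((Curv2.bcFst k X (⊥ : IntermediateField k K)).base (Classical.arbitrary _))).choose⟩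
  obtain ⟨y₀, -, hy₀⟩ := exists_maximal_generization (Curv2.bc k X K) (Classical.arbitrary _)
  have key : ∀ y : Curv2.bc k X K, (∀ v, v ⤳ y → v = y) → y = y₀ := by
    intro y hy
    by_contra hne
    have hns : ¬ y₀ ⤳ y := fun hs => hne (hy y₀ hs).symm
    obtain ⟨O, hO, hyO, hO0, S, hS⟩ :=
      exists_stab_nhd (V := (closure {y₀})ᶜ) isClosed_closure.isOpen_compl
        (fun hmem => hns (specializes_iff_mem_closure.2 hmem))
    let E : IntermediateField k K := IntermediateField.adjoin k (S : Set K)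
    have : FiniteDimensional k E :=
      IntermediateField.finiteDimensional_adjoin fun a _ => Algebra.IsIntegral.isIntegral a
    have := h E inferInstance
    have hmax : ∀ z : Curv2.bc k X K, (∀ v, v ⤳ z → v = z) →
        (toInter X E).base z = genericPoint (Curv2.bc k X E) := fun z hz => by
      have : Algebra.IsAlgebraic k E := Algebra.IsAlgebraic.of_finite k E
      have hm : ∀ w : X, w ⤳ (Curv2.bcFst k X E).base ((toInter X E).base z) →
          w = (Curv2.bcFst k X E).base ((toInter X E).base z) := by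
        rw [fst_toInter]
        exact FBase64.eq_of_specializes_of_maximal_bc (X ↘ Spec (CommRingCat.of k)) hz
      have hgen : genericPoint (Curv2.bc k X E) ⤳ (toInter X E).base z := genericPoint_specializes _
      exact ((FBase64.maximal_bc_iff (X ↘ Spec (CommRingCat.of k)) _).2 hm _ hgen).symm
    obtain ⟨σ, hσ, hσy⟩ := exists_galAct_apply_eq_fixing X E ((hmax y₀ hy₀).trans (hmax y hy).symm)
    have hfix : ∀ a ∈ S, σ a = a := fun a ha => hσ a (IntermediateField.subset_adjoin k _ ha)
    obtain ⟨o, ho, hoe⟩ := (hS σ hfix).ge hyO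
    have : o = y₀ := (Curv2.galAct k X K σ).homeomorph.injective (hoe.trans hσy.symm)
    exact hO0 ho (this ▸ subset_closure rfl)
  rw [irreducibleSpace_def]
  have : (Set.univ : Set ↥(Curv2.bc k X K)) = closure {y₀} := by
    refine (Set.eq_univ_of_forall fun z => ?_).symm
    obtain ⟨z', hz', hmax⟩ := exists_maximal_generization _ z
    exact key z' hmax ▸ specializes_iff_mem_closure.1 hz'
  change IsIrreducible (Set.univ : Set ↥(Curv2.bc k X K))
  rw [this]; exact isIrreducible_singleton.closure

end Groth.Agent.VarGal
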