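import Groth.Agent.E4O.FibreDim
import Groth.Agent.E4O.DimFormula
import Groth.Agent.FBase64.Chart
import Groth.Agent.VarGal.LocalImm

/-! The dimension inequality for fibres over a point with Noetherian local ring. -/

universe u
open CategoryTheory AlgebraicGeometry
set_option backward.isDefEq.respectTransparency.types false

namespace Groth.Agent.VarGal

theorem trdeg_eq_of_birational_square {D R E S : Type u} [CommRing D] [IsDomain D] [CommRing R] [IsDomain R]
    [CommRing E] [IsDomain E] [CommRing S] [IsDomain S] [Algebra D R] [Algebra D E] [Algebra R S]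
    (φ : E →+* S) (hφ : Function.Injective φ)
    (hDR : Function.Injective (algebraMap D R)) (hDE : Function.Injective (algebraMap D E))
    (hRS : Function.Injective (algebraMap R S))
    (hcomm : ∀ d, φ (algebraMap D E d) = algebraMap R S (algebraMap D R d))
    (hgR : ∀ x : R, ∃ e e' : D, e ≠ 0 ∧ algebraMap D R e * x = algebraMap D R e')
    (hgS : ∀ x : S, ∃ e e' : E, e ≠ 0 ∧ φ e * x = φ e') :
    Algebra.trdeg R S = Algebra.trdeg D E := by
  let _ : Algebra E S := φ.toAlgebra
  let _ : Algebra D S := ((algebraMap R S).comp (algebraMap D R)).toAlgebra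
  have h1 : IsScalarTower D R S := IsScalarTower.of_algebraMap_eq fun x => rfl
  have h2 : IsScalarTower D E S := IsScalarTower.of_algebraMap_eq fun x => (hcomm x).symm
  have : FaithfulSMul D E := (faithfulSMul_iff_algebraMap_injective _ _).2 hDE
  have : FaithfulSMul E S := (faithfulSMul_iff_algebraMap_injective _ _).2 hφ
  have : FaithfulSMul R S := (faithfulSMul_iff_algebraMap_injective _ _).2 hRS
  have : FaithfulSMul D R := (faithfulSMul_iff_algebraMap_injective _ _).2 hDR
  have : Algebra.IsAlgebraic D R := by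
    refine ⟨fun x => ?_⟩
    obtain ⟨e, e', he, hx⟩ := hgR x
    refine ⟨Polynomial.C e * Polynomial.X - Polynomial.C e', ?_, ?_⟩
    · intro h
      have := congrArg (fun t => Polynomial.coeff t 1) h
      simp [he] at this
    · simp only [map_sub, map_mul, Polynomial.aeval_C, Polynomial.aeval_X]
      exact sub_eq_zero.2 hx
  have : Algebra.IsAlgebraic E S := by
    refine ⟨fun x => ?_⟩
    obtain ⟨e, e', he, hx⟩ := hgS x
    refine ⟨Polynomial.C e * Polynomial.X - Polynomial.C e', ?_, ?_⟩
    · intro h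
      have := congrArg (fun t => Polynomial.coeff t 1) h
      simp [he] at this
    · simp only [map_sub, map_mul, Polynomial.aeval_C, Polynomial.aeval_X]
      exact sub_eq_zero.2 hx
  have e1 := trdeg_add_eq D E (A := S)
  have e2 := trdeg_add_eq D R (A := S)
  rw [trdeg_eq_zero (R := E) (A := S), add_zero] at e1
  rw [trdeg_eq_zero (R := D) (A := R), zero_add] at e2
  exact e2.trans e1.symm

/-- The dimension inequality over a prime with Noetherian local ring. -/
theorem one_add_trdeg_le {A B : Type u} [CommRing A] [CommRing B] [Algebra A B] [Algebra.FiniteType A B]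
    (p : Ideal A) [p.IsPrime] [IsNoetherianRing (Localization.AtPrime p)] (Q q : Ideal B) [Q.IsPrime]
    [q.IsPrime] [q.LiesOver p] (hQq : Q ≤ q) (hne : Q.under A ≠ p) :
    (1 : Cardinal.{u}) + Algebra.trdeg (A ⧸ p) (B ⧸ q) ≤
      (p.height : Cardinal.{u}) + Algebra.trdeg (A ⧸ Q.under A) (B ⧸ Q) := by
  let P := Q.under A
  have hPp : P ≤ p := (Ideal.comap_mono hQq).trans (Ideal.LiesOver.over (P := q) (p := p)).symm.le
  let D := A ⧸ P
  let E := B ⧸ Q
  have : Algebra.FiniteType A E :=
    Algebra.FiniteType.of_surjective (Ideal.Quotient.mkₐ A Q) Ideal.Quotient.mk_surjective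
  have : Algebra.FiniteType D E := .of_restrictScalars_finiteType A D E
  let p₁ : Ideal D := p.map (Ideal.Quotient.mk P)
  have hp₁ : p₁.IsPrime := Ideal.isPrime_map_quotientMk_of_isPrime hPp
  have hp₁c : p₁.comap (Ideal.Quotient.mk P) = p := by
    rw [Ideal.comap_map_quotientMk, sup_eq_right.2 hPp]
  let R := Localization.AtPrime p₁
  let M := Algebra.algebraMapSubmonoid E p₁.primeCompl
  let S := Localization M
  have hinjDE : Function.Injective (algebraMap D E) := by
    rw [injective_iff_map_eq_zero]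
    intro d hd
    obtain ⟨a, rfl⟩ := Ideal.Quotient.mk_surjective d
    exact Ideal.Quotient.eq_zero_iff_mem.2 (Ideal.Quotient.eq_zero_iff_mem.1 hd : algebraMap A B a ∈ Q)
  let q₁ : Ideal E := q.map (Ideal.Quotient.mk Q)
  have hq₁ : q₁.IsPrime := Ideal.isPrime_map_quotientMk_of_isPrime hQq
  have hq₁c : q₁.comap (Ideal.Quotient.mk Q) = q := by
    rw [Ideal.comap_map_quotientMk, sup_eq_right.2 hQq]
  have hqp : ∀ a : A, Ideal.Quotient.mk Q (algebraMap A B a) ∈ q₁ ↔ Ideal.Quotient.mk P a ∈ p₁ := fun a => by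
    rw [← Ideal.mem_comap, hq₁c, ← Ideal.mem_comap (K := p₁), hp₁c, Ideal.LiesOver.over (P := q) (p := p)]
    rfl
  have hdisj : Disjoint (M : Set E) (q₁ : Set E) := by
    rw [Set.disjoint_left]
    rintro _ ⟨d, hd, rfl⟩ hmem
    obtain ⟨a, rfl⟩ := Ideal.Quotient.mk_surjective d
    exact hd ((hqp a).1 hmem)
  have hM : M ≤ nonZeroDivisors E := le_nonZeroDivisors_of_noZeroDivisors fun h =>
    Set.disjoint_left.1 hdisj h q₁.zero_mem
  have : IsDomain S := IsLocalization.isDomain_localization hM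
  have hinjRS : Function.Injective (algebraMap R S) := by
    rw [injective_iff_map_eq_zero]
    intro r hr
    obtain ⟨d, s, rfl⟩ := IsLocalization.exists_mk'_eq p₁.primeCompl r
    have h1 : algebraMap R S (algebraMap D R d) = 0 := by
      rw [← IsLocalization.mk'_spec R d s, map_mul, hr, zero_mul]
    rw [← IsScalarTower.algebraMap_apply D R S, IsScalarTower.algebraMap_apply D E S,
      map_eq_zero_iff _ (IsLocalization.injective S hM)] at h1
    rw [hinjDE (h1.trans (map_zero _).symm), IsLocalization.mk'_zero]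
  have : FaithfulSMul R S := (faithfulSMul_iff_algebraMap_injective _ _).2 hinjRS
  have : Algebra.FiniteType R S :=
    have := Algebra.isPushout_of_isLocalization p₁.primeCompl R E S
    RingHom.finiteType_algebraMap.1
      (RingHom.finiteType_isStableUnderBaseChange D E R S (RingHom.finiteType_algebraMap.2 inferInstance))
  let m := IsLocalRing.maximalIdeal R
  let q₂ : Ideal S := q₁.map (algebraMap E S)
  have hq₂ : q₂.IsPrime := IsLocalization.isPrime_of_isPrime_disjoint M S _ hq₁ hdisj
  have hq₂c : q₂.comap (algebraMap E S) = q₁ := IsLocalization.under_map_of_isPrime_disjoint M S hq₁ hdisj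
  have hover : q₂.LiesOver m := ⟨by
    have h1 : (q₂.comap (algebraMap R S)).comap (algebraMap D R) = p₁ := by
      rw [Ideal.comap_comap, ← IsScalarTower.algebraMap_eq D R S, IsScalarTower.algebraMap_eq D E S,
        ← Ideal.comap_comap, hq₂c]
      ext d
      obtain ⟨a, rfl⟩ := Ideal.Quotient.mk_surjective d
      exact hqp a
    rw [Ideal.under_def, ← IsLocalization.map_under p₁.primeCompl R (q₂.comap (algebraMap R S)), Ideal.under, h1,
      Localization.AtPrime.map_eq_maximalIdeal]⟩
  have hsurj : Function.Surjective (Localization.localRingHom p p₁ (Ideal.Quotient.mk P) hp₁c.symm) := by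
    have key : ∀ (p' : Ideal A) [p'.IsPrime] (h' : p' = p₁.comap (Ideal.Quotient.mk P)),
        Function.Surjective (Localization.localRingHom p' p₁ (Ideal.Quotient.mk P) h') := by
      intro p' _ h'
      subst h'
      exact RingHom.surjective_localRingHom_of_surjective _ Ideal.Quotient.mk_surjective p₁
    exact key p hp₁c.symm
  have : IsNoetherianRing R := isNoetherianRing_of_surjective _ R _ hsurj
  have hmain := E4O.height_add_trdeg_le R S m q₂
  have hm : (m.height : WithBot ℕ∞) ≤ p.height := by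
    rw [IsLocalRing.maximalIdeal_height_eq_ringKrullDim,
      ← IsLocalization.AtPrime.ringKrullDim_eq_height p (Localization.AtPrime p)]
    exact ringKrullDim_le_of_surjective _ hsurj
  have hq₂1 : (1 : ℕ∞) ≤ q₂.height := by
    refine Order.one_le_iff_pos.2 (pos_iff_ne_zero.2 fun h0 => hne ?_)
    rw [Ideal.height_eq_zero_iff_eq_bot] at h0
    have h1 : q₁ = ⊥ := by
      rw [← hq₂c, h0, ← RingHom.ker_eq_comap_bot]
      exact (RingHom.injective_iff_ker_eq_bot _).1 (IsLocalization.injective S hM)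
    have h2 : q = Q := by rw [← hq₁c, h1, ← RingHom.ker_eq_comap_bot, Ideal.mk_ker]
    rw [Ideal.LiesOver.over (P := q) (p := p), h2]
  have hT : Algebra.trdeg R S = Algebra.trdeg D E := by
    refine trdeg_eq_of_birational_square (algebraMap E S) (IsLocalization.injective S hM)
      (IsLocalization.injective R p₁.primeCompl_le_nonZeroDivisors) hinjDE hinjRS
      (fun d => by rw [← IsScalarTower.algebraMap_apply, IsScalarTower.algebraMap_apply D R S]) (fun x => ?_) (fun x => ?_)
    · obtain ⟨d, s, rfl⟩ := IsLocalization.exists_mk'_eq p₁.primeCompl x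
      exact ⟨s, d, nonZeroDivisors.ne_zero (p₁.primeCompl_le_nonZeroDivisors s.2), IsLocalization.mk'_spec' R d s⟩
    · obtain ⟨d, s, rfl⟩ := IsLocalization.exists_mk'_eq M x
      exact ⟨s, d, nonZeroDivisors.ne_zero (hM s.2), IsLocalization.mk'_spec' S d s⟩
  have ht : Algebra.trdeg (R ⧸ m) (S ⧸ q₂) = Algebra.trdeg (A ⧸ p) (B ⧸ q) := by
    let α : A ⧸ p →+* R ⧸ m := Ideal.quotientMap m ((algebraMap D R).comp (Ideal.Quotient.mk P)) (by
      rw [← Ideal.comap_comap, ← Ideal.under_def, IsLocalization.AtPrime.under_maximalIdeal R p₁, hp₁c])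
    let β : B ⧸ q →+* S ⧸ q₂ := Ideal.quotientMap q₂ ((algebraMap E S).comp (Ideal.Quotient.mk Q)) (by
      rw [← Ideal.comap_comap, hq₂c, hq₁c])
    let _ : Algebra (A ⧸ p) (R ⧸ m) := RingHom.toAlgebra (R := A ⧸ p) (S := R ⧸ m) α
    refine trdeg_eq_of_birational_square β (Ideal.quotientMap_injective' (by
      rw [← Ideal.comap_comap, hq₂c, hq₁c])) (Ideal.quotientMap_injective' (by
      rw [← Ideal.comap_comap, ← Ideal.under_def, IsLocalization.AtPrime.under_maximalIdeal R p₁, hp₁c])) ?_ ?_ ?_ (fun x => ?_) (fun x => ?_)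
    · rw [injective_iff_map_eq_zero]
      intro d hd
      obtain ⟨a, rfl⟩ := Ideal.Quotient.mk_surjective d
      exact Ideal.Quotient.eq_zero_iff_mem.2 ((Ideal.LiesOver.over (P := q) (p := p)).symm.le
        (Ideal.Quotient.eq_zero_iff_mem.1 hd : algebraMap A B a ∈ q))
    · rw [injective_iff_map_eq_zero]
      intro d hd
      obtain ⟨r, rfl⟩ := Ideal.Quotient.mk_surjective d
      exact Ideal.Quotient.eq_zero_iff_mem.2 (hover.over.ge (Ideal.Quotient.eq_zero_iff_mem.1 hd : algebraMap R S r ∈ q₂))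
    · intro d
      obtain ⟨a, rfl⟩ := Ideal.Quotient.mk_surjective d
      show Ideal.Quotient.mk q₂ (algebraMap E S (Ideal.Quotient.mk Q (algebraMap A B a))) =
        Ideal.Quotient.mk q₂ (algebraMap R S (algebraMap D R (Ideal.Quotient.mk P a)))
      rw [← IsScalarTower.algebraMap_apply D R S, IsScalarTower.algebraMap_apply D E S]
      rfl
    · obtain ⟨r, rfl⟩ := Ideal.Quotient.mk_surjective x
      obtain ⟨d, s, rfl⟩ := IsLocalization.exists_mk'_eq p₁.primeCompl r
      obtain ⟨a, rfl⟩ := Ideal.Quotient.mk_surjective d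
      obtain ⟨b, hb⟩ := Ideal.Quotient.mk_surjective s.1
      refine ⟨Ideal.Quotient.mk p b, Ideal.Quotient.mk p a, fun h => s.2 ?_, ?_⟩
      · rw [← hb, SetLike.mem_coe, ← Ideal.mem_comap, hp₁c]; exact Ideal.Quotient.eq_zero_iff_mem.1 h
      · show Ideal.Quotient.mk m (algebraMap D R (Ideal.Quotient.mk P b)) * Ideal.Quotient.mk m _ =
          Ideal.Quotient.mk m (algebraMap D R (Ideal.Quotient.mk P a))
        rw [← map_mul, hb, IsLocalization.mk'_spec']
    · obtain ⟨r, rfl⟩ := Ideal.Quotient.mk_surjective x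
      obtain ⟨d, s, rfl⟩ := IsLocalization.exists_mk'_eq M r
      obtain ⟨a, rfl⟩ := Ideal.Quotient.mk_surjective d
      obtain ⟨b, hb⟩ := Ideal.Quotient.mk_surjective s.1
      refine ⟨Ideal.Quotient.mk q b, Ideal.Quotient.mk q a, fun h => Set.disjoint_left.1 hdisj s.2 ?_, ?_⟩
      · rw [← hb]; exact Ideal.mem_map_of_mem _ (Ideal.Quotient.eq_zero_iff_mem.1 h)
      · show Ideal.Quotient.mk q₂ (algebraMap E S (Ideal.Quotient.mk Q b)) * Ideal.Quotient.mk q₂ _ =
          Ideal.Quotient.mk q₂ (algebraMap E S (Ideal.Quotient.mk Q a))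
        rw [← map_mul, hb, IsLocalization.mk'_spec']
  rw [hT, ht] at hmain
  refine le_trans (add_le_add ?_ le_rfl) (hmain.trans (add_le_add ?_ le_rfl))
  · rw [← Cardinal.ofENat_one]; exact Cardinal.ofENat_le_ofENat.2 hq₂1
  · exact Cardinal.ofENat_le_ofENat.2 (WithBot.coe_le_coe.1 hm)

variable {X Y : Scheme.{u}} (f : X ⟶ Y) [LocallyOfFiniteType f]

theorem fibreDimAt_generic {η : X} (hη : ∀ z : X, z ⤳ η → z = η) :
    FlatMor.fibreDimAt f η = (E4O.fdeg f η : ℕ) :=
  E4O.fibreDimAt_eq_fdeg fun z hz _ => hη z hz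

/-- For `z` in the fibre of `y` and a generization `η` off the fibre. -/
theorem fdeg_add_one_le {η z : X} [IsNoetherianRing (Y.presheaf.stalk (f z))] (h : η ⤳ z) (hne : f η ≠ f z) :
    ((E4O.fdeg f z + 1 : ℕ) : WithBot ℕ∞) ≤
      (E4O.fdeg f η : WithBot ℕ∞) + ringKrullDim (Y.presheaf.stalk (f z)) := by
  obtain ⟨C, ⟨q, rfl⟩, -⟩ := E4O.exists_chart f z
  obtain ⟨Q, rfl⟩ := h.mem_open C.isOpen_range ⟨q, rfl⟩
  have hle : Q.asIdeal ≤ q.asIdeal :=
    (PrimeSpectrum.le_iff_specializes Q q).2 (C.isOpenEmbedding_pt.isInducing.specializes_iff.1 h)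
  let p := PrimeSpectrum.comap (algebraMap C.A C.B) q
  obtain ⟨e⟩ := FBase64.nonempty_stalkEquiv C.j p
  have he : f (C.pt q) = C.ptY p := C.apply q
  have hN : IsNoetherianRing (Localization.AtPrime p.asIdeal) := by
    have : IsNoetherianRing (Y.presheaf.stalk (C.j p)) := by
      show IsNoetherianRing (Y.presheaf.stalk (C.ptY p))
      rw [← he]; assumption
    exact isNoetherianRing_of_ringEquiv _ e
  have hd : ringKrullDim (Y.presheaf.stalk (f (C.pt q))) = p.asIdeal.height := by
    rw [he, ← IsLocalization.AtPrime.ringKrullDim_eq_height p.asIdeal (Localization.AtPrime p.asIdeal)]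
    exact ringKrullDim_eq_of_ringEquiv e
  have : q.asIdeal.LiesOver p.asIdeal := ⟨rfl⟩
  have hmain := one_add_trdeg_le p.asIdeal Q.asIdeal q.asIdeal hle fun hh => hne (by
    rw [C.apply, C.apply]; exact congrArg C.ptY (PrimeSpectrum.ext hh))
  have h1 : Algebra.trdeg (C.A ⧸ p.asIdeal) (C.B ⧸ q.asIdeal) = (E4O.fdeg f (C.pt q) : Cardinal.{u}) :=
    C.trdeg_eq_fdeg q
  rw [h1, C.trdeg_eq_fdeg Q, ← Cardinal.ofENat_one, ← Cardinal.ofENat_nat, ← Cardinal.ofENat_nat,
    ← Cardinal.ofENat_add, ← Cardinal.ofENat_add, Cardinal.ofENat_le_ofENat] at hmain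
  rw [hd, add_comm (E4O.fdeg f (C.pt q)), add_comm ((E4O.fdeg f (C.pt Q) : ℕ) : WithBot ℕ∞)]
  have h2 : (((1 + E4O.fdeg f (C.pt q) : ℕ) : ℕ∞) : WithBot ℕ∞) ≤
      (((p.asIdeal.height + (E4O.fdeg f (C.pt Q) : ℕ∞)) : ℕ∞) : WithBot ℕ∞) :=
    WithBot.coe_le_coe.2 (by push_cast; exact hmain)
  simpa using h2

/-- A point realising the fibre dimension at `x` and the generic point of a component through it. -/
theorem exists_fdeg_pair (x : X) {d : ℕ}
    (hd : ∀ η : X, η ⤳ x → (∀ w : X, w ⤳ η → w = η) → FlatMor.fibreDimAt f η = d) :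
    ∃ z η : X, η ⤳ z ∧ z ⤳ x ∧ f z = f x ∧ FlatMor.fibreDimAt f x = (E4O.fdeg f z : ℕ) ∧
      (∀ w : X, w ⤳ η → w = η) ∧ E4O.fdeg f η = d := by
  obtain ⟨z, hzx, hz, hdim, -, -⟩ := E4O.exists_fibreDimAt_eq (f := f) x
  obtain ⟨η, hηz, hη⟩ := exists_maximal_generization_top z
  refine ⟨z, η, hηz, hzx, hz, hdim, hη, ?_⟩
  have h := (fibreDimAt_generic f hη).symm.trans (hd η (hηz.trans hzx) hη)
  exact_mod_cast h

end Groth.Agent.VarGal
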