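import Groth.Agent.Var76.FibreBound
import Groth.Agent.E4O.BaseChangeDim
import Groth.Agent.Cyc90.TensorGen

/-! Local dimension of a product over a field. -/

universe u
open CategoryTheory CategoryTheory.Limits AlgebraicGeometry
set_option backward.isDefEq.respectTransparency.types false

namespace Groth.Agent.VarGal

variable {X Y S : Scheme.{u}} (f : X ⟶ S) (g : Y ⟶ S) [LocallyOfFiniteType f]

/-- A generization in the fibre of `snd`, over a prescribed generization in the fibre of `f`, with full `fdeg`. -/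
theorem exists_gen_fdeg_snd_eq (a : ↑(pullback f g)) {z : X} (hz : z ⤳ pullback.fst f g a)
    (hfz : f z = f (pullback.fst f g a)) :
    ∃ t : ↑(pullback f g), t ⤳ a ∧ pullback.fst f g t = z ∧ pullback.snd f g t = pullback.snd f g a ∧
      E4O.fdeg (pullback.snd f g) t = E4O.fdeg f z := by
  classical
  have hsq := IsPullback.of_hasPullback f g
  obtain ⟨m, hflat, -, -, hm⟩ := E4O.exists_fibre_map_flat hsq (pullback.snd f g a)
  have hfa : f (pullback.fst f g a) = g (pullback.snd f g a) := by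
    rw [← Scheme.Hom.comp_apply, pullback.condition, Scheme.Hom.comp_apply]
  obtain ⟨a', ha'⟩ := E4O.exists_fiberι_eq (pullback.snd f g) (x := a) rfl
  obtain ⟨z', hz'⟩ := E4O.exists_fiberι_eq f (hfz.trans hfa)
  have hsp : z' ⤳ m a' :=
    (E4O.specializes_fiberι_iff f _ _ _).1 (by rw [hz', hm a', ha']; exact hz)
  obtain ⟨w', hw', hwz⟩ := Flat.generalizingMap m (a := a') (b := z') hsp
  let P : ℕ → Prop := fun n => ∃ t : ↑(pullback f g), t ⤳ a ∧ pullback.fst f g t = z ∧
    pullback.snd f g t = pullback.snd f g a ∧ E4O.fdeg (pullback.snd f g) t = n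
  have hw : P (E4O.fdeg (pullback.snd f g) ((pullback.snd f g).fiberι _ w')) := by
    refine ⟨_, ?_, ?_, E4O.apply_fiberι _ _ _, rfl⟩
    · exact (hw'.map ((pullback.snd f g).fiberι _).continuous).trans (specializes_of_eq ha')
    · rw [← hm w', hwz, hz']
  have hb : ∀ n, P n → n ≤ E4O.fdeg f z := by
    rintro n ⟨t, -, h2, -, rfl⟩
    exact h2 ▸ E4O.fdeg_le_of_isPullback hsq t
  have hne : ∃ n, n ≤ E4O.fdeg f z ∧ P n := ⟨_, hb _ hw, hw⟩
  obtain ⟨n, hn, hPn⟩ := hne
  obtain ⟨t, h1, h2, h3, h4⟩ := Nat.findGreatest_spec (P := P) hn hPn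
  refine ⟨t, h1, h2, h3, (Cyc90.fdeg_snd_eq t fun w e1 e2 e3 => ?_).trans (by rw [h2])⟩
  by_contra hwt
  have hlt := E4O.fdeg_lt (f := pullback.snd f g) e3 e2 hwt
  have hPw : P (E4O.fdeg (pullback.snd f g) w) := ⟨w, e3.trans h1, e1.trans h2, e2.trans h3, rfl⟩
  have := Nat.le_findGreatest (hb _ hPw) hPw
  omega

variable {k : Type u} [Field k]

theorem exists_max_tdegN {X : Scheme.{u}} (q : X ⟶ Spec (CommRingCat.of k)) [LocallyOfFiniteType q] (x : X) :
    ∃ z : X, z ⤳ x ∧ FlatMor.localDim X x = (WC97.tdegN q z : ℕ) ∧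
      ∀ z', z' ⤳ x → WC97.tdegN q z' ≤ WC97.tdegN q z := by
  have hpt : ∀ a b : X, q a = q b := fun a b => Subsingleton.elim (α := PrimeSpectrum k) _ _
  obtain ⟨z, hz, -, hd, hmax, -⟩ := E4O.exists_fibreDimAt_eq q x
  refine ⟨z, hz, ?_, fun z' hz' => ?_⟩
  · have hu : q ⁻¹' {q x} = Set.univ := Set.eq_univ_of_forall fun y => hpt y x
    rw [← Var76.FibreBound.fdeg_str_eq q, ← hd, E4O.fibreDimAt_eq_localDim]
    exact (E4O.localDim_eq_of_homeomorph ((Homeomorph.setCongr hu).trans (Homeomorph.Set.univ X)) ⟨x, rfl⟩).symm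
  · rw [← Var76.FibreBound.fdeg_str_eq q, ← Var76.FibreBound.fdeg_str_eq q]
    exact hmax z' hz' (hpt _ _)

theorem localDim_pullback_eq_add {X Y : Scheme.{u}} (qX : X ⟶ Spec (CommRingCat.of k))
    (qY : Y ⟶ Spec (CommRingCat.of k)) [LocallyOfFiniteType qX] [LocallyOfFiniteType qY]
    (z : ↑(pullback qX qY)) :
    FlatMor.localDim ↑(pullback qX qY) z =
      FlatMor.localDim X (pullback.fst qX qY z) + FlatMor.localDim Y (pullback.snd qX qY z) := by
  let qP := pullback.snd qX qY ≫ qY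
  obtain ⟨w, hw, hwd, hwmax⟩ := exists_max_tdegN qP z
  obtain ⟨x', hx', hxd, hxmax⟩ := exists_max_tdegN qX (pullback.fst qX qY z)
  obtain ⟨y', hy', hyd, hymax⟩ := exists_max_tdegN qY (pullback.snd qX qY z)
  have hpt : ∀ a b : ↥(Spec (CommRingCat.of k)), a = b := fun a b =>
    Subsingleton.elim (α := PrimeSpectrum k) _ _
  have hup : WC97.tdegN qP w ≤ WC97.tdegN qX x' + WC97.tdegN qY y' := by
    rw [Var76.FibreBound.tdegN_eq_add (qY := qY) (pullback.snd qX qY) rfl w, add_comm]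
    refine add_le_add ?_ (hymax _ (hw.map (pullback.snd qX qY).continuous))
    refine (E4O.fdeg_le_of_isPullback (IsPullback.of_hasPullback qX qY) w).trans ?_
    rw [Var76.FibreBound.fdeg_str_eq qX]
    exact hxmax _ (hw.map (pullback.fst qX qY).continuous)
  let σ := pullbackSymmetry qY qX
  let z₀ := σ.inv z
  have hz₀1 : pullback.fst qY qX z₀ = pullback.snd qX qY z := by
    rw [← Scheme.Hom.comp_apply, pullbackSymmetry_inv_comp_fst]
  obtain ⟨t₀, ht₀, ht₀1, ht₀2, -⟩ := exists_gen_fdeg_snd_eq qY qX z₀ (z := y') (hz₀1.symm ▸ hy') (hpt _ _)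
  let t := σ.hom t₀
  have ht : t ⤳ z := by
    have := ht₀.map σ.hom.continuous
    rwa [← Scheme.Hom.comp_apply, Iso.inv_hom_id] at this
  have ht2 : pullback.snd qX qY t = y' := by
    rw [← Scheme.Hom.comp_apply, pullbackSymmetry_hom_comp_snd]; exact ht₀1
  have ht1 : pullback.fst qX qY t = pullback.fst qX qY z := by
    rw [← Scheme.Hom.comp_apply, pullbackSymmetry_hom_comp_fst, ht₀2, ← Scheme.Hom.comp_apply,
      pullbackSymmetry_inv_comp_snd]
  obtain ⟨t', ht', ht'1, ht'2, ht'd⟩ := exists_gen_fdeg_snd_eq qX qY t (z := x') (ht1.symm ▸ hx') (hpt _ _)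
  have hlow : WC97.tdegN qY y' + WC97.tdegN qX x' ≤ WC97.tdegN qP w := by
    refine le_trans (le_of_eq ?_) (hwmax t' (ht'.trans ht))
    rw [Var76.FibreBound.tdegN_eq_add (qY := qY) (pullback.snd qX qY) rfl t', ht'2, ht2, ht'd,
      Var76.FibreBound.fdeg_str_eq qX]
  rw [hwd, hxd, hyd]
  exact_mod_cast le_antisymm hup (by omega)

end Groth.Agent.VarGal
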