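import Groth.Agent.Cohen12.Section
import Groth.Agent.Cohen12.Field
import Groth.Agent.Cohen12.Completion
import Mathlib.RingTheory.Nilpotent.GeometricallyReduced

/-! Presentation of the completion over a separable residue field. -/

universe u
open IsLocalRing

namespace Groth.Agent.VarGal

theorem exists_completion_presentation (k A : Type u) [Field k] [CommRing A] [Algebra k A]
    [IsNoetherianRing A] [IsLocalRing A] [Algebra.IsGeometricallyReduced k (ResidueField A)] :
    ∃ (n : ℕ) (I : Ideal (MvPowerSeries (Fin n) (ResidueField A)))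
      (e : (MvPowerSeries (Fin n) (ResidueField A) ⧸ I) ≃ₐ[k] AdicCompletion (maximalIdeal A) A),
      ∀ a : A, e (Ideal.Quotient.mk I (MvPowerSeries.C (residue A a))) -
          algebraMap A (AdicCompletion (maximalIdeal A) A) a ∈
        (maximalIdeal A).map (algebraMap A (AdicCompletion (maximalIdeal A) A)) := by
  let B := AdicCompletion (maximalIdeal A) A
  have := Cohen12.isNoetherianRing_completion A
  have := Cohen12.isAdicComplete_completion A
  have : IsLocalHom (algebraMap A B) := ⟨fun z hz => by
    by_contra hz'
    have h1 := (Cohen12.algebraMap_mem_pow_iff A 1 z).mpr (by rw [pow_one]; exact (mem_maximalIdeal _).mpr hz')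
    rw [pow_one] at h1
    exact h1 hz⟩
  let ψ₀ := ResidueField.map (algebraMap A B)
  have hψs : Function.Surjective ψ₀ := by
    intro x
    obtain ⟨c, rfl⟩ := residue_surjective x
    obtain ⟨a, ha⟩ := Cohen12.exists_sub_mem_pow A 1 c
    refine ⟨residue A a, ?_⟩
    rw [ResidueField.map_residue]
    rw [pow_one] at ha
    exact (sub_eq_zero.1 (by rw [← map_sub]; exact (residue_eq_zero_iff _).2 ha)).symm
  have hψk : ∀ c : k, ψ₀ (algebraMap k (ResidueField A) c) = algebraMap k (ResidueField B) c := fun c => by
    rw [IsScalarTower.algebraMap_apply k A (ResidueField A), ResidueField.algebraMap_eq, ResidueField.map_residue,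
      IsScalarTower.algebraMap_apply k B (ResidueField B), ResidueField.algebraMap_eq,
      ← IsScalarTower.algebraMap_apply k A B]
  let ψ : ResidueField A ≃ₐ[k] ResidueField B :=
    AlgEquiv.ofBijective ({ ψ₀ with commutes' := hψk } : ResidueField A →ₐ[k] ResidueField B)
      ⟨ψ₀.injective, hψs⟩
  have : Algebra.IsGeometricallyReduced k (ResidueField B) :=
    Algebra.IsGeometricallyReduced.of_injective ψ.symm.toAlgHom ψ.symm.injective
  obtain ⟨σ, hσ⟩ := Cohen12.exists_section (k := k) (A := B)
  let σ' := σ.comp ψ.toAlgHom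
  have hσ' : ∀ x, residue B (σ' x) = ψ x := fun x => hσ (ψ x)
  obtain ⟨φ, hφ, hC, -⟩ := Cohen12.exists_powerSeries_surjective σ'.toRingHom (fun x => by
    obtain ⟨y, hy⟩ := ψ.surjective x
    exact ⟨y, (hσ' y).trans hy⟩)
  let φ' : MvPowerSeries (Fin (maximalIdeal B).spanFinrank) (ResidueField A) →ₐ[k] B :=
    { φ with
      commutes' := fun c => by
        show φ (algebraMap k _ c) = algebraMap k B c
        rw [show algebraMap k (MvPowerSeries (Fin (maximalIdeal B).spanFinrank) (ResidueField A)) c =
          MvPowerSeries.C (algebraMap k (ResidueField A) c) from MvPowerSeries.algebraMap_apply, hC]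
        exact σ'.commutes c }
  refine ⟨_, RingHom.ker φ', Ideal.quotientKerAlgEquivOfSurjective (f := φ') hφ, fun a => ?_⟩
  rw [← AdicCompletion.maximalIdeal_eq_map]
  have : (Ideal.quotientKerAlgEquivOfSurjective (f := φ') hφ) (Ideal.Quotient.mk _ (MvPowerSeries.C (residue A a))) =
      σ' (residue A a) := hC (residue A a)
  rw [this, ← residue_eq_zero_iff, map_sub, hσ', sub_eq_zero]
  exact ResidueField.map_residue (algebraMap A B) a

end Groth.Agent.VarGal
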