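import Groth.Agent.CAlg1.SmoothKaehlerDim
import Groth.Agent.Var76.OmegaSmooth
import Mathlib.RingTheory.Smooth.Field

/-! Reduced finite type algebras over perfect fields with projective differentials are smooth. -/

universe u
open TensorProduct KaehlerDifferential

namespace Groth.Agent.VarGal

theorem finrank_kaehler_eq_trdeg (k L : Type u) [Field k] [PerfectField k] [Field L] [Algebra k L]
    [Algebra.EssFiniteType k L] :
    Module.finrank L Ω[L⁄k] = Cardinal.toNat (Algebra.trdeg k L) := by
  have : Algebra.FormallySmooth k L := inferInstance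
  obtain ⟨-, hfin, hc⟩ := Sep12.cartier (k := k) (K := L)
  have h0 : Module.finrank L (Algebra.H1Cotangent k L) = 0 := Module.finrank_zero_of_subsingleton
  rw [h0, Nat.cast_zero, sub_zero, Nat.cast_inj] at hc
  exact hc

theorem formallyEtale_residueField_minimal {A : Type u} [CommRing A] [_root_.IsReduced A] (P : Ideal A) [P.IsPrime]
    (hP : P ∈ minimalPrimes A) : Algebra.FormallyEtale A P.ResidueField := by
  let Ap := Localization.AtPrime P
  have : Ring.KrullDimLE 0 Ap := .of_isLocalization _ hP _
  have hf : IsField Ap := Ring.KrullDimLE.isField_of_isReduced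
  have hbot : IsLocalRing.maximalIdeal Ap = ⊥ :=
    IsLocalRing.isField_iff_maximalIdeal_eq.1 hf
  have hinj : Function.Injective (algebraMap Ap P.ResidueField) := by
    rw [injective_iff_map_eq_zero]
    intro x hx
    have : x ∈ IsLocalRing.maximalIdeal Ap := (IsLocalRing.residue_eq_zero_iff x).1 hx
    rwa [hbot, Ideal.mem_bot] at this
  let e : Ap ≃ₐ[A] P.ResidueField :=
    AlgEquiv.ofBijective (IsScalarTower.toAlgHom A Ap P.ResidueField) ⟨hinj, IsLocalRing.residue_surjective⟩
  have : IsLocalization P.primeCompl P.ResidueField := IsLocalization.isLocalization_of_algEquiv P.primeCompl e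
  exact Algebra.FormallyEtale.of_isLocalization P.primeCompl

theorem smooth_of_projective_kaehler (k A : Type u) [Field k] [PerfectField k] [CommRing A] [Algebra k A]
    [Algebra.FiniteType k A] [_root_.IsReduced A] [Module.Projective A Ω[A⁄k]] : Algebra.Smooth k A := by
  have hfp : Algebra.FinitePresentation k A := Algebra.FinitePresentation.of_finiteType.1 ‹_›
  have : Module.FinitePresentation A Ω[A⁄k] := Module.finitePresentation_of_projective A _
  refine { formallySmooth := Algebra.smoothLocus_eq_univ_iff.1 ?_, finitePresentation := hfp }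
  refine Set.eq_univ_of_forall fun q => ?_
  refine CAlg1.isSmoothAt_of_finrank_le k q.asIdeal (le_of_eq ?_)
  obtain ⟨P, hP, hle, hd⟩ := CAlgH2.exists_dimAt_eq k q.asIdeal
  have := hP.1.1
  have : Algebra.FormallyEtale A P.ResidueField := formallyEtale_residueField_minimal P hP
  have : Algebra.EssFiniteType k P.ResidueField := .comp k A _
  have h1 : Module.rankAtStalk Ω[A⁄k] q = Module.rankAtStalk Ω[A⁄k] ⟨P, hP.1.1⟩ := by
    refine ((PrimeSpectrum.le_iff_specializes ⟨P, hP.1.1⟩ q).1 hle).mem_open
      (Module.isLocallyConstant_rankAtStalk.isOpen_fiber (Module.rankAtStalk Ω[A⁄k] q)) rfl |>.symm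
  calc Module.finrank q.asIdeal.ResidueField (q.asIdeal.ResidueField ⊗[A] Ω[A⁄k])
      = Module.rankAtStalk Ω[A⁄k] q := (Module.rankAtStalk_eq q).symm
    _ = Module.finrank P.ResidueField (P.ResidueField ⊗[A] Ω[A⁄k]) := h1.trans (Module.rankAtStalk_eq _)
    _ = Module.finrank P.ResidueField Ω[P.ResidueField⁄k] :=
      (tensorKaehlerEquivOfFormallyEtale k A P.ResidueField).finrank_eq
    _ = Cardinal.toNat (Algebra.trdeg k P.ResidueField) := finrank_kaehler_eq_trdeg k _
    _ = CAlgH2.dimAt k q.asIdeal := by rw [hd, CAlgH2.trdeg_residueField k P]; rfl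

end Groth.Agent.VarGal
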