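import Groth.Agent.Unr55.StalkCrit
import Groth.Agent.Unr55.FlatUnram
import Mathlib.RingTheory.FiniteType
import Mathlib.AlgebraicGeometry.Noetherian
import Mathlib.AlgebraicGeometry.Morphisms.FiniteType

/-! An isomorphism of local rings spreads out to an open immersion. -/

universe u
open CategoryTheory AlgebraicGeometry
set_option backward.isDefEq.respectTransparency.types false

namespace Groth.Agent.VarGal

theorem exists_bijective_away {A B : Type u} [CommRing A] [CommRing B] [_root_.IsReduced A]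
    (hA : (minimalPrimes A).Finite) [Algebra A B] [Algebra.FiniteType A B] (q : Ideal B) [q.IsPrime]
    (hbij : Function.Bijective (Localization.localRingHom (q.comap (algebraMap A B)) q (algebraMap A B) rfl)) :
    ∃ (s : A) (h : B) (hs : IsUnit (((algebraMap B (Localization.Away h)).comp (algebraMap A B)) s)),
      h ∉ q ∧ Function.Bijective (IsLocalization.Away.lift (S := Localization.Away s) s hs) := by
  classical
  let φ := algebraMap A B
  let p := q.comap φ
  have hp : p.IsPrime := Ideal.IsPrime.comap φ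
  obtain ⟨G, hG⟩ := ‹Algebra.FiniteType A B›.out
  have key : ∀ b : B, ∃ (h : B) (a u : A), h ∉ q ∧ u ∉ p ∧ h * (φ u * b) = h * φ a := by
    intro b
    obtain ⟨z, hz⟩ := hbij.2 (algebraMap B _ b)
    obtain ⟨a, u, rfl⟩ := IsLocalization.exists_mk'_eq p.primeCompl z
    rw [Localization.localRingHom_mk', IsLocalization.mk'_eq_iff_eq_mul, ← map_mul,
      IsLocalization.eq_iff_exists q.primeCompl] at hz
    obtain ⟨h, hh⟩ := hz
    exact ⟨h.1, a, u.1, h.2, u.2, by rw [hh]; ring⟩
  choose hh aa uu hhq huu hrel using key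
  let H := ∏ b ∈ G, hh b
  let s := ∏ b ∈ G, uu b
  have hH : H ∉ q := fun h => by
    obtain ⟨b, -, hb⟩ := (‹q.IsPrime›.prod_mem_iff).1 h
    exact hhq b hb
  have hs0 : s ∉ p := fun h => by
    obtain ⟨b, -, hb⟩ := (hp.prod_mem_iff).1 h
    exact huu b hb
  have hall : ∀ x : B, ∃ (m n : ℕ) (a : A), H ^ m * (φ (s ^ n) * x) = H ^ m * φ a := by
    intro x
    have hx : x ∈ Algebra.adjoin A (G : Set B) := hG ▸ Algebra.mem_top
    induction hx using Algebra.adjoin_induction with
    | mem b hb =>
      refine ⟨1, 1, aa b * ∏ c ∈ G.erase b, uu c, ?_⟩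
      have e1 : H = hh b * ∏ c ∈ G.erase b, hh c := (Finset.mul_prod_erase G hh hb).symm
      have e2 : s = uu b * ∏ c ∈ G.erase b, uu c := (Finset.mul_prod_erase G uu hb).symm
      rw [pow_one, pow_one, e1, e2, map_mul, map_mul]
      linear_combination ((∏ c ∈ G.erase b, hh c) * φ (∏ c ∈ G.erase b, uu c)) * hrel b
    | algebraMap c => exact ⟨0, 0, c, by simp [φ]⟩
    | add y z _ _ hy hz =>
      obtain ⟨m, n, a, h1⟩ := hy; obtain ⟨m', n', a', h2⟩ := hz
      refine ⟨m + m', n + n', a * s ^ n' + a' * s ^ n, ?_⟩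
      simp only [map_add, map_mul, map_pow] at h1 h2 ⊢
      linear_combination (H ^ m' * φ s ^ n') * h1 + (H ^ m * φ s ^ n) * h2
    | mul y z _ _ hy hz =>
      obtain ⟨m, n, a, h1⟩ := hy; obtain ⟨m', n', a', h2⟩ := hz
      refine ⟨m + m', n + n', a * a', ?_⟩
      simp only [map_mul, map_pow] at h1 h2 ⊢
      linear_combination (H ^ m' * (φ s ^ n' * z)) * h1 + (H ^ m * φ a) * h2
  obtain ⟨mH, nH, aH, haH⟩ := hall H
  have haH' : aH ∉ p := by
    intro h
    have h' : φ aH ∈ q := h
    have : H ^ mH * (φ (s ^ nH) * H) ∈ q := haH ▸ Ideal.mul_mem_left _ _ h'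
    rcases ‹q.IsPrime›.mem_or_mem this with h | h
    · exact hH (‹q.IsPrime›.mem_of_pow_mem _ h)
    rcases ‹q.IsPrime›.mem_or_mem h with h | h
    · exact hs0 (hp.mem_of_pow_mem _ h)
    · exact hH h
  let Bad := hA.toFinset.filter fun P => ¬ P ≤ p
  obtain ⟨t, ht, htp⟩ : ∃ t ∈ Bad.inf id, t ∉ p := SetLike.not_le_iff_exists.1 fun hle => by
    obtain ⟨P, hP, hPp⟩ := (Ideal.IsPrime.inf_le' hp).1 hle
    exact (Finset.mem_filter.1 hP).2 hPp
  let s' := s * aH * t
  have hs' : s' ∉ p := fun h => (hp.mem_or_mem h).elim (fun h => (hp.mem_or_mem h).elim hs0 haH') htp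
  let h := H * φ s'
  let B' := Localization.Away h
  let ι := algebraMap B B'
  have huH : IsUnit (ι H) := isUnit_of_mul_isUnit_left (by rw [← map_mul]; exact IsLocalization.Away.algebraMap_isUnit h)
  have hu : IsUnit ((ι.comp φ) s') := isUnit_of_mul_isUnit_right (x := ι H)
    (by rw [RingHom.comp_apply, ← map_mul]; exact IsLocalization.Away.algebraMap_isUnit h)
  refine ⟨s', h, hu, fun hm => (‹q.IsPrime›.mem_or_mem hm).elim hH hs', ?_⟩
  set L := IsLocalization.Away.lift (S := Localization.Away s') s' hu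
  have hL : ∀ a, L (algebraMap A _ a) = ι (φ a) := fun a => IsLocalization.Away.lift_eq s' hu a
  constructor
  · rw [injective_iff_map_eq_zero]
    intro z hz
    obtain ⟨x, m, rfl⟩ := IsLocalization.exists_mk'_eq (Submonoid.powers s') z
    rw [IsLocalization.mk'_eq_zero_iff]
    have h0 : ι (φ x) = 0 := by
      have := congrArg (fun w => w * L (algebraMap A _ m.1)) hz
      simp only [zero_mul] at this
      rw [← map_mul, IsLocalization.mk'_spec, hL] at this
      exact this
    rw [IsLocalization.map_eq_zero_iff (Submonoid.powers h)] at h0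
    obtain ⟨⟨_, e, rfl⟩, he⟩ := h0
    have hq : algebraMap B (Localization.AtPrime q) (φ x) = 0 := by
      rw [IsLocalization.map_eq_zero_iff q.primeCompl]
      exact ⟨⟨h ^ e, fun hm => (‹q.IsPrime›.mem_or_mem (‹q.IsPrime›.mem_of_pow_mem _ hm)).elim hH hs'⟩, he⟩
    have hp0 : algebraMap A (Localization.AtPrime p) x = 0 :=
      hbij.1 (by rw [Localization.localRingHom_to_map, map_zero]; exact hq)
    rw [IsLocalization.map_eq_zero_iff p.primeCompl] at hp0
    obtain ⟨⟨u, hu'⟩, hux⟩ := hp0
    have htx : t * x ∈ nilradical A := by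
      rw [nilradical, ← Ideal.sInf_minimalPrimes, Submodule.mem_sInf]
      intro (P : Ideal A) hP
      have hPpr : P.IsPrime := hP.1.1
      by_cases hle : P ≤ p
      · refine P.mul_mem_left _ ((hPpr.mem_or_mem (show u * x ∈ P from hux ▸ zero_mem P)).resolve_left fun hm => hu' (hle hm))
      · exact P.mul_mem_right _ ((Finset.inf_le (f := id) (Finset.mem_filter.2 ⟨hA.mem_toFinset.2 hP, hle⟩) : Bad.inf id ≤ P) ht)
    refine ⟨⟨s', 1, pow_one s'⟩, ?_⟩
    show s' * x = 0
    rw [nilradical_eq_zero A, Ideal.zero_eq_bot, Ideal.mem_bot] at htx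
    linear_combination (s * aH) * htx
  · have huS : IsUnit (ι (φ s)) :=
      isUnit_of_mul_isUnit_left (isUnit_of_mul_isUnit_left (y := ι (φ t)) (x := ι (φ s) * ι (φ aH))
        (by rw [← map_mul, ← map_mul, ← map_mul, ← map_mul]; exact hu))
    have hB : ∀ x : B, ι x ∈ L.range := by
      intro x
      obtain ⟨m, n, a, hx⟩ := hall x
      have h1 := congrArg ι hx
      simp only [map_mul, map_pow] at h1
      have h2 := (huH.pow m).mul_left_cancel h1
      have hunit : IsUnit (algebraMap A (Localization.Away s') s) :=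
        isUnit_of_mul_isUnit_left (isUnit_of_mul_isUnit_left (y := algebraMap A _ t)
          (x := algebraMap A _ s * algebraMap A _ aH) (by
            rw [← map_mul, ← map_mul]; exact IsLocalization.Away.algebraMap_isUnit s'))
      refine ⟨algebraMap A _ a * ↑(hunit.pow n).unit⁻¹, (huS.pow n).mul_left_cancel ?_⟩
      rw [h2, map_mul, ← hL a, ← hL s, ← map_pow, mul_left_comm, ← map_mul L (algebraMap A _ s ^ n),
        IsUnit.mul_val_inv, map_one, mul_one]
    have hHinv : ∃ w, L w * ι H = 1 := by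
      have h1 := congrArg ι haH
      simp only [map_mul, map_pow] at h1
      have h2 := (huH.pow mH).mul_left_cancel h1
      have hunit : IsUnit (algebraMap A (Localization.Away s') aH) :=
        isUnit_of_mul_isUnit_right (isUnit_of_mul_isUnit_left (y := algebraMap A _ t)
          (x := algebraMap A _ s * algebraMap A _ aH) (by
            rw [← map_mul, ← map_mul]; exact IsLocalization.Away.algebraMap_isUnit s'))
      refine ⟨algebraMap A _ s ^ nH * ↑hunit.unit⁻¹, ?_⟩
      rw [map_mul, map_pow, hL, mul_right_comm, h2, ← hL, ← map_mul, IsUnit.mul_val_inv, map_one]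
    intro y
    obtain ⟨n, b, hb⟩ := IsLocalization.Away.surj h y
    obtain ⟨c, hc⟩ := hB b
    obtain ⟨w, hw⟩ := hHinv
    have hwu := (IsLocalization.Away.algebraMap_isUnit (S := Localization.Away s') s')
    refine ⟨c * w ^ n * (↑hwu.unit⁻¹) ^ n, ((IsLocalization.Away.algebraMap_isUnit (S := B') h).pow n).mul_right_cancel ?_⟩
    have hone : L ↑hwu.unit⁻¹ * ι (φ s') = 1 := by
      rw [← hL, ← map_mul, IsUnit.val_inv_mul, map_one]
    show L (c * w ^ n * (↑hwu.unit⁻¹) ^ n) * ι h ^ n = y * ι h ^ n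
    rw [hb, map_mul, map_mul, map_pow, map_pow, hc, show ι h = ι H * ι (φ s') from map_mul ι H (φ s')]
    calc _ = ι b * (L w * ι H) ^ n * (L ↑hwu.unit⁻¹ * ι (φ s')) ^ n := by ring
      _ = ι b := by rw [hw, hone, one_pow, mul_one, mul_one]

theorem finite_irreducibleComponents_of_isOpenEmbedding {A B : Type*} [TopologicalSpace A] [TopologicalSpace B]
    {j : A → B} (hj : Topology.IsOpenEmbedding j) (h : (irreducibleComponents B).Finite) :
    (irreducibleComponents A).Finite := by
  refine (h.image (j ⁻¹' ·)).subset fun Z hZ => ?_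
  have himg := (hZ.1.image j hj.continuous.continuousOn)
  obtain ⟨T, hT, hle, hTmax⟩ := exists_preirreducible _ himg.2
  have hT' : T ∈ irreducibleComponents B := ⟨⟨himg.1.mono hle, hT⟩, fun W hW hTW => (hTmax W hW.2 hTW).le⟩
  have hne : (T ∩ Set.range j).Nonempty := by
    obtain ⟨z, hz⟩ := hZ.1.1
    exact ⟨j z, hle ⟨z, hz, rfl⟩, z, rfl⟩
  have hirr : IsIrreducible (j ⁻¹' T) := hT'.1.preimage hj hne
  refine ⟨T, hT', ?_⟩
  have hsub : Z ⊆ j ⁻¹' T := fun z hz => hle ⟨z, hz, rfl⟩
  exact (hZ.2 hirr hsub).antisymm hsub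

theorem exists_isOpenImmersion_of_isIso_stalkMap {X S : Scheme.{u}} (f : X ⟶ S)
    [LocallyOfFiniteType f] [IsReduced S] (hS : (irreducibleComponents (S : Type u)).Finite)
    (x : X) (hx : IsIso (f.stalkMap x)) : ∃ U : X.Opens, x ∈ U ∧ IsOpenImmersion (U.ι ≫ f) := by
  obtain ⟨V, hV, U, hU, e, q, rfl⟩ := Unr55.exists_chart_at f x
  let φ := f.appLE V U e
  algebraize [φ.hom]
  have : Algebra.FiniteType Γ(S, V) Γ(X, U) := (HasRingHomProperty.appLE
    @LocallyOfFiniteType f inferInstance ⟨V, hV⟩ ⟨U, hU⟩ e :)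
  have hfin : (irreducibleComponents (PrimeSpectrum Γ(S, V))).Finite :=
    finite_irreducibleComponents_of_isOpenEmbedding hV.fromSpec.isOpenEmbedding hS
  have hb : Function.Bijective (Localization.localRingHom (q.asIdeal.comap φ.hom) q.asIdeal φ.hom rfl) := by
    have h := (Unr55.stalkMap_iff_chart f hV hU e (P := fun g => Function.Bijective g) ?_ q).1
      (ConcreteCategory.bijective_of_isIso (f.stalkMap _))
    · exact h
    · refine ⟨?_, ?_⟩
      · intro _ _ _ _ _ _ g e hg; exact e.bijective.comp hg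
      · intro _ _ _ _ _ _ g e hg; exact hg.comp e.bijective
  obtain ⟨s, h, hs, hh, hL⟩ := exists_bijective_away (Unr55.finite_minimalPrimes_of_finite_irreducibleComponents hfin) q.asIdeal hb
  let L := IsLocalization.Away.lift (S := Localization.Away s) s hs
  let i : Spec (.of (Localization.Away h)) ⟶ Spec Γ(X, U) :=
    Spec.map (CommRingCat.ofHom (algebraMap Γ(X, U) (Localization.Away h)))
  let i' : Spec (.of (Localization.Away s)) ⟶ Spec Γ(S, V) :=
    Spec.map (CommRingCat.ofHom (algebraMap Γ(S, V) (Localization.Away s)))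
  have : IsOpenImmersion i := IsOpenImmersion.of_isLocalization h
  have : IsOpenImmersion i' := IsOpenImmersion.of_isLocalization s
  have : IsIso (CommRingCat.ofHom L) := (ConcreteCategory.isIso_iff_bijective _).2 hL
  have hcomm : φ ≫ CommRingCat.ofHom (algebraMap Γ(X, U) (Localization.Away h)) =
      CommRingCat.ofHom (algebraMap Γ(S, V) (Localization.Away s)) ≫ CommRingCat.ofHom L :=
    CommRingCat.hom_ext (IsLocalization.Away.lift_comp s hs).symm
  let j := i ≫ hU.fromSpec
  refine ⟨j.opensRange, ?_, ?_⟩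
  · obtain ⟨w, hw⟩ : q ∈ Set.range i :=
      (PrimeSpectrum.localization_away_comap_range (Localization.Away h) h).symm.le
        (show q ∈ PrimeSpectrum.basicOpen h from hh)
    exact ⟨w, by rw [Scheme.Hom.comp_apply, hw]⟩
  · have key : j.opensRange.ι ≫ f = j.isoOpensRange.inv ≫ Spec.map (CommRingCat.ofHom L) ≫ i' ≫ hV.fromSpec := by
      rw [Iso.eq_inv_comp, Scheme.Hom.isoOpensRange_hom_ι_assoc, Category.assoc,
        ← hV.SpecMap_appLE_fromSpec f hU e, ← Spec.map_comp_assoc, ← Spec.map_comp_assoc]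
      exact congrArg (fun g => Spec.map g ≫ hV.fromSpec) hcomm
    rw [key]
    infer_instance

end Groth.Agent.VarGal
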