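import Groth.Agent.VarGal.GenImage
import Mathlib.RingTheory.Ideal.Operations

/-! Finitely many points of an affine scheme with isomorphic local rings downstairs. -/

universe u
open CategoryTheory AlgebraicGeometry TopologicalSpace Opposite
set_option backward.isDefEq.respectTransparency.types false

namespace Groth.Agent.VarGal

variable {X : Scheme.{u}}

/-- Functions on `V` invertible at `x`. -/
def unitsAt (V : X.Opens) (x : X) (hx : x ∈ V) : Submonoid Γ(X, V) where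
  carrier := {s | x ∈ X.basicOpen s}
  one_mem' := by show x ∈ X.basicOpen _; rw [X.basicOpen_of_isUnit isUnit_one]; exact hx
  mul_mem' {a b} ha hb := by show x ∈ X.basicOpen _; rw [X.basicOpen_mul]; exact ⟨ha, hb⟩

theorem specializes_of_forall_unitsAt {V : X.Opens} (hV : IsAffineOpen V) {x z : X} (hx : x ∈ V)
    (h : ∀ s : Γ(X, V), x ∈ X.basicOpen s → z ∈ X.basicOpen s) : z ⤳ x := by
  refine specializes_iff_forall_open.2 fun O hO hxO => ?_
  obtain ⟨s, hs, hxs⟩ := hV.exists_basicOpen_le (V := (⟨O, hO⟩ : X.Opens)) ⟨x, hxO⟩ hx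
  exact hs (h s hxs)

theorem exists_shrink_piece {V V' D : X.Opens} (hV : IsAffineOpen V) (hV' : IsAffineOpen V') (hD : IsAffineOpen D)
    (hDV : D ≤ V) (hDV' : D ≤ V') {x x' : X} (hx : x ∈ V) (hx' : x' ∈ V') (σ : Γ(X, V)) (σ' : Γ(X, V'))
    (h : ∀ z (hz : z ⤳ x) (hz' : z ⤳ x'),
      X.presheaf.germ V z (hz.mem_open V.2 hx) σ = X.presheaf.germ V' z (hz'.mem_open V'.2 hx') σ') :
    ∃ (s : Γ(X, V)) (s' : Γ(X, V')), x ∈ X.basicOpen s ∧ x' ∈ X.basicOpen s' ∧
      ∀ (O : X.Opens) (hO : O ≤ D), O ≤ X.basicOpen s → O ≤ X.basicOpen s' →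
        σ |_ O = σ' |_ O := by
  let r := X.presheaf.map (homOfLE hDV).op
  let r' := X.presheaf.map (homOfLE hDV').op
  let d : Γ(X, D) := r σ - r' σ'
  let M := (unitsAt V x hx).map r.hom.toMonoidHom ⊔ (unitsAt V' x' hx').map r'.hom.toMonoidHom
  let I : Ideal Γ(X, D) :=
    { carrier := {a | a * d = 0}
      add_mem' := fun {a b} (ha : a * d = 0) (hb : b * d = 0) => show (a + b) * d = 0 by rw [add_mul, ha, hb, add_zero]
      zero_mem' := zero_mul d
      smul_mem' := fun c a (ha : a * d = 0) => show c * a * d = 0 by rw [mul_assoc, ha, mul_zero] }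
  obtain ⟨m, hmI, hmM⟩ : ∃ m, m ∈ I ∧ m ∈ M := by
    by_contra hc
    push Not at hc
    obtain ⟨P, hP, hIP, hPM⟩ := Ideal.exists_le_prime_disjoint I M (Set.disjoint_left.2 hc)
    let z := hD.fromSpec ⟨P, hP⟩
    have hzD : z ∈ D := hD.range_fromSpec.le ⟨_, rfl⟩
    have hmem : ∀ a : Γ(X, D), z ∈ X.basicOpen a ↔ a ∉ P := fun a => by
      show (⟨P, hP⟩ : PrimeSpectrum Γ(X, D)) ∈ hD.fromSpec ⁻¹ᵁ X.basicOpen a ↔ _
      rw [hD.fromSpec_preimage_basicOpen]; rfl
    have hzx : z ⤳ x := specializes_of_forall_unitsAt hV hx fun s hs => by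
      have h1 := (hmem (r s)).2 fun hp => Set.disjoint_left.1 hPM hp (Submonoid.mem_sup_left ⟨s, hs, rfl⟩)
      rw [Scheme.basicOpen_res] at h1
      exact h1.2
    have hzx' : z ⤳ x' := specializes_of_forall_unitsAt hV' hx' fun s hs => by
      have h1 := (hmem (r' s)).2 fun hp => Set.disjoint_left.1 hPM hp (Submonoid.mem_sup_right ⟨s, hs, rfl⟩)
      rw [Scheme.basicOpen_res] at h1
      exact h1.2
    have h0 : X.presheaf.germ D z hzD d = X.presheaf.germ D z hzD 0 := by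
      simp only [d, r, r', map_sub, map_zero, TopCat.Presheaf.germ_res_apply, sub_eq_zero]
      exact h z hzx hzx'
    obtain ⟨E, hzE, i, i', hE⟩ := X.presheaf.germ_eq z hzD hzD _ _ h0
    obtain ⟨a, ha, haz⟩ := hD.exists_basicOpen_le (V := E) ⟨z, hzE⟩ hzD
    have := hD.isLocalization_basicOpen a
    have h1 : algebraMap Γ(X, D) Γ(X, X.basicOpen a) d = 0 := by
      have := congrArg (X.presheaf.map (homOfLE ha).op) hE
      rw [← CommRingCat.comp_apply, ← CommRingCat.comp_apply, ← Functor.map_comp, map_zero] at this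
      exact this
    rw [IsLocalization.map_eq_zero_iff (Submonoid.powers a)] at h1
    obtain ⟨⟨_, e, rfl⟩, he⟩ := h1
    exact (hmem a).1 haz (hP.mem_of_pow_mem e (hIP (show a ^ e * d = 0 from he)))
  obtain ⟨y, ⟨s, hs, rfl⟩, y', ⟨s', hs', rfl⟩, rfl⟩ := Submonoid.mem_sup.1 hmM
  refine ⟨s, s', hs, hs', fun O hO hOs hOs' => ?_⟩
  let ρ := X.presheaf.map (homOfLE hO).op
  have hu : ∀ a : Γ(X, D), O ≤ X.basicOpen a → IsUnit (ρ a) := fun a ha => by
    have hua := RingedSpace.isUnit_res_basicOpen _ a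
    have := hua.map (X.presheaf.map (homOfLE ha).op).hom
    have e : (homOfLE hO).op = (homOfLE (X.basicOpen_le a)).op ≫ (homOfLE ha).op := rfl
    show IsUnit (X.presheaf.map (homOfLE hO).op a)
    rw [e, Functor.map_comp]
    exact this
  have h1 : ρ (r s) * ρ (r' s') * ρ d = 0 := by
    rw [← map_mul, ← map_mul]; exact (congrArg ρ (show r s * r' s' * d = 0 from hmI)).trans (map_zero _)
  have hu1 : IsUnit (ρ (r s)) := hu _ (by rw [Scheme.basicOpen_res]; exact le_inf hO hOs)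
  have hu2 : IsUnit (ρ (r' s')) := hu _ (by rw [Scheme.basicOpen_res]; exact le_inf hO hOs')
  have h2 : ρ d = 0 := (hu1.mul hu2).mul_right_eq_zero.1 h1
  simp only [d, ρ, r, r', map_sub, sub_eq_zero, ← CommRingCat.comp_apply, ← Functor.map_comp] at h2
  exact h2

theorem exists_shrink_pair [QuasiSeparatedSpace X] {V V' : X.Opens} (hV : IsAffineOpen V) (hV' : IsAffineOpen V')
    {x x' : X} (hx : x ∈ V) (hx' : x' ∈ V') (σ : Γ(X, V)) (σ' : Γ(X, V'))
    (h : ∀ z (hz : z ⤳ x) (hz' : z ⤳ x'),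
      X.presheaf.germ V z (hz.mem_open V.2 hx) σ = X.presheaf.germ V' z (hz'.mem_open V'.2 hx') σ') :
    ∃ W W' : X.Opens, x ∈ W ∧ x' ∈ W' ∧ ∀ (O : X.Opens) (h1 : O ≤ V) (h2 : O ≤ V'),
      O ≤ W → O ≤ W' → σ |_ O = σ' |_ O := by
  classical
  have hc : IsCompact ((V ⊓ V' : X.Opens) : Set X) :=
    QuasiSeparatedSpace.inter_isCompact _ _ V.2 hV.isCompact V'.2 hV'.isCompact
  obtain ⟨F, hF⟩ := hc.elim_finite_subcover (fun D : {D : X.affineOpens // D.1 ≤ V ⊓ V'} => (D.1.1 : Set X))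
    (fun D => D.1.1.2) (fun y hy => by
      obtain ⟨D, hD, hyD, hDle⟩ := exists_isAffineOpen_mem_and_subset (U := V ⊓ V') hy
      exact Set.mem_iUnion.2 ⟨⟨⟨D, hD⟩, hDle⟩, hyD⟩)
  let S : Set X.affineOpens := ↑(F.image Subtype.val)
  have hS : S.Finite := Finset.finite_toSet _
  have hle : ∀ D : X.affineOpens, D ∈ S → D.1 ≤ V ⊓ V' := fun D hD => by
    obtain ⟨D', -, rfl⟩ := Finset.mem_image.1 hD
    exact D'.2
  choose! s s' hs hs' hss using fun D (hD : D ∈ S) =>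
    exists_shrink_piece hV hV' D.2 ((hle D hD).trans inf_le_left) ((hle D hD).trans inf_le_right) hx hx' σ σ' h
  refine ⟨V ⊓ hS.toFinset.inf (fun D => X.basicOpen (s D)), V' ⊓ hS.toFinset.inf (fun D => X.basicOpen (s' D)),
    ⟨hx, ?_⟩, ⟨hx', ?_⟩, fun O h1 h2 hW hW' => ?_⟩
  · have : ∀ F : Finset X.affineOpens, (∀ D ∈ F, D ∈ S) → x ∈ F.inf (fun D => X.basicOpen (s D)) := by
      intro F
      induction F using Finset.induction_on with
      | empty => simp
      | insert a F ha ih => intro hF; rw [Finset.inf_insert]; exact ⟨hs a (hF a (by simp)), ih fun D hD => hF D (by simp [hD])⟩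
    exact this _ fun D hD => hS.mem_toFinset.1 hD
  · have : ∀ F : Finset X.affineOpens, (∀ D ∈ F, D ∈ S) → x' ∈ F.inf (fun D => X.basicOpen (s' D)) := by
      intro F
      induction F using Finset.induction_on with
      | empty => simp
      | insert a F ha ih => intro hF; rw [Finset.inf_insert]; exact ⟨hs' a (hF a (by simp)), ih fun D hD => hF D (by simp [hD])⟩
    exact this _ fun D hD => hS.mem_toFinset.1 hD
  refine X.sheaf.eq_of_locally_eq' (fun D : S => O ⊓ D.1.1) O (fun D => homOfLE inf_le_left) ?_ _ _ fun D => ?_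
  · intro y hy
    have : y ∈ ((V ⊓ V' : X.Opens) : Set X) := ⟨h1 hy, h2 hy⟩
    obtain ⟨D, hD, hyD⟩ := Set.mem_iUnion₂.1 (hF this)
    exact Opens.mem_iSup.2 ⟨⟨D.1, Finset.mem_image.2 ⟨D, hD, rfl⟩⟩, hy, hyD⟩
  · have hh := hss D.1 D.2 (O ⊓ D.1.1) inf_le_right
      ((inf_le_left.trans hW).trans (inf_le_right.trans (Finset.inf_le (hS.mem_toFinset.2 D.2))))
      ((inf_le_left.trans hW').trans (inf_le_right.trans (Finset.inf_le (hS.mem_toFinset.2 D.2))))
    show X.presheaf.map _ (σ |_ O) = X.presheaf.map _ (σ' |_ O)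
    simp only [TopCat.Presheaf.restrictOpenCommRingCat_apply, TopCat.Presheaf.restrictOpen, TopCat.Presheaf.restrict,
      ← CommRingCat.comp_apply, ← Functor.map_comp] at hh ⊢
    exact hh

theorem exists_nhd_inf_basicOpen_le {V : X.Opens} (hV : IsAffineOpen V) {x : X} (hx : x ∈ V) (σ : Γ(X, V))
    (U : X.Opens) (h : ∀ z, z ⤳ x → z ∈ X.basicOpen σ → z ∈ U) :
    ∃ N : X.Opens, x ∈ N ∧ N ≤ V ∧ N ⊓ X.basicOpen σ ≤ U := by
  obtain ⟨I, hI⟩ := (PrimeSpectrum.isClosed_iff_zeroLocus_ideal _).1 (hV.fromSpec ⁻¹ᵁ U).2.isClosed_compl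
  obtain ⟨m, hmI, hmM⟩ : ∃ m, m ∈ I ∧ m ∈ unitsAt V x hx ⊔ Submonoid.powers σ := by
    by_contra hc
    push Not at hc
    obtain ⟨P, hP, hIP, hPM⟩ := Ideal.exists_le_prime_disjoint I _ (Set.disjoint_left.2 hc)
    let p : PrimeSpectrum Γ(X, V) := ⟨P, hP⟩
    let z := hV.fromSpec p
    have hmem : ∀ a : Γ(X, V), z ∈ X.basicOpen a ↔ a ∉ P := fun a => by
      show p ∈ hV.fromSpec ⁻¹ᵁ X.basicOpen a ↔ _
      rw [hV.fromSpec_preimage_basicOpen]; rfl
    have hzx : z ⤳ x := specializes_of_forall_unitsAt hV hx fun s hs =>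
      (hmem s).2 fun hp => Set.disjoint_left.1 hPM hp (Submonoid.mem_sup_left hs)
    have hzσ : z ∈ X.basicOpen σ :=
      (hmem σ).2 fun hp => Set.disjoint_left.1 hPM hp (Submonoid.mem_sup_right (Submonoid.mem_powers σ))
    have hp : p ∈ (hV.fromSpec ⁻¹' (U : Set X))ᶜ := hI.ge (show (I : Set Γ(X, V)) ⊆ P from hIP)
    exact hp (h z hzx hzσ)
  obtain ⟨s, hs, _, ⟨e, rfl⟩, rfl⟩ := Submonoid.mem_sup.1 hmM
  refine ⟨X.basicOpen s, hs, X.basicOpen_le s, fun y ⟨hys, hyσ⟩ => ?_⟩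
  obtain ⟨p, rfl⟩ := hV.range_fromSpec.ge (X.basicOpen_le s hys)
  by_contra hc
  have hp : (I : Set Γ(X, V)) ⊆ p.asIdeal := hI.le hc
  have hmem : ∀ a : Γ(X, V), hV.fromSpec p ∈ X.basicOpen a ↔ a ∉ p.asIdeal := fun a => by
    show p ∈ hV.fromSpec ⁻¹ᵁ X.basicOpen a ↔ _
    rw [hV.fromSpec_preimage_basicOpen]; rfl
  exact (p.isPrime.mem_or_mem (hp hmI)).elim ((hmem s).1 hys) fun hh => (hmem σ).1 hyσ (p.isPrime.mem_of_pow_mem e hh)

theorem exists_glued_sections [QuasiSeparatedSpace X] {ι κ : Type u} [Finite ι] [Finite κ] (x : ι → X)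
    (c : κ → ∀ j, X.presheaf.stalk (x j))
    (hc : ∀ k i j (z : X) (hi : z ⤳ x i) (hj : z ⤳ x j),
      X.presheaf.stalkSpecializes hi (c k i) = X.presheaf.stalkSpecializes hj (c k j))
    (U : κ → X.Opens)
    (hU : ∀ k j (z : X) (hz : z ⤳ x j), IsUnit (X.presheaf.stalkSpecializes hz (c k j)) → z ∈ U k) :
    ∃ (W : X.Opens) (σ : κ → Γ(X, W)) (hx : ∀ j, x j ∈ W), IsCompact (W : Set X) ∧
      (∀ k, X.basicOpen (σ k) ≤ U k) ∧ ∀ k j, X.presheaf.germ W (x j) (hx j) (σ k) = c k j := by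
  classical
  have hstep : ∀ k j, ∃ (V : X.Opens) (_ : IsAffineOpen V) (hV : x j ∈ V) (τ : Γ(X, V)),
      X.presheaf.germ V (x j) hV τ = c k j := by
    intro k j
    obtain ⟨O, hO, τ, hτ⟩ := X.presheaf.exists_germ_eq (c k j)
    obtain ⟨V, hVa, hxV, hVO⟩ := exists_isAffineOpen_mem_and_subset hO
    exact ⟨V, hVa, hxV, X.presheaf.map (homOfLE (show V ≤ O from hVO)).op τ, by rw [TopCat.Presheaf.germ_res_apply]; exact hτ⟩
  choose V hVa hxV τ hτ using hstep
  have hgerm : ∀ k j z (hz : z ⤳ x j),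
      X.presheaf.germ (V k j) z (hz.mem_open (V k j).2 (hxV k j)) (τ k j) = X.presheaf.stalkSpecializes hz (c k j) := by
    intro k j z hz
    rw [← hτ k j, TopCat.Presheaf.germ_stalkSpecializes_apply]
  choose W₁ W₂ h₁ h₂ h₁₂ using fun k i j => exists_shrink_pair (hVa k i) (hVa k j) (hxV k i) (hxV k j) (τ k i) (τ k j)
    fun z hi hj => by rw [hgerm k i z hi, hgerm k j z hj]; exact hc k i j z hi hj
  choose N hxN hNV hNU using fun k j => exists_nhd_inf_basicOpen_le (hVa k j) (hxV k j) (τ k j) (U k)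
    fun z hz hσ => hU k j z hz (by
      rw [← hgerm k j z hz]; exact (Scheme.mem_basicOpen X (τ k j) z _).1 hσ)
  have hnhd : ∀ j, ∃ E : X.Opens, IsAffineOpen E ∧ x j ∈ E ∧ ∀ k, E ≤ N k j ∧ ∀ i, E ≤ W₁ k j i ∧ E ≤ W₂ k i j := by
    intro j
    let O : Set X := ⋂ k, ((N k j : Set X) ∩ ⋂ i, ((W₁ k j i : Set X) ∩ (W₂ k i j : Set X)))
    have hO : IsOpen O := isOpen_iInter_of_finite fun k => (N k j).2.inter
      (isOpen_iInter_of_finite fun i => (W₁ k j i).2.inter (W₂ k i j).2)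
    have hxO : x j ∈ O := Set.mem_iInter.2 fun k => ⟨hxN k j, Set.mem_iInter.2 fun i => ⟨h₁ k j i, h₂ k i j⟩⟩
    obtain ⟨E, hE, hxE, hEO⟩ := exists_isAffineOpen_mem_and_subset (U := (⟨O, hO⟩ : X.Opens)) hxO
    exact ⟨E, hE, hxE, fun k => ⟨fun y hy => (Set.mem_iInter.1 (hEO hy) k).1,
      fun i => ⟨fun y hy => (Set.mem_iInter.1 (Set.mem_iInter.1 (hEO hy) k).2 i).1,
        fun y hy => (Set.mem_iInter.1 (Set.mem_iInter.1 (hEO hy) k).2 i).2⟩⟩⟩
  choose E hEa hxE hE using hnhd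
  have hEV : ∀ k j, E j ≤ V k j := fun k j => (hE j k).1.trans (hNV k j)
  let W := ⨆ j, E j
  have glue : ∀ k, ∃ σ : Γ(X, W), ∀ j, X.presheaf.map (homOfLE (le_iSup E j)).op σ =
      X.presheaf.map (homOfLE (hEV k j)).op (τ k j) := by
    intro k
    obtain ⟨σ, hσ, -⟩ := X.sheaf.existsUnique_gluing' E W (fun j => homOfLE (le_iSup E j)) le_rfl
      (fun j => X.presheaf.map (homOfLE (hEV k j)).op (τ k j)) (fun i j => by
        have hh := h₁₂ k i j (E i ⊓ E j) (inf_le_left.trans (hEV k i)) (inf_le_right.trans (hEV k j))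
          (inf_le_left.trans ((hE i k).2 j).1) (inf_le_right.trans ((hE j k).2 i).2)
        show X.presheaf.map _ _ = X.presheaf.map _ _
        rw [← CommRingCat.comp_apply, ← CommRingCat.comp_apply, ← Functor.map_comp, ← Functor.map_comp]
        exact hh)
    exact ⟨σ, hσ⟩
  choose σ hσ using glue
  refine ⟨W, σ, fun j => Opens.mem_iSup.2 ⟨j, hxE j⟩, ?_, fun k y hy => ?_, fun k j => ?_⟩
  · rw [Opens.coe_iSup]
    exact isCompact_iUnion fun j => (hEa j).isCompact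
  · obtain ⟨j, hj⟩ := Opens.mem_iSup.1 (X.basicOpen_le _ hy)
    have h3 : y ∈ X.basicOpen (X.presheaf.map (homOfLE (le_iSup E j)).op (σ k)) := by
      rw [Scheme.basicOpen_res]; exact ⟨hj, hy⟩
    rw [hσ, Scheme.basicOpen_res] at h3
    exact hNU k j ⟨(hE j k).1 h3.1, h3.2⟩
  · rw [← TopCat.Presheaf.germ_res_apply X.presheaf (homOfLE (le_iSup E j)) (x j) (hxE j), hσ,
      TopCat.Presheaf.germ_res_apply, hτ]

theorem exists_affineOpen_of_isIso_stalkMap {T X : Scheme.{u}} [QuasiSeparatedSpace X] [IsAffine T] (f : T ⟶ X)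
    (hinj : ∀ η η' : T, closure ({η} : Set T) ∈ irreducibleComponents (T : Type u) →
      closure ({η'} : Set T) ∈ irreducibleComponents (T : Type u) → f.base η = f.base η' → η = η')
    {ι : Type u} [Finite ι] (t : ι → T) (ht : ∀ j, IsIso (f.stalkMap (t j))) :
    ∃ U : X.Opens, IsAffineOpen U ∧ ∀ j, f (t j) ∈ U := by
  classical
  choose A hA hxA _ using fun j => exists_isAffineOpen_mem_and_subset (x := f (t j)) (U := (⊤ : X.Opens)) trivial
  choose b hb hbt using fun j => (isAffineOpen_top T).exists_basicOpen_le (V := f ⁻¹ᵁ A j) ⟨t j, hxA j⟩ trivial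
  choose c hc using fun k j => exists_isGermOf f (b k) (ht j)
  obtain ⟨W, σ, hxW, hWc, hσU, hσg⟩ := exists_glued_sections (fun j => f (t j)) c
    (fun k i j z hi hj => stalkSpecializes_eq f (b k) hinj (ht i) (ht j) hi hj (hc k i) (hc k j)) A
    (fun k j z hz hu => by
      obtain ⟨u, hu', rfl, -⟩ := exists_lift_of_isIso_stalkMap f (ht j) hz
      exact hb k ((mem_basicOpen_iff_isUnit f (b k) hu' rfl hz (hc k j)).2 hu))
  have hxσ : ∀ k, f (t k) ∈ X.basicOpen (σ k) := fun k => by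
    rw [Scheme.mem_basicOpen X (σ k) _ (hxW k), hσg]
    have h := (Scheme.mem_basicOpen T (b k) (t k) trivial).1 (hbt k)
    rw [← hc k k] at h
    exact (isUnit_map_iff (f.stalkMap (t k)).hom _).1 h
  have hWq : IsQuasiSeparated (W : Set X) :=
    (isQuasiSeparated_univ (α := X)).of_subset (Set.subset_univ _)
  have hg : ∀ k, ∃ g : Γ(X, W), f (t k) ∈ X.basicOpen g ∧ IsAffineOpen (X.basicOpen g) := by
    intro k
    obtain ⟨e, he, hxe⟩ := (hA k).exists_basicOpen_le (V := X.basicOpen (σ k)) ⟨f (t k), hxσ k⟩ (hxA k)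
    obtain ⟨n, y, hy⟩ := exists_eq_pow_mul_of_isCompact_of_isQuasiSeparated X W hWc hWq (σ k)
      (X.presheaf.map (homOfLE (hσU k)).op e)
    have key : X.basicOpen (σ k * y) = X.basicOpen e := by
      rw [Scheme.basicOpen_mul]
      have h1 := congrArg X.basicOpen hy
      simp only [TopCat.Presheaf.restrictOpenCommRingCat_apply, TopCat.Presheaf.restrictOpen, TopCat.Presheaf.restrict,
        Scheme.basicOpen_mul, Scheme.basicOpen_res] at h1
      have hu : IsUnit ((X.presheaf.map (homOfLE (X.basicOpen_le (σ k))).op (σ k)) ^ n) :=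
        (RingedSpace.isUnit_res_basicOpen _ (σ k)).pow n
      rw [X.basicOpen_of_isUnit hu] at h1
      rw [h1, ← inf_assoc, inf_idem, inf_eq_right]
      exact he
    exact ⟨σ k * y, key.symm ▸ hxe, key.symm ▸ (hA k).basicOpen e⟩
  choose g hxg hga using hg
  obtain ⟨u, huI, hu⟩ : ∃ u ∈ Ideal.span (Set.range g), ∀ k, f (t k) ∈ X.basicOpen u := by
    have : Fintype ι := Fintype.ofFinite ι
    let P : ι → Ideal Γ(X, W) := fun k =>
      (IsLocalRing.maximalIdeal (X.presheaf.stalk (f (t k)))).comap (X.presheaf.germ W _ (hxW k)).hom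
    have hPmem : ∀ k a, a ∈ P k ↔ f (t k) ∉ X.basicOpen a := fun k a => by
      rw [Scheme.mem_basicOpen X a _ (hxW k)]; exact Ideal.mem_comap.trans (IsLocalRing.mem_maximalIdeal _)
    by_contra hc'
    push Not at hc'
    have hsub : (Ideal.span (Set.range g) : Set Γ(X, W)) ⊆ ⋃ k ∈ (↑(Finset.univ : Finset ι) : Set ι), (P k : Set Γ(X, W)) := by
      intro a ha
      obtain ⟨k, hk⟩ := hc' a ha
      exact Set.mem_biUnion (Finset.mem_coe.2 (Finset.mem_univ k)) ((hPmem k a).2 hk)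
    rcases isEmpty_or_nonempty ι with hι | hι
    · obtain ⟨k, -⟩ := hc' 0 (zero_mem _); exact hι.false k
    obtain ⟨k, -, hk⟩ := (Ideal.subset_union_prime (Classical.arbitrary ι) (Classical.arbitrary ι)
      (fun k _ _ _ => Ideal.IsPrime.comap _)).1 hsub
    exact (hPmem k (g k)).1 (hk (Ideal.subset_span ⟨k, rfl⟩)) (hxg k)
  let r := X.presheaf.map (homOfLE (X.basicOpen_le u)).op
  refine ⟨X.basicOpen u, isAffineOpen_of_isAffineOpen_basicOpen _ (r '' Set.range g) ?_ ?_, hu⟩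
  · rw [← Ideal.map_span r.hom]
    exact Ideal.eq_top_of_isUnit_mem _ (Ideal.mem_map_of_mem _ huI) (RingedSpace.isUnit_res_basicOpen _ u)
  · rintro _ ⟨_, ⟨k, rfl⟩, rfl⟩
    have e1 : X.basicOpen (r (g k)) = X.basicOpen (X.presheaf.map (homOfLE (X.basicOpen_le (g k))).op u) := by
      rw [Scheme.basicOpen_res, Scheme.basicOpen_res, inf_comm]
    rw [e1]
    exact (hga k).basicOpen _

end Groth.Agent.VarGal
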