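import Mathlib.AlgebraicGeometry.Morphisms.Affine
import Mathlib.RingTheory.Localization.AtPrime.Basic
import Mathlib.RingTheory.KrullDimension.Basic
import Mathlib.RingTheory.Ideal.MinimalPrime.Noetherian

/-! Quasi-compact opens of affine schemes with one-dimensional Noetherian local rings are affine. -/

universe u
open CategoryTheory AlgebraicGeometry TopologicalSpace
set_option backward.isDefEq.respectTransparency.types false

namespace Groth.Agent.VarGal

theorem exists_principal_eq_near {A : Type*} [CommRing A] (p : Ideal A) [p.IsPrime]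
    [IsNoetherianRing (Localization.AtPrime p)] (hd : ringKrullDim (Localization.AtPrime p) ≤ 1)
    {ι : Type*} [Finite ι] (f : ι → A) (hp : ∀ i, f i ∈ p) :
    ∃ g ∈ Ideal.span (Set.range f), ∃ a ∉ p, ∀ i, ∃ N : ℕ, a * f i ^ N ∈ Ideal.span {g} := by
  classical
  let Ap := Localization.AtPrime p
  let J := (Ideal.span (Set.range f)).map (algebraMap A Ap)
  have : Ring.KrullDimLE 1 Ap := ⟨by exact_mod_cast hd⟩
  have hfin := minimalPrimes.finite_of_isNoetherianRing Ap
  let S := hfin.toFinset.filter fun q => ¬ J ≤ q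
  obtain ⟨y, hyJ, hy⟩ : ∃ y ∈ J, ∀ q ∈ S, y ∉ q := by
    by_contra hc
    push Not at hc
    rcases S.eq_empty_or_nonempty with hS | ⟨q₀, hq₀⟩
    · obtain ⟨q, hq, -⟩ := hc 0 (zero_mem _); simp [hS] at hq
    obtain ⟨q, hq, hle⟩ := (Ideal.subset_union_prime (f := id) q₀ q₀
      (fun q hq _ _ => (hfin.mem_toFinset.1 (Finset.mem_filter.1 hq).1).1.1)).1
      (show (J : Set Ap) ⊆ ⋃ q ∈ (↑S : Set (Ideal Ap)), (q : Set Ap) from fun y hy => by
        obtain ⟨q, hq, hyq⟩ := hc y hy
        exact Set.mem_biUnion hq hyq)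
    exact (Finset.mem_filter.1 hq).2 hle
  obtain ⟨⟨⟨g, hg⟩, s⟩, hgs⟩ := (IsLocalization.mem_map_algebraMap_iff p.primeCompl Ap).1 hyJ
  have hrad : ∀ i, algebraMap A Ap (f i) ∈ (Ideal.span {algebraMap A Ap g}).radical := by
    intro i
    rw [Ideal.radical_eq_sInf, Submodule.mem_sInf]
    rintro Q ⟨hQ, hQp⟩
    by_cases hmax : Q = IsLocalRing.maximalIdeal Ap
    · rw [hmax, IsLocalization.AtPrime.to_map_mem_maximal_iff Ap p]
      exact hp i
    · by_contra hfi
      have hmin : Q ∈ minimalPrimes Ap := by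
        by_contra hn
        exact hmax (IsLocalRing.eq_maximalIdeal ((Ring.krullDimLE_one_iff.1 inferInstance Q hQp).resolve_left hn))
      have hQS : Q ∈ S := Finset.mem_filter.2 ⟨hfin.mem_toFinset.2 hmin, fun h =>
        hfi (h (Ideal.mem_map_of_mem _ (Ideal.subset_span ⟨i, rfl⟩)))⟩
      have h2 : algebraMap A Ap g ∈ Q := hQ (Ideal.subset_span rfl)
      rw [← hgs] at h2
      exact hy Q hQS ((hQp.mem_or_mem h2).resolve_right fun h =>
        hQp.ne_top (Ideal.eq_top_of_isUnit_mem _ h (IsLocalization.map_units Ap s)))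
  have hloc : ∀ i, ∃ N : ℕ, ∃ a ∉ p, a * f i ^ N ∈ Ideal.span {g} := by
    intro i
    obtain ⟨N, hN⟩ := hrad i
    rw [← map_pow, show Ideal.span {algebraMap A Ap g} = (Ideal.span {g}).map (algebraMap A Ap) by rw [Ideal.map_span, Set.image_singleton], IsLocalization.algebraMap_mem_map_algebraMap_iff p.primeCompl] at hN
    obtain ⟨a, ha, h⟩ := hN
    exact ⟨N, a, ha, h⟩
  choose N a ha h using hloc
  have := Fintype.ofFinite ι
  refine ⟨g, hg, ∏ i, a i, fun hh => ?_, fun i => ⟨N i, ?_⟩⟩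
  · obtain ⟨i, -, hi⟩ := (Ideal.IsPrime.prod_mem_iff).1 hh
    exact ha i hi
  · obtain ⟨c, hc⟩ := Finset.dvd_prod_of_mem a (Finset.mem_univ i)
    rw [hc, mul_right_comm]
    exact Ideal.mul_mem_right _ _ (h i)

theorem isAffineOpen_of_isCompact_of_dim_le_one (X : Scheme.{u}) [IsAffine X]
    (hX : ∀ x : X, IsNoetherianRing (X.presheaf.stalk x) ∧ ringKrullDim (X.presheaf.stalk x) ≤ 1)
    (U : X.Opens) (hU : IsCompact (U : Set X)) : IsAffineOpen U := by
  classical
  have hT := isAffineOpen_top X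
  choose c hcU hxc using fun x : U => hT.exists_basicOpen_le (V := U) x trivial
  obtain ⟨F, hF⟩ := hU.elim_finite_subcover (fun x : U => (X.basicOpen (c x) : Set X)) (fun x => (X.basicOpen _).2)
    (fun y hy => Set.mem_iUnion.2 ⟨⟨y, hy⟩, hxc _⟩)
  have key : ∀ x : X, ∃ a : Γ(X, ⊤), x ∈ X.basicOpen a ∧ IsAffineOpen (U ⊓ X.basicOpen a) := by
    intro x
    by_cases hxU : x ∈ U
    · exact ⟨c ⟨x, hxU⟩, hxc _, by rw [inf_eq_right.2 (hcU _)]; exact hT.basicOpen _⟩
    let p := hT.primeIdealOf ⟨x, trivial⟩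
    let := TopCat.Presheaf.algebra_section_stalk X.presheaf (⟨x, trivial⟩ : (⊤ : X.Opens))
    have := hT.isLocalization_stalk ⟨x, trivial⟩
    let e := (IsLocalization.algEquiv p.asIdeal.primeCompl (X.presheaf.stalk x) (Localization.AtPrime p.asIdeal)).toRingEquiv
    have := (hX x).1
    have : IsNoetherianRing (Localization.AtPrime p.asIdeal) := isNoetherianRing_of_ringEquiv _ e
    have hd : ringKrullDim (Localization.AtPrime p.asIdeal) ≤ 1 :=
      (ringKrullDim_eq_of_ringEquiv e).symm.le.trans (hX x).2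
    have hmem : ∀ a : Γ(X, ⊤), x ∈ X.basicOpen a ↔ a ∉ p.asIdeal := fun a => by
      have hx : hT.fromSpec p = x := hT.fromSpec_primeIdealOf ⟨x, trivial⟩
      refine (show (x ∈ X.basicOpen a) ↔ p ∈ hT.fromSpec ⁻¹ᵁ X.basicOpen a from hx.symm ▸ Iff.rfl).trans ?_
      rw [hT.fromSpec_preimage_basicOpen]; rfl
    obtain ⟨g, hg, a, ha, hN⟩ := exists_principal_eq_near p.asIdeal hd (fun i : F => c i.1)
      (fun i => by_contra fun h => hxU (hcU _ ((hmem _).2 h)))
    refine ⟨a, (hmem a).2 ha, ?_⟩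
    have heq : U ⊓ X.basicOpen a = X.basicOpen (g * a) := by
      rw [X.basicOpen_mul]
      refine le_antisymm (le_inf (fun y hy => ?_) inf_le_right) (inf_le_inf_right _ fun y hy => ?_)
      · obtain ⟨hyU, hya⟩ := TopologicalSpace.Opens.mem_inf.1 hy
        obtain ⟨i, hi, hyi⟩ := Set.mem_iUnion₂.1 (hF hyU)
        obtain ⟨N, hN⟩ := hN ⟨i, hi⟩
        obtain ⟨r, hr⟩ := Ideal.mem_span_singleton'.1 hN
        have : y ∈ X.basicOpen (a * c i ^ N) := by
          rw [Scheme.mem_basicOpen X _ y (TopologicalSpace.Opens.mem_top y), map_mul, map_pow]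
          exact ((Scheme.mem_basicOpen X a y (TopologicalSpace.Opens.mem_top y)).1 hya).mul (((Scheme.mem_basicOpen X _ y (TopologicalSpace.Opens.mem_top y)).1 hyi).pow N)
        rw [← hr, X.basicOpen_mul] at this
        exact this.2
      · obtain ⟨r, rfl⟩ := Ideal.mem_span_range_iff_exists_fun.1 hg
        by_contra hyU
        have hz : ∀ i : F, ¬ IsUnit (X.presheaf.germ ⊤ y (TopologicalSpace.Opens.mem_top y) (c i.1)) := fun i h =>
          hyU (hcU i.1 ((Scheme.mem_basicOpen X _ y (TopologicalSpace.Opens.mem_top y)).2 h))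
        rw [Scheme.mem_basicOpen X _ y (TopologicalSpace.Opens.mem_top y), map_sum] at hy
        exact (IsLocalRing.notMem_maximalIdeal.2 hy) (sum_mem fun i _ => by
          rw [map_mul]; exact Ideal.mul_mem_left _ _ ((IsLocalRing.mem_maximalIdeal _).2 (hz i)))
    rw [heq]
    exact hT.basicOpen _
  choose a hxa haff using key
  have : IsAffineHom U.ι := isAffineHom_of_forall_exists_isAffineOpen _ fun x =>
    ⟨X.basicOpen (a x), hxa x, hT.basicOpen _, by
      rw [← U.ι.isAffineOpen_iff_of_isOpenImmersion, Scheme.Hom.image_preimage_eq_opensRange_inf, Scheme.Opens.opensRange_ι]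
      exact haff x⟩
  exact isAffine_of_isAffineHom U.ι

end Groth.Agent.VarGal
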