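import Groth.Agent.Props58.Stalks
import Groth.Agent.VarGal.LocalImm
import Mathlib.AlgebraicGeometry.Morphisms.QuasiSeparated

/-! Stalk isomorphisms from an affine scheme: consistency at common generizations. -/

universe u
open CategoryTheory AlgebraicGeometry TopologicalSpace
set_option backward.isDefEq.respectTransparency.types false

namespace Groth.Agent.VarGal

theorem isIso_stalkMap_congr {X Y : Scheme.{u}} {f g : X ⟶ Y} (h : f = g) (x : X) [IsIso (g.stalkMap x)] :
    IsIso (f.stalkMap x) := by subst h; infer_instance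

theorem exists_lift_of_isIso_stalkMap {T X : Scheme.{u}} (f : T ⟶ X) {t : T} (ht : IsIso (f.stalkMap t))
    {z : X} (hz : z ⤳ f t) : ∃ u : T, u ⤳ t ∧ f u = z ∧ IsIso (f.stalkMap u) := by
  obtain ⟨p, rfl⟩ : z ∈ Set.range (X.fromSpecStalk (f t)) := by rw [Scheme.range_fromSpecStalk]; exact hz
  let g := Spec.map (f.stalkMap t)
  obtain ⟨q, rfl⟩ := g.surjective p
  refine ⟨T.fromSpecStalk t q, ?_, ?_, ?_⟩
  · exact Scheme.range_fromSpecStalk.le ⟨q, rfl⟩
  · rw [← Scheme.Hom.comp_apply, ← Scheme.SpecMap_stalkMap_fromSpecStalk, Scheme.Hom.comp_apply]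
  · have h1 := Props58.isIso_stalkMap_fromSpecStalk X (f t) (g q)
    have h2 : IsIso ((g ≫ X.fromSpecStalk (f t)).stalkMap q) := by
      rw [Scheme.Hom.stalkMap_comp]
      exact @IsIso.comp_isIso _ _ _ _ _ _ _ h1 (inferInstanceAs (IsIso (g.stalkMap q)))
    have h3 := @isIso_stalkMap_congr _ _ _ _ (Scheme.SpecMap_stalkMap_fromSpecStalk f (x := t)).symm q h2
    rw [Scheme.Hom.stalkMap_comp] at h3
    have h4 := Props58.isIso_stalkMap_fromSpecStalk T t q
    exact @IsIso.of_isIso_comp_right _ _ _ _ _ _ ((T.fromSpecStalk t).stalkMap q) h4 h3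

theorem maximal_of_isIso_stalkMap {T X : Scheme.{u}} (f : T ⟶ X) {η : T} (h : IsIso (f.stalkMap η))
    (hmax : ∀ y : X, y ⤳ f η → y = f η) : ∀ w : T, w ⤳ η → w = η := by
  intro w hw
  obtain ⟨q, rfl⟩ : w ∈ Set.range (T.fromSpecStalk η) := by rw [Scheme.range_fromSpecStalk]; exact hw
  have h1 : f (T.fromSpecStalk η q) = f η := hmax _ (hw.map f.continuous)
  have h2 : X.fromSpecStalk (f η) (Spec.map (f.stalkMap η) q) =
      X.fromSpecStalk (f η) (Spec.map (f.stalkMap η) (IsLocalRing.closedPoint (T.presheaf.stalk η))) := by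
    rw [← Scheme.Hom.comp_apply, ← Scheme.Hom.comp_apply, Scheme.SpecMap_stalkMap_fromSpecStalk,
      Scheme.Hom.comp_apply, Scheme.Hom.comp_apply, Scheme.fromSpecStalk_closedPoint, h1]
  rw [(Spec.map (f.stalkMap η)).isEmbedding.injective ((X.fromSpecStalk (f η)).isEmbedding.injective h2),
    Scheme.fromSpecStalk_closedPoint]

theorem isNilpotent_of_forall_maximal {X : Scheme.{u}} {z : X} (d : X.presheaf.stalk z)
    (h : ∀ η : X, (∀ y, y ⤳ η → y = η) → ∀ hη : η ⤳ z, X.presheaf.stalkSpecializes hη d = 0) :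
    IsNilpotent d := by
  obtain ⟨V, hzV, σ, rfl⟩ := X.presheaf.exists_germ_eq d
  refine nilpotent_iff_mem_prime.2 fun P hP => ?_
  by_contra hd
  let p : Spec (X.presheaf.stalk z) := ⟨P, hP⟩
  have hmem : X.fromSpecStalk z p ∈ X.basicOpen σ := by
    show p ∈ X.fromSpecStalk z ⁻¹ᵁ X.basicOpen σ
    rw [Scheme.preimage_basicOpen, Scheme.fromSpecStalk_app hzV]
    simp only [CommRingCat.comp_apply, Scheme.basicOpen_res, basicOpen_eq_of_affine]
    exact ⟨(Scheme.range_fromSpecStalk.le ⟨p, rfl⟩ : X.fromSpecStalk z p ⤳ z).mem_open V.2 hzV, hd⟩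
  obtain ⟨η, hη, hηmax⟩ := exists_maximal_generization_top (X.fromSpecStalk z p)
  have hηB := hη.mem_open (X.basicOpen σ).2 hmem
  have hηz : η ⤳ z := hη.trans (Scheme.range_fromSpecStalk.le ⟨p, rfl⟩)
  have h0 := h η hηmax hηz
  rw [TopCat.Presheaf.germ_stalkSpecializes_apply] at h0
  exact ((Scheme.mem_basicOpen X σ η (hηz.mem_open V.2 hzV)).1 hηB).ne_zero h0

variable {T X : Scheme.{u}} (f : T ⟶ X) (b : Γ(T, ⊤))

/-- `c` is the germ at `f t` of the function `b`. -/
def IsGermOf (t : T) (c : X.presheaf.stalk (f t)) : Prop :=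
  f.stalkMap t c = T.presheaf.germ ⊤ t trivial b

theorem exists_isGermOf {t : T} (ht : IsIso (f.stalkMap t)) : ∃ c, IsGermOf f b t c :=
  (ConcreteCategory.bijective_of_isIso (f.stalkMap t)).2 _

theorem stalkMap_specializes {t u : T} (hu : u ⤳ t) {c : X.presheaf.stalk (f t)} (hc : IsGermOf f b t c) :
    f.stalkMap u (X.presheaf.stalkSpecializes (hu.map f.continuous) c) = T.presheaf.germ ⊤ u trivial b := by
  rw [Scheme.Hom.stalkSpecializes_stalkMap_apply f u t hu, hc, TopCat.Presheaf.germ_stalkSpecializes_apply]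

theorem specializes_eq_of_common {t t' u : T} (hu : u ⤳ t) (hu' : u ⤳ t') (hiso : IsIso (f.stalkMap u))
    {c : X.presheaf.stalk (f t)} (hc : IsGermOf f b t c) {c' : X.presheaf.stalk (f t')} (hc' : IsGermOf f b t' c') :
    X.presheaf.stalkSpecializes (hu.map f.continuous) c = X.presheaf.stalkSpecializes (hu'.map f.continuous) c' :=
  (ConcreteCategory.bijective_of_isIso (f.stalkMap u)).1
    ((stalkMap_specializes f b hu hc).trans (stalkMap_specializes f b hu' hc').symm)

theorem mem_basicOpen_iff_isUnit {t u : T} (hu : u ⤳ t) {z : X} (hz : f u = z) (hzt : z ⤳ f t)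
    {c : X.presheaf.stalk (f t)} (hc : IsGermOf f b t c) :
    u ∈ T.basicOpen b ↔ IsUnit (X.presheaf.stalkSpecializes hzt c) := by
  subst hz
  rw [Scheme.mem_basicOpen T b u trivial, ← stalkMap_specializes f b hu hc]
  exact isUnit_map_iff (f.stalkMap u).hom _

variable [IsAffine T]
  (hinj : ∀ η η' : T, closure ({η} : Set T) ∈ irreducibleComponents (T : Type u) →
    closure ({η'} : Set T) ∈ irreducibleComponents (T : Type u) → f.base η = f.base η' → η = η')

include hinj in
omit [IsAffine T] in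
theorem isNilpotent_sub {t t' : T} (ht : IsIso (f.stalkMap t)) (ht' : IsIso (f.stalkMap t'))
    {z : X} (h : z ⤳ f t) (h' : z ⤳ f t')
    {c : X.presheaf.stalk (f t)} (hc : IsGermOf f b t c) {c' : X.presheaf.stalk (f t')} (hc' : IsGermOf f b t' c') :
    IsNilpotent (X.presheaf.stalkSpecializes h c - X.presheaf.stalkSpecializes h' c') := by
  refine isNilpotent_of_forall_maximal _ fun η hη hηz => ?_
  obtain ⟨a, ha, rfl, hai⟩ := exists_lift_of_isIso_stalkMap f ht (hηz.trans h)
  obtain ⟨a', ha', he, hai'⟩ := exists_lift_of_isIso_stalkMap f ht' (hηz.trans h')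
  have haa : a = a' := hinj a a'
    ((closure_singleton_mem_irreducibleComponents_iff _).2 (maximal_of_isIso_stalkMap f hai hη))
    ((closure_singleton_mem_irreducibleComponents_iff _).2
      (maximal_of_isIso_stalkMap f hai' (by rw [he]; exact hη))) he.symm
  subst haa
  rw [map_sub, TopCat.Presheaf.stalkSpecializes_comp_apply, TopCat.Presheaf.stalkSpecializes_comp_apply, sub_eq_zero]
  exact specializes_eq_of_common f b ha ha' hai hc hc'

include hinj in
theorem stalkSpecializes_eq {t t' : T} (ht : IsIso (f.stalkMap t)) (ht' : IsIso (f.stalkMap t'))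
    {z : X} (h : z ⤳ f t) (h' : z ⤳ f t')
    {c : X.presheaf.stalk (f t)} (hc : IsGermOf f b t c) {c' : X.presheaf.stalk (f t')} (hc' : IsGermOf f b t' c') :
    X.presheaf.stalkSpecializes h c = X.presheaf.stalkSpecializes h' c' := by
  obtain ⟨u, hu, rfl, hui⟩ := exists_lift_of_isIso_stalkMap f ht h
  obtain ⟨u', hu', he, hui'⟩ := exists_lift_of_isIso_stalkMap f ht' h'
  have key : ∀ a : Γ(T, ⊤), u ∈ T.basicOpen a ↔ u' ∈ T.basicOpen a := by
    intro a
    obtain ⟨d, hd⟩ := exists_isGermOf f a ht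
    obtain ⟨d', hd'⟩ := exists_isGermOf f a ht'
    rw [mem_basicOpen_iff_isUnit f a hu rfl h hd, mem_basicOpen_iff_isUnit f a hu' he h' hd']
    have hn := isNilpotent_sub f a hinj ht ht' h h' hd hd'
    exact ⟨fun hh => by simpa using hn.neg.isUnit_add_left_of_commute hh (Commute.all _ _),
      fun hh => by simpa using hn.isUnit_add_left_of_commute hh (Commute.all _ _)⟩
  have huu : u = u' := by
    refine (Inseparable.eq ((inseparable_iff_forall_isOpen).2 fun W hW => ?_))
    constructor <;> intro hmem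
    · obtain ⟨a, ha, hau⟩ := (isAffineOpen_top T).exists_basicOpen_le (V := ⟨W, hW⟩) ⟨u, hmem⟩ trivial
      exact ha ((key a).1 hau)
    · obtain ⟨a, ha, hau⟩ := (isAffineOpen_top T).exists_basicOpen_le (V := ⟨W, hW⟩) ⟨u', hmem⟩ trivial
      exact ha ((key a).2 hau)
  subst huu
  exact specializes_eq_of_common f b hu hu' hui hc hc'

end Groth.Agent.VarGal
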